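import Mathlib

/-!
# Groups whose involution centralisers are 2-groups: elementary facts

`CIT G`: every involution centraliser is a 2-group.  `OddFpf φ`: in an action by automorphisms every nontrivial
element of odd order fixes only the identity.
-/

set_option autoImplicit false
set_option linter.all false

namespace CfsgLib.CIT

open Subgroup

variable {G : Type*} [Group G]

/-- Centralisers of involutions are 2-groups. -/
def CIT (G : Type*) [Group G] : Prop :=
  ∀ t : G, orderOf t = 2 → IsPGroup 2 (centralizer ({t} : Set G))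

/-- Nontrivial elements of odd order act without fixed points. -/
def OddFpf {Y V : Type*} [Group Y] [Group V] (φ : Y →* MulAut V) : Prop :=
  ∀ y : Y, Odd (orderOf y) → y ≠ 1 → ∀ v : V, φ y v = v → v = 1

theorem eq_one_of_odd_of_pGroup {P : Subgroup G} (hP : IsPGroup 2 P) {x : G} (hx : x ∈ P)
    (hodd : Odd (orderOf x)) : x = 1 := by
  obtain ⟨k, hk⟩ := hP ⟨x, hx⟩
  have hk' : x ^ 2 ^ k = 1 := congrArg Subtype.val hk
  have h1 : orderOf x ∣ 2 ^ k := orderOf_dvd_of_pow_eq_one hk'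
  obtain ⟨j, -, hj⟩ := (Nat.dvd_prime_pow Nat.prime_two).1 h1
  rcases Nat.eq_zero_or_pos j with rfl | hpos
  · exact orderOf_eq_one_iff.1 (by simpa using hj)
  · rw [hj] at hodd
    exact absurd hodd (Nat.not_odd_iff_even.2 (even_two.pow_of_ne_zero hpos.ne'))

theorem orderOf_two_pow_of_mem {P : Subgroup G} (hP : IsPGroup 2 P) {x : G} (hx : x ∈ P) :
    ∃ k, orderOf x = 2 ^ k := by
  obtain ⟨k, hk⟩ := hP ⟨x, hx⟩
  have hk' : x ^ 2 ^ k = 1 := congrArg Subtype.val hk
  obtain ⟨j, -, hj⟩ := (Nat.dvd_prime_pow Nat.prime_two).1 (orderOf_dvd_of_pow_eq_one hk')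
  exact ⟨j, hj⟩

theorem exists_involution_pow {x : G} {k : ℕ} (hk : orderOf x = 2 ^ k) (hx : x ≠ 1) :
    ∃ m : ℕ, orderOf (x ^ m) = 2 := by
  rcases k with _ | k
  · exact absurd (orderOf_eq_one_iff.1 (by simpa using hk)) hx
  · refine ⟨2 ^ k, ?_⟩
    rw [orderOf_pow_of_dvd (pow_ne_zero _ two_ne_zero) (hk ▸ pow_dvd_pow 2 k.le_succ), hk,
      Nat.pow_div k.le_succ two_pos]
    simp

theorem CIT.eq_one (h : CIT G) {x r : G} (hx : Odd (orderOf x)) (hx1 : x ≠ 1) {k : ℕ}
    (hr : orderOf r = 2 ^ k) (hc : x * r = r * x) : r = 1 := by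
  by_contra hr1
  obtain ⟨m, hm⟩ := exists_involution_pow hr hr1
  refine hx1 (eq_one_of_odd_of_pGroup (h _ hm) ?_ hx)
  rw [mem_centralizer_singleton_iff]
  exact ((Commute.pow_right (hc : Commute x r) m).eq)

/-- An element of odd order centralises no nontrivial element of a 2-subgroup. -/
theorem CIT.eq_one_of_mem (h : CIT G) {x r : G} (hx : Odd (orderOf x)) (hx1 : x ≠ 1) {P : Subgroup G}
    (hP : IsPGroup 2 P) (hr : r ∈ P) (hc : x * r = r * x) : r = 1 := by
  obtain ⟨k, hk⟩ := orderOf_two_pow_of_mem hP hr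
  exact h.eq_one hx hx1 hk hc

/-- The centraliser of a nontrivial 2-element is a 2-group. -/
theorem CIT.centralizer_pGroup (h : CIT G) {r : G} {k : ℕ} (hr : orderOf r = 2 ^ k) (hr1 : r ≠ 1) :
    IsPGroup 2 (centralizer ({r} : Set G)) := by
  obtain ⟨m, hm⟩ := exists_involution_pow hr hr1
  refine (h _ hm).to_le fun x hx => ?_
  rw [mem_centralizer_singleton_iff] at hx ⊢
  exact ((Commute.pow_right (hx : Commute x r) m).eq)

theorem CIT.subgroup (h : CIT G) (X : Subgroup G) : CIT X := by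
  intro t ht
  have ht' : orderOf (t : G) = 2 := by rwa [orderOf_coe]
  intro x
  have hx : ((x : X) : G) ∈ centralizer ({(t : G)} : Set G) := by
    have := x.2
    rw [mem_centralizer_singleton_iff] at this ⊢
    exact congrArg Subtype.val this
  obtain ⟨k, hk⟩ := h _ ht' ⟨_, hx⟩
  exact ⟨k, Subtype.ext (Subtype.ext (by simpa using congrArg Subtype.val hk))⟩

/-- A power of `x` is the 2-part, the complementary power the odd part. -/
theorem exists_odd_power [Finite G] (x : G) (hx : ∀ k : ℕ, orderOf x ≠ 2 ^ k) :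
    ∃ m : ℕ, Odd (orderOf (x ^ m)) ∧ x ^ m ≠ 1 := by
  obtain ⟨e, m, hm, he⟩ := Nat.exists_eq_two_pow_mul_odd (orderOf_pos x).ne'
  have h1 : orderOf (x ^ 2 ^ e) = m := by
    rw [orderOf_pow_of_dvd (pow_ne_zero _ two_ne_zero) (he ▸ dvd_mul_right _ _), he,
      Nat.mul_div_cancel_left _ (pow_pos two_pos e)]
  refine ⟨2 ^ e, h1 ▸ hm, fun h => ?_⟩
  rw [h, orderOf_one] at h1
  exact hx e (by rw [he, ← h1, mul_one])

section Action

variable {Y V : Type*} [Group Y] [Group V] (φ : Y →* MulAut V)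

/-- The points fixed by `y`. -/
def fixSub (y : Y) : Subgroup V where
  carrier := {v | φ y v = v}
  one_mem' := map_one _
  mul_mem' := fun {a b} ha hb => by
    show φ y (a * b) = a * b
    rw [map_mul, ha, hb]
  inv_mem' := fun {a} ha => by
    show φ y a⁻¹ = a⁻¹
    rw [map_inv, ha]

theorem mem_fixSub {y : Y} {v : V} : v ∈ fixSub φ y ↔ φ y v = v := Iff.rfl

theorem apply_mul (y z : Y) (v : V) : φ (y * z) v = φ y (φ z v) := by
  rw [map_mul, MulAut.mul_apply]

theorem map_fixSub_conj (g y : Y) :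
    (fixSub φ y).map (φ g).toMonoidHom = fixSub φ (g * y * g⁻¹) := by
  ext v
  constructor
  · rintro ⟨w, hw, rfl⟩
    show φ (g * y * g⁻¹) (φ g w) = φ g w
    rw [← apply_mul, inv_mul_cancel_right, apply_mul, hw]
  · intro hv
    refine ⟨φ g⁻¹ v, ?_, ?_⟩
    · show φ y (φ g⁻¹ v) = φ g⁻¹ v
      conv_rhs => rw [← hv]
      rw [← apply_mul, ← apply_mul]
      congr 2
      group
    · show φ g (φ g⁻¹ v) = v
      rw [← apply_mul, mul_inv_cancel, map_one]
      rfl

/-- A 2-element fixes a nontrivial element of a nontrivial finite 2-group. -/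
theorem exists_fixed [Finite V] [Nontrivial V] (hV : IsPGroup 2 V) (P : Subgroup Y) (hP : IsPGroup 2 P) :
    ∃ v : V, v ≠ 1 ∧ ∀ y ∈ P, φ y v = v := by
  letI : MulAction P V :=
    { smul := fun y v => φ (y : Y) v
      one_smul := fun v => by show φ ((1 : P) : Y) v = v; simp
      mul_smul := fun y z v => apply_mul φ (y : Y) (z : Y) v }
  haveI : Fact (Nat.Prime 2) := ⟨Nat.prime_two⟩
  have h2 : 2 ∣ Nat.card V := by
    obtain ⟨n, hn, hcard⟩ := hV.exists_card_eq.imp fun n hn => And.intro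
      (show n ≠ 0 from fun h0 => by
        rw [h0, pow_zero] at hn
        exact absurd hn (Finite.one_lt_card).ne') hn
    rw [hcard]
    exact dvd_pow_self 2 hn
  obtain ⟨v, hv, hv1⟩ := hP.exists_fixed_point_of_prime_dvd_card_of_fixed_point V h2 (a := 1)
    (fun y => map_one (φ (y : Y)))
  exact ⟨v, Ne.symm hv1, fun y hy => hv ⟨y, hy⟩⟩

theorem exists_fixed_one [Finite V] [Finite Y] [Nontrivial V] (hV : IsPGroup 2 V) {u : Y}
    (hu : orderOf u = 2) : ∃ v : V, v ≠ 1 ∧ φ u v = v := by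
  obtain ⟨v, hv1, hv⟩ := exists_fixed φ hV (zpowers u)
    (IsPGroup.of_card (n := 1) (by rw [Nat.card_zpowers, hu, pow_one]))
  exact ⟨v, hv1, hv u (mem_zpowers u)⟩

/-- In an abelian group, an operator of order 3 without fixed points has norm zero. -/
theorem norm_eq_one (hab : ∀ a b : V, a * b = b * a) (hf : OddFpf φ) {x : Y} (hx : orderOf x = 3) (v : V) :
    v * φ x v * φ (x * x) v = 1 := by
  refine hf x (by rw [hx]; decide) (fun h => by rw [h, orderOf_one] at hx; norm_num at hx) _ ?_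
  have h3 : x * (x * x) = 1 := by rw [← pow_three, ← hx, pow_orderOf_eq_one]
  rw [map_mul, map_mul, ← apply_mul, ← apply_mul, h3, map_one, MulAut.one_apply, hab _ v, ← mul_assoc]

/-- The key lemma: the three involutions of a four-group normalised by an operator of order 3 have
the same fixed points. -/
theorem fixed_conj (hab : ∀ a b : V, a * b = b * a) (hf : OddFpf φ) {x u : Y} (hx : orderOf x = 3)
    (hu : u * u = 1) (hrel : (x⁻¹ * u * x) * u = x * u * x⁻¹) {v : V} (hv : φ u v = v) :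
    φ (x * u * x⁻¹) v = v := by
  have hsq : (x * u) * (x * u) = (x * x) * (x * u * x⁻¹) := by rw [← hrel]; group
  have h3 : (x * u) * ((x * u) * (x * u)) = 1 := by
    have hx3 : x * (x * x) = 1 := by rw [← pow_three, ← hx, pow_orderOf_eq_one]
    have h1 : x * x = x⁻¹ := eq_inv_of_mul_eq_one_right hx3
    rw [hsq, h1]
    calc (x * u) * (x⁻¹ * (x * u * x⁻¹)) = x * (u * u) * x⁻¹ := by group
      _ = 1 := by rw [hu]; group
  have hne : x * u ≠ 1 := by
    intro h
    have h1 : x = u := by rw [eq_inv_of_mul_eq_one_left h, inv_eq_of_mul_eq_one_right hu]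
    have h2 : x ^ 2 = 1 := by rw [h1, pow_two, hu]
    have := orderOf_dvd_of_pow_eq_one h2
    rw [hx] at this
    norm_num at this
  haveI : Fact (Nat.Prime 3) := ⟨Nat.prime_three⟩
  have ho : orderOf (x * u) = 3 := orderOf_eq_prime (by rw [pow_three, h3]) hne
  have e1 := norm_eq_one φ hab hf ho v
  rw [apply_mul φ x u, hv, hsq, apply_mul φ (x * x)] at e1
  have e2 := norm_eq_one φ hab hf hx v
  exact (φ (x * x)).injective (mul_left_cancel (e1.trans e2.symm))

end Action

theorem card_mul_card_le [Finite G] (A B : Subgroup G) (h : A ⊓ B = ⊥) :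
    Nat.card A * Nat.card B ≤ Nat.card G := by
  rw [← Nat.card_prod]
  exact Nat.card_le_card_of_injective _ (mul_injective_of_disjoint (disjoint_iff.2 h))

/-- An automorphism of order 3 without fixed points: `g * f g * f (f g) = 1`. -/
theorem three_prod_eq_one [Finite G] (f : G ≃* G) (h3 : ∀ g, f (f (f g)) = g) (hfix : ∀ g, f g = g → g = 1)
    (g : G) : g * f g * f (f g) = 1 := by
  have hinj : Function.Injective fun h : G => h⁻¹ * f h := by
    intro a b hab
    have h1 : f (a * b⁻¹) = a * b⁻¹ := by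
      rw [map_mul, map_inv]
      calc f a * (f b)⁻¹ = a * (a⁻¹ * f a) * (f b)⁻¹ := by group
        _ = a * (b⁻¹ * f b) * (f b)⁻¹ := by rw [show a⁻¹ * f a = b⁻¹ * f b from hab]
        _ = a * b⁻¹ := by group
    exact mul_inv_eq_one.1 (hfix _ h1)
  obtain ⟨h, rfl⟩ := (Finite.injective_iff_surjective.1 hinj) g
  simp only [map_mul, map_inv, h3]
  group

/-- The images of two commuting elements under such an automorphism commute with them. -/
theorem three_commute [Finite G] (f : G ≃* G) (h3 : ∀ g, f (f (f g)) = g) (hfix : ∀ g, f g = g → g = 1)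
    {a b : G} (hab : a * b = b * a) : f a * b = b * f a := by
  have key : ∀ g : G, f (f g) = g⁻¹ * (f g)⁻¹ ∧ f (f g) = (f g)⁻¹ * g⁻¹ := by
    intro g
    have h1 := three_prod_eq_one f h3 hfix g
    have h2 := three_prod_eq_one f h3 hfix g⁻¹
    simp only [map_inv] at h2
    refine ⟨?_, ?_⟩
    · have h4 : f (f g) = (g⁻¹ * (f g)⁻¹ * (f (f g))⁻¹)⁻¹ * (g⁻¹ * (f g)⁻¹) := by group
      rwa [h2, inv_one, one_mul] at h4
    · have h4 : f (f g) = (f g)⁻¹ * g⁻¹ * (g * f g * f (f g)) := by group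
      rwa [h1, mul_one] at h4
  have hab' : f a * f b = f b * f a := by rw [← map_mul, hab, map_mul]
  have e2 : f (f a) * f (f b) = a⁻¹ * (f a)⁻¹ * (b⁻¹ * (f b)⁻¹) := by rw [(key a).1, (key b).1]
  have e3 : f (f a) * f (f b) = f (f (a * b)) := by simp only [map_mul]
  rw [(key (a * b)).1, e2, map_mul] at e3
  have e4 : a⁻¹ * (f a)⁻¹ * (b⁻¹ * (f b)⁻¹) = a⁻¹ * b⁻¹ * ((f a)⁻¹ * (f b)⁻¹) := by
    rw [e3]
    rw [mul_inv_rev, mul_inv_rev]
    have h1 : b⁻¹ * a⁻¹ = a⁻¹ * b⁻¹ := by rw [← mul_inv_rev, ← mul_inv_rev, hab]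
    have h2 : (f b)⁻¹ * (f a)⁻¹ = (f a)⁻¹ * (f b)⁻¹ := by rw [← mul_inv_rev, ← mul_inv_rev, hab']
    rw [h1, h2]
  have e5 : (f a)⁻¹ * b⁻¹ = b⁻¹ * (f a)⁻¹ := by
    have := congrArg (fun z => a * z * f b) e4
    simpa [mul_assoc] using this
  have := congrArg Inv.inv e5
  simpa using this.symm

end CfsgLib.CIT
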