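import Cfsg.Agent.Lib.CIT.StrongEmb
import Cfsg.Agent.Lib.CIT.Basic
import Cfsg.Agent.Lib.Perm.ZassenhausKernelBound
import Cfsg.Agent.Lib.Perm.ZassenhausAbelianMain
import Cfsg.Agent.Lib.OddLocal.CNPartition
import Cfsg.Agent.Lib.OddLocal.CNQuotient
import Cfsg.Agent.Lib.Components.Char
import Cfsg.Agent.S0183
import Cfsg.Agent.S0215
import Cfsg.Agent.S1477

/-!
# CN groups of even order: centralisers of involutions are 2-groups

The kernel of a doubly transitive Zassenhaus group with odd two-point stabiliser is either a 2-group or has at most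
`2d + 1` elements; an even kernel with `d ∣ n - 1` then consists of involutions.
-/

set_option autoImplicit false
set_option linter.all false

namespace CfsgLib.CIT

open Subgroup
open CfsgLib.Signalizer (involution_sq involution_inv orderOf_eq_two_of orderOf_conj)

universe u

variable {G : Type u} [Group G] [Finite G]

/-- With at least two involutions, two of them commuting, the kernel is a 2-group. -/
theorem Embedded.isPGroup_two [IsSimpleGroup G] {M H : Subgroup G} (h : Embedded M H) (hi : 2 ≤ h.invCount)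
    (hcomm : ∃ s t : G, s ∈ M ∧ t ∈ M ∧ orderOf s = 2 ∧ orderOf t = 2 ∧ s ≠ t ∧ s * t = t * s)
    (hfaith : FaithfulSMul G (G ⧸ M)) : IsPGroup 2 H := by
  classical
  haveI : Fintype G := Fintype.ofFinite G
  have hcomm' := hcomm
  obtain ⟨s, -, hsM, -, hs, -⟩ := hcomm'
  obtain ⟨g, hg⟩ : ∃ g : G, g ∉ M := by
    by_contra hno
    push Not at hno
    exact h.se.1 (eq_top_iff.2 fun g _ => hno g)
  have hgo : ((1 : G) : G ⧸ M) ≠ (g : G ⧸ M) := fun e => hg (by simpa using (QuotientGroup.eq.1 e))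
  set o : G ⧸ M := ((1 : G) : G ⧸ M) with ho
  haveI : Fintype (G ⧸ M) := Fintype.ofFinite _
  have hZ := h.isZassenhaus hi hcomm hfaith
  have hd : Nat.card ↥(MulAction.stabilizer G o ⊓ MulAction.stabilizer G (g : G ⧸ M) : Subgroup G) = h.invCount :=
    h.card_two hgo
  have hodd : Odd (Nat.card ↥(MulAction.stabilizer G o ⊓ MulAction.stabilizer G (g : G ⧸ M) : Subgroup G)) := by
    rw [Nat.odd_iff]
    by_contra heven
    haveI : Fact (Nat.Prime 2) := ⟨Nat.prime_two⟩
    obtain ⟨⟨d, hd'⟩, hdo⟩ := exists_prime_orderOf_dvd_card' 2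
      (show 2 ∣ Nat.card ↥(MulAction.stabilizer G o ⊓ MulAction.stabilizer G (g : G ⧸ M) : Subgroup G) by omega)
    rw [Subgroup.orderOf_mk] at hdo
    have := h.odd_of_two hgo (h.mem_two.1 hd').1 (h.mem_two.1 hd').2
    rw [hdo] at this
    exact absurd this (by decide)
  have hKa : h.ker o ≤ MulAction.stabilizer G o := fun a ha =>
    MulAction.mem_stabilizer_iff.2 (h.fix_of_inH (h.mem_ker.1 ha))
  have hKc : Nat.card (h.ker o) + 1 = Fintype.card (G ⧸ M) := by
    rw [h.card_ker, ← Nat.card_eq_fintype_card, h.card_points hi]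
  have hKfix : ∀ u ∈ h.ker o, u ≠ 1 → ∀ c : G ⧸ M, u • c = c → c = o := fun u hu hu1 c hc => by
    by_contra hne
    exact hu1 (h.semireg (h.mem_ker.1 hu) hc (Ne.symm hne))
  rcases CfsgLib.Perm.zass_kernel_bound hZ hgo hodd hKa hKc hKfix with hsmall | ⟨h2, -, -⟩
  · -- all nontrivial elements of `H` are involutions
    have hdvd := CfsgLib.Perm.zass_card_two_stab_dvd hZ hgo
    rw [hd] at hsmall hdvd hodd
    rw [← hKc, h.card_ker] at hsmall hdvd
    have hHs : s ∈ H := h.involution_mem s hsM hs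
    have heven : 2 ∣ Nat.card H := hs ▸ Subgroup.orderOf_dvd_natCard _ hHs
    obtain ⟨k, hk⟩ := hdvd
    have hH2 : 2 ≤ Nat.card H := Nat.le_of_dvd Nat.card_pos heven
    have hk1 : k = 1 := by
      rcases k with _ | _ | _ | k
      · omega
      · rfl
      · exfalso; obtain ⟨j, hj⟩ := heven; omega
      · exfalso
        have : h.invCount * 3 ≤ h.invCount * (k + 1 + 1 + 1) := Nat.mul_le_mul_left _ (by omega)
        omega
    subst hk1
    have hinvH : h.invCount ≤ Nat.card {x : H // x ≠ 1} := by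
      refine Nat.card_le_card_of_injective (fun t : {t : G // orderOf t = 2 ∧ t ∈ M} =>
        (⟨⟨t.1, h.involution_mem t.1 t.2.2 t.2.1⟩,
          fun e => Signalizer.involution_ne_one t.2.1 (congrArg Subtype.val e)⟩ : {x : H // x ≠ 1})) ?_
      intro a b e
      exact Subtype.ext (congrArg (fun r : {x : H // x ≠ 1} => ((r.1 : H) : G)) e)
    have hne : Nat.card {x : H // x ≠ 1} = Nat.card H - 1 := by
      haveI := Fintype.ofFinite H
      simp [Nat.card_eq_fintype_card, Fintype.card_subtype_compl]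
    have hbij : Function.Surjective (fun t : {t : G // orderOf t = 2 ∧ t ∈ M} =>
        (⟨⟨t.1, h.involution_mem t.1 t.2.2 t.2.1⟩,
          fun e => Signalizer.involution_ne_one t.2.1 (congrArg Subtype.val e)⟩ : {x : H // x ≠ 1})) := by
      refine ((Nat.bijective_iff_injective_and_card _).2 ⟨fun a b e =>
        Subtype.ext (congrArg (fun r : {x : H // x ≠ 1} => ((r.1 : H) : G)) e), ?_⟩).2
      show h.invCount = _
      omega
    intro x
    by_cases hx : x = 1
    · exact ⟨0, by rw [hx, one_pow]⟩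
    · obtain ⟨⟨t, ht, htM⟩, he⟩ := hbij ⟨x, hx⟩
      have he' : t = (x : G) := congrArg (fun r : {x : H // x ≠ 1} => ((r.1 : H) : G)) he
      exact ⟨1, Subtype.ext (by rw [pow_one, coe_pow, ← he', pow_two, involution_sq ht, coe_one])⟩
  · have := isPGroup_cj (g := o.out⁻¹) h2
    rwa [Embedded.ker, cj_inv_cj] at this

/-- An isolated involution makes a CN group solvable. -/
theorem cn_isolated_solvable (hCN : Cfsg.IsCNGroup G) {S : Subgroup G} (hS : IsSyl S ⊤) {u : G} (hu : orderOf u = 2)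
    (huS : u ∈ S) (hiso : ∀ v ∈ S, orderOf v = 2 → v = u) : Group.IsSolvable G := by
  obtain ⟨N, hN, hNodd, hNc⟩ := Cfsg.Agent.S0215.result
    (⟨S, hS.2.1, fun {Q} hQ hle => hS.2.2 Q hle le_top hQ⟩ : Sylow 2 G) u hu huS
    (fun g hg => hiso _ hg ((orderOf_conj g u).trans hu))
  haveI := hN
  haveI : Group.IsSolvable N := Cfsg.Agent.S0183.result hNodd (CfsgLib.OddLocal.CN.cn_subgroup hCN N)
  have hu1 : (u : G ⧸ N) ≠ 1 := fun e => by
    have h2 := Subgroup.orderOf_dvd_natCard N ((QuotientGroup.eq_one_iff u).1 e)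
    rw [hu] at h2
    exact hNodd.not_two_dvd_nat h2
  have htop : centralizer ({(u : G ⧸ N)} : Set (G ⧸ N)) = ⊤ := by
    refine eq_top_iff.2 fun x _ => ?_
    obtain ⟨g, rfl⟩ := QuotientGroup.mk_surjective x
    rw [mem_centralizer_singleton_iff, ← QuotientGroup.mk_mul, ← QuotientGroup.mk_mul, QuotientGroup.eq]
    have h1 := hN.conj_mem _ (hNc g) (g * u)⁻¹
    convert h1 using 1
    group
  haveI hnil := CfsgLib.OddLocal.CN.cn_quotient hCN N inferInstance _ hu1
  rw [htop] at hnil
  haveI : Group.IsNilpotent (G ⧸ N) := Group.nilpotent_of_mulEquiv topEquiv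
  exact Group.isSolvable_of_ker_le_range N.subtype (QuotientGroup.mk' N)
    (by rw [QuotientGroup.ker_mk', range_subtype])

/-- A proper nontrivial normal CIT subgroup makes the kernel a 2-group. -/
theorem Embedded.isPGroup_two_of_normal {M H : Subgroup G} (h : Embedded M H) (hi : 2 ≤ h.invCount)
    (hH : Group.IsNilpotent H) {L : Subgroup G} [hLn : L.Normal] (hLC : CIT L) (h2 : 2 ∣ Nat.card L) :
    IsPGroup 2 H := by
  classical
  haveI : Fact (Nat.Prime 2) := ⟨Nat.prime_two⟩
  set o : G ⧸ M := ((1 : G) : G ⧸ M) with ho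
  obtain ⟨l, hl⟩ := exists_prime_orderOf_dvd_card' 2 h2
  have hlo : orderOf (l : G) = 2 := by rw [orderOf_coe, hl]
  -- all involutions lie in `L`
  have hall : ∀ a : G, orderOf a = 2 → a ∈ L := by
    intro a ha
    obtain ⟨p, hp⟩ := TwoGroups.SE.exists_fixed h.se hlo
    obtain ⟨q, hq⟩ := TwoGroups.SE.exists_fixed h.se ha
    obtain ⟨g, hg⟩ := MulAction.exists_smul_eq G q p
    have ha' : orderOf (g * a * g⁻¹) = 2 := (orderOf_conj g a).trans ha
    have hfix : (g * a * g⁻¹) • p = p := by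
      rw [mul_smul, mul_smul, inv_smul_eq_iff.2 hg.symm, hq, hg]
    obtain ⟨y, hy⟩ : ∃ y, p ≠ y := by
      obtain ⟨g0, hg0⟩ : ∃ g0 : G, g0 ∉ M := by
        by_contra hno
        push Not at hno
        exact h.se.1 (eq_top_iff.2 fun g _ => hno g)
      by_cases e : p = (g0 : G ⧸ M)
      · exact ⟨o, fun e' => hg0 (by simpa using (QuotientGroup.eq.1 (e'.symm.trans e)))⟩
      · exact ⟨_, e⟩
    obtain ⟨d, -, -, hd⟩ := TwoGroups.SE.exists_conj_fixing h.se hy hlo hp ha' hfix
    have h1 : g * a * g⁻¹ ∈ L := hd ▸ hLn.conj_mem _ l.2 d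
    have h2 := hLn.conj_mem _ h1 g⁻¹
    simpa [mul_assoc] using h2
  -- `L` is transitive
  have htr : ∀ p : G ⧸ M, ∃ a ∈ L, a • o = p := by
    intro p
    by_cases e : o = p
    · exact ⟨1, one_mem L, by rw [one_smul, e]⟩
    · obtain ⟨u, hu, huo, -⟩ := h.exists_swap e
      exact ⟨u, hall u hu, huo⟩
  have hfixo : ∀ g : G, g ∈ M ↔ g • o = o := fun g => by
    rw [ho, TwoGroups.SE.smul_mk_eq_iff]
    simp
  have hML : Nat.card (L ⧸ M.subgroupOf L) = Nat.card (G ⧸ M) := by
    have hst : MulAction.stabilizer L o = M.subgroupOf L := by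
      ext a
      rw [MulAction.mem_stabilizer_iff, mem_subgroupOf, hfixo]
      rfl
    rw [← hst, ← index_eq_card, MulAction.index_stabilizer, ← Set.ncard_univ]
    congr 1
    refine Set.eq_univ_of_forall fun p => ?_
    obtain ⟨a, ha, hap⟩ := htr p
    exact ⟨⟨a, ha⟩, hap⟩
  have hse : Cfsg.IsStronglyEmbedded (M.subgroupOf L) := by
    refine ⟨fun e => ?_, ?_, fun g hg => ?_⟩
    · have h1 : Nat.card (L ⧸ M.subgroupOf L) = 1 := by rw [← index_eq_card, e, index_top]
      rw [hML, h.card_points hi] at h1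
      have := Nat.card_pos (α := H)
      omega
    · obtain ⟨t, ht, htM⟩ := (Nat.card_pos_iff.1 (show 0 < h.invCount by omega)).1
      refine even_iff_two_dvd.2 ?_
      have := Subgroup.orderOf_dvd_natCard (M.subgroupOf L) (show (⟨t, hall t ht⟩ : L) ∈ M.subgroupOf L from htM)
      rwa [Subgroup.orderOf_mk, ht] at this
    · rw [Nat.odd_iff]
      by_contra heven
      obtain ⟨⟨i, hi12⟩, hi'⟩ := exists_prime_orderOf_dvd_card' 2
        (show 2 ∣ Nat.card ↥(M.subgroupOf L ⊓ (M.subgroupOf L).map (MulAut.conj g).toMonoidHom) by omega)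
      rw [Subgroup.orderOf_mk] at hi'
      obtain ⟨hi1, hi2⟩ := hi12
      have hio : orderOf (i : G) = 2 := by rw [orderOf_coe, hi']
      have hi3 : ((g : G)⁻¹ * (i : G) * (g : G)) ∈ M := mem_subgroupOf.1 (mem_cj.1 hi2)
      exact Signalizer.involution_ne_one hio (h.ti (g : G) hg (i : G) (h.involution_mem _ hi1 hio)
        (h.involution_mem _ hi3 (by
          rw [show (g : G)⁻¹ * (i : G) * g = (g : G)⁻¹ * i * (g : G)⁻¹⁻¹ by rw [inv_inv], orderOf_conj, hio])))
  have hE : Embedded (M.subgroupOf L) (H.subgroupOf L) := by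
    refine ⟨hse, fun a ha => h.hle ha, fun a ha => ?_, fun a ha hao => ?_, fun a ha ha1 c hc => ?_,
      fun g hg a ha hga => Subtype.ext (h.ti (g : G) hg (a : G) ha hga)⟩
    · rw [mem_normalizer_iff]
      intro x
      rw [mem_subgroupOf, mem_subgroupOf]
      exact mem_normalizer_iff.1 (h.norm ha) (x : G)
    · exact h.involution_mem (a : G) ha (by rw [orderOf_coe, hao])
    · rw [mem_centralizer_singleton_iff] at hc
      exact h.cl (a : G) ha (fun e => ha1 (Subtype.ext e))
        (mem_centralizer_singleton_iff.2 (congrArg Subtype.val hc :))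
  have hiL : hE.invCount = h.invCount := Nat.card_congr
    { toFun := fun t => ⟨t.1.1, by rw [orderOf_coe, t.2.1], t.2.2⟩
      invFun := fun t => ⟨⟨t.1, hall t.1 t.2.1⟩, by rw [Subgroup.orderOf_mk, t.2.1], t.2.2⟩
      left_inv := fun t => rfl
      right_inv := fun t => rfl }
  have hc := hE.card_points (hiL ▸ hi)
  rw [hML, h.card_points hi] at hc
  have hHL : H ≤ L := by
    have e : H ⊓ L = H := eq_of_le_of_card_ge inf_le_left (by
      rw [← inf_subgroupOf_right, Nat.card_congr (subgroupOfEquivOfLe inf_le_right).toEquiv] at hc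
      omega)
    exact e ▸ inf_le_right
  obtain ⟨t, ht, htM⟩ := (Nat.card_pos_iff.1 (show 0 < h.invCount by omega)).1
  have htH := h.involution_mem t htM ht
  -- odd elements of the nilpotent `H` centralise the involutions of `H`
  intro x
  by_contra hno
  obtain ⟨m, hm, hm1⟩ := exists_odd_power (x : G) fun k hk => hno ⟨k, Subtype.ext (by
    rw [coe_pow, coe_one, ← hk, pow_orderOf_eq_one])⟩
  have hcop : Nat.Coprime (orderOf (x ^ m)) (orderOf (⟨t, htH⟩ : H)) := by
    rw [← orderOf_coe, coe_pow, Subgroup.orderOf_mk, ht]; exact Nat.coprime_two_right.2 hm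
  have hc' := congrArg Subtype.val (CfsgLib.OddLocal.commute_of_coprime_orderOf hH hcop).eq
  have h1 := hLC.eq_one (x := (⟨(x : G) ^ m, pow_mem (hHL x.2) m⟩ : L)) (r := ⟨t, hall t ht⟩)
    (by rw [Subgroup.orderOf_mk]; exact hm) (fun e => hm1 (congrArg Subtype.val e)) (k := 1)
    (by rw [Subgroup.orderOf_mk, ht, pow_one]) (Subtype.ext (by simpa using hc'))
  exact Signalizer.involution_ne_one ht (congrArg Subtype.val h1)

/-- In a CN group without nontrivial solvable normal subgroups the involution centralisers are 2-groups. -/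
theorem cn_cit_of_no_solvable {G : Type u} [Group G] [Finite G] (hCN : Cfsg.IsCNGroup G)
    (hR : ∀ N : Subgroup G, N.Normal → Group.IsSolvable N → N = ⊥) : CIT G := by
  classical
  suffices key : ∀ n, ∀ (G : Type u) [Group G] [Finite G], Nat.card G = n → Cfsg.IsCNGroup G →
      (∀ N : Subgroup G, N.Normal → Group.IsSolvable N → N = ⊥) → CIT G from key _ G rfl hCN hR
  clear hR hCN
  intro n
  induction n using Nat.strong_induction_on with
  | _ n ih =>
  intro G _ _ hcard hCN hR
  haveI : Fact (Nat.Prime 2) := ⟨Nat.prime_two⟩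
  intro t ht
  obtain ⟨H, hCH, hH, hmax⟩ := CfsgLib.OddLocal.CNSimple.exists_maximal_nilpotent_ge
    (hCN t (Signalizer.involution_ne_one ht))
  obtain ⟨hco, htiH, hclH⟩ := Cfsg.Agent.S1477.result hCN H hH hmax
  have htH : t ∈ H := hCH (mem_centralizer_singleton_iff.2 rfl)
  have h2H : 2 ∣ Nat.card H := ht ▸ Subgroup.orderOf_dvd_natCard _ htH
  have hfin : IsPGroup 2 H → IsPGroup 2 (centralizer ({t} : Set G)) := fun hp => hp.to_le hCH
  by_cases hpp : IsPrimePow (Nat.card H)
  · obtain ⟨p, k, hp, -, hk⟩ := hpp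
    have : 2 = p := (Nat.prime_dvd_prime_iff_eq Nat.prime_two hp.nat_prime).1
      (Nat.prime_two.dvd_of_dvd_pow (hk ▸ h2H))
    exact hfin (IsPGroup.of_card (n := k) (by rw [← hk, this]))
  have hH1 : Nat.card H ≠ 1 := fun e => by rw [e] at h2H; omega
  have hTI := htiH hpp hH1
  have hcl := hclH hTI
  set M := normalizer (H : Set G) with hM
  have hodd : Odd (H.relIndex M) := by
    rw [Nat.odd_iff]
    by_contra heven
    have h1 : 2 ∣ H.index := (show 2 ∣ H.relIndex M by omega).trans
      (Subgroup.relIndex_dvd_index_of_le (le_normalizer : H ≤ M))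
    have := Nat.dvd_gcd h2H h1
    rw [hco.gcd_eq_one] at this
    omega
  have hinvM : ∀ i ∈ M, orderOf i = 2 → i ∈ H := by
    intro i hiM hi
    haveI : (H.subgroupOf M).Normal := normal_subgroupOf_iff_le_normalizer le_normalizer |>.2 le_rfl
    have h1 : orderOf ((⟨i, hiM⟩ : M) : M ⧸ H.subgroupOf M) ∣ 2 :=
      (orderOf_map_dvd (QuotientGroup.mk' (H.subgroupOf M)) ⟨i, hiM⟩).trans (by rw [Subgroup.orderOf_mk, hi])
    have h2 : orderOf ((⟨i, hiM⟩ : M) : M ⧸ H.subgroupOf M) ∣ H.relIndex M := orderOf_dvd_natCard _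
    have h3 := Nat.dvd_gcd h1 h2
    rw [(Nat.coprime_two_left.2 hodd).gcd_eq_one, Nat.dvd_one, orderOf_eq_one_iff, QuotientGroup.eq_one_iff,
      mem_subgroupOf] at h3
    exact h3
  have hMsolv : Group.IsSolvable M := by
    haveI := hH
    haveI : (H.subgroupOf M).Normal := normal_subgroupOf_iff_le_normalizer le_normalizer |>.2 le_rfl
    haveI : Group.IsSolvable (H.subgroupOf M) :=
      Group.isSolvable_of_isSolvable_injective (f := (subgroupOfEquivOfLe (le_normalizer : H ≤ M)).toMonoidHom) (subgroupOfEquivOfLe (le_normalizer : H ≤ M)).injective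
    haveI : Group.IsSolvable (M ⧸ H.subgroupOf M) := Cfsg.Agent.S0183.result
      (by rw [← index_eq_card]; exact hodd)
      (CfsgLib.OddLocal.CN.cn_quotient (CfsgLib.OddLocal.CN.cn_subgroup hCN M) (H.subgroupOf M) inferInstance)
    exact Group.isSolvable_of_ker_le_range (H.subgroupOf M).subtype (QuotientGroup.mk' (H.subgroupOf M))
      (by rw [QuotientGroup.ker_mk', range_subtype])
  have hMtop : M ≠ ⊤ := fun e => by
    rw [e] at hMsolv
    haveI := hMsolv
    have : Group.IsSolvable G := Group.isSolvable_of_surjective (f := (topEquiv (G := G)).toMonoidHom) (topEquiv (G := G)).surjective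
    have h1 := hR ⊤ inferInstance inferInstance
    exact Signalizer.involution_ne_one ht (mem_bot.1 (h1 ▸ mem_top t))
  have hti : ∀ g : G, g ∉ M → ∀ h ∈ H, g⁻¹ * h * g ∈ H → h = 1 := fun g hg h hh hgh =>
    mem_bot.1 ((hTI g (fun e => hg (mem_normalizer_iff_cj.2 e))).le ⟨hh, mem_cj.2 hgh⟩)
  have hse : Cfsg.IsStronglyEmbedded M := by
    refine ⟨hMtop, even_iff_two_dvd.2 (h2H.trans (card_dvd_of_le le_normalizer)), fun g hg => ?_⟩
    rw [Nat.odd_iff]
    by_contra heven
    obtain ⟨⟨i, hi12⟩, hi⟩ := exists_prime_orderOf_dvd_card' 2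
      (show 2 ∣ Nat.card ↥(M ⊓ M.map (MulAut.conj g).toMonoidHom) by omega)
    rw [Subgroup.orderOf_mk] at hi
    obtain ⟨hi1, hi2⟩ := hi12
    have hi2' : g⁻¹ * i * g ∈ M := mem_cj.1 hi2
    exact Signalizer.involution_ne_one hi (hti g hg i (hinvM i hi1 hi)
      (hinvM _ hi2' (by rw [show g⁻¹ * i * g = g⁻¹ * i * g⁻¹⁻¹ by rw [inv_inv], orderOf_conj, hi])))
  have hE : Embedded M H := ⟨hse, le_normalizer, le_rfl, hinvM, hcl, hti⟩
  -- two commuting involutions in `H`
  obtain ⟨S, hS, htS⟩ := exists_isSyl (le_top : zpowers t ≤ ⊤)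
    (IsPGroup.of_card (n := 1) (by rw [Nat.card_zpowers, ht, pow_one]))
  have htS' : t ∈ S := htS (mem_zpowers t)
  by_cases hiso : ∀ v ∈ S, orderOf v = 2 → v = t
  · haveI := cn_isolated_solvable hCN hS ht htS' hiso
    exact absurd (mem_bot.1 ((hR ⊤ inferInstance inferInstance) ▸ mem_top t)) (Signalizer.involution_ne_one ht)
  push Not at hiso
  obtain ⟨v, hvS, hv, hvt⟩ := hiso
  haveI : Nontrivial S := (nontrivial_iff_ne_bot S).2 fun e => Signalizer.involution_ne_one ht (mem_bot.1 (e ▸ htS'))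
  haveI := hS.2.1.center_nontrivial
  obtain ⟨n, hn⟩ := (hS.2.1.to_subgroup (center S)).exists_card_eq
  have hc1 : 1 < Nat.card (center S) := Finite.one_lt_card
  obtain ⟨u0, hu0⟩ := exists_prime_orderOf_dvd_card' 2
    (show 2 ∣ Nat.card (center S) by rw [hn] at hc1 ⊢; exact dvd_pow_self 2 fun h0 => by rw [h0] at hc1; simp at hc1)
  set u : G := ((u0 : S) : G) with hu_def
  have hu : orderOf u = 2 := by rw [hu_def, orderOf_coe, orderOf_coe, hu0]
  have huc : ∀ w ∈ S, w * u = u * w := fun w hw => congrArg Subtype.val (mem_center_iff.1 u0.2 ⟨w, hw⟩)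
  have huH : u ∈ H := hCH (mem_centralizer_singleton_iff.2 (huc t htS').symm)
  have hvH : v ∈ H := hcl u huH (Signalizer.involution_ne_one hu) (mem_centralizer_singleton_iff.2 (huc v hvS))
  have hpair : ∃ s r : G, s ∈ M ∧ r ∈ M ∧ orderOf s = 2 ∧ orderOf r = 2 ∧ s ≠ r ∧ s * r = r * s := by
    by_cases hut : u = t
    · exact ⟨t, v, le_normalizer htH, le_normalizer hvH, ht, hv, Ne.symm hvt, hut ▸ (huc v hvS).symm⟩
    · exact ⟨t, u, le_normalizer htH, le_normalizer huH, ht, hu, Ne.symm hut, huc t htS'⟩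
  have hi : 2 ≤ hE.invCount := by
    obtain ⟨s, r, hs, hr, hso, hro, hne, -⟩ := hpair
    haveI : Nontrivial {x : G // orderOf x = 2 ∧ x ∈ M} :=
      ⟨⟨⟨s, hso, hs⟩, ⟨r, hro, hr⟩, fun e => hne (congrArg Subtype.val e)⟩⟩
    exact Finite.one_lt_card
  have hfaith : FaithfulSMul G (G ⧸ M) := by
    refine ⟨fun {a b} hab => ?_⟩
    haveI := hMsolv
    have hK : M.normalCore = ⊥ := hR M.normalCore inferInstance
      (Group.isSolvable_of_isSolvable_injective (f := inclusion (normalCore_le M)) (inclusion_injective _))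
    have hmem : b⁻¹ * a ∈ M.normalCore := by
      rw [normalCore_eq_ker, MonoidHom.mem_ker]
      ext p
      simp [mul_smul, hab p]
    rw [hK, mem_bot, inv_mul_eq_one] at hmem
    exact hmem.symm
  by_cases hsimp : ∀ L : Subgroup G, L.Normal → L = ⊥ ∨ L = ⊤
  · haveI : Nontrivial G := ⟨⟨t, 1, Signalizer.involution_ne_one ht⟩⟩
    haveI : IsSimpleGroup G := ⟨hsimp⟩
    exact hfin (hE.isPGroup_two hi hpair hfaith)
  push Not at hsimp
  obtain ⟨L, hL, hL1, hL2⟩ := hsimp
  haveI := hL
  have hLns : ¬ Group.IsSolvable L := fun hs => hL1 (hR L hL hs)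
  have hL2' : 2 ∣ Nat.card L := by
    by_contra h2
    exact hLns (Cfsg.Agent.S0183.result (Nat.odd_iff.2 (by omega)) (CfsgLib.OddLocal.CN.cn_subgroup hCN L))
  have hRL : ∀ N : Subgroup L, N.Normal → Group.IsSolvable N → N = ⊥ := by
    intro N hN hs
    haveI := hN
    haveI := hs
    haveI := CfsgLib.Components.solRadical_characteristic (G := L)
    haveI := CfsgLib.Components.solRadical_isSolvable (G := L)
    -- the solvable radical of `L` is normal in `G`
    have h1 : (CfsgLib.Components.solRadical L).map L.subtype = ⊥ := hR _ inferInstance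
      (Group.isSolvable_of_surjective (f := L.subtype.subgroupMap (CfsgLib.Components.solRadical L))
        (L.subtype.subgroupMap_surjective _))
    rw [map_eq_bot_iff_of_injective _ L.subtype_injective] at h1
    exact le_bot_iff.1 (h1 ▸ CfsgLib.Components.le_solRadical hN hs)
  have hLC := ih (Nat.card L) (hcard ▸ lt_of_le_of_ne (card_le_card_group L) fun e => hL2 (eq_top_of_card_eq L e)) L
    rfl (CfsgLib.OddLocal.CN.cn_subgroup hCN L) hRL
  exact hfin (hE.isPGroup_two_of_normal hi hH hLC hL2')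

/-- A simple nonabelian CN group has even order and is CIT. -/
theorem cn_simple [IsSimpleGroup G] (hna : ¬ IsMulCommutative G) (hCN : Cfsg.IsCNGroup G) :
    CIT G ∧ 2 ∣ Nat.card G := by
  have hns : ¬ Group.IsSolvable G := fun h => hna (IsSimpleGroup.comm_iff_isSolvable.2 h |> fun hc => ⟨⟨hc⟩⟩)
  refine ⟨cn_cit_of_no_solvable hCN fun N hN hs => ?_, ?_⟩
  · rcases hN.eq_bot_or_eq_top with e | e
    · exact e
    · rw [e] at hs
      haveI := hs
      exact absurd (Group.isSolvable_of_surjective (f := (topEquiv (G := G)).toMonoidHom) (topEquiv (G := G)).surjective) hns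
  · by_contra h2
    exact hns (Cfsg.Agent.S0183.result (Nat.odd_iff.2 (by omega)) hCN)

end CfsgLib.CIT
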