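import Cfsg.Agent.Lib.CIT.Plane

/-!
# Simple CIT groups of even order
-/

set_option autoImplicit false
set_option linter.all false

namespace CfsgLib.CIT

open Subgroup

/-- A simple CIT group of even order is `PSL(2, q)`, `PSL(3, 4)` or a Suzuki group. -/
theorem simple_cit {G : Type*} [Group G] [Finite G] [IsSimpleGroup G] (hna : ¬ IsMulCommutative G) (hC : CIT G)
    (h2 : 2 ∣ Nat.card G) : IsPSLTwoCIT G ∨ IsPSLThreeFour G ∨ Cfsg.IsSuzuki G := by
  by_cases hTI : TISylow G
  · rcases simple_ti hna hC h2 hTI with h | h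
    exacts [Or.inl h, Or.inr (Or.inr h)]
  have hL := localTI hC
  obtain ⟨T, W, A, q, h⟩ := exists_pair hC (simple_noCore hna) hL hTI
  have hq4 := h.q_le_four hC hL
  have hq1 := h.left.one_lt
  obtain ⟨j, hj⟩ := (h.left.syl.2.1.to_le (inf_le_left.trans h.le_T.2 : A ⊓ W ≤ T)).exists_card_eq
  rw [h.card_inter] at hj
  obtain rfl | rfl : q = 2 ∨ q = 4 := by
    have : q ≠ 3 := fun e => by
      rcases Nat.eq_zero_or_pos j with rfl | hpos
      · norm_num at hj; omega
      · have : 2 ∣ q := hj ▸ dvd_pow_self 2 hpos.ne'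
        omega
    omega
  · exact Or.inl (simple_pair_two hna hC h)
  · exact Or.inr (Or.inl (Four.isPSLThreeFour ⟨hC, hL, h, h.sylow_of_simple hna hC hL⟩))

end CfsgLib.CIT
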