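import Cfsg.Agent.Lib.CIT.CN
import Cfsg.Agent.Lib.Components.Subnormal
import Cfsg.Agent.Lib.Core.Cores
import Cfsg.Agent.Lib.Recog.SemidirectSpectrum

/-!
# Nonsolvable CIT groups without normal 2-subgroups

Normal subgroups of odd order are trivial; a minimal normal subgroup is simple, of even order, with trivial
centraliser.
-/

set_option autoImplicit false
set_option linter.all false

namespace CfsgLib.CIT

open Subgroup
open CfsgLib.Signalizer (involution_sq involution_inv orderOf_eq_two_of orderOf_conj)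

universe u

variable {G : Type u} [Group G] [Finite G]

theorem cit_iff_no_two_prime :
    CIT G ↔ ∀ r : ℕ, r.Prime → r ≠ 2 → ¬ ∃ x : G, orderOf x = 2 * r := by
  constructor
  · intro hC r hr h2 ⟨x, hx⟩
    have hz : orderOf (x ^ r) = 2 := by
      rw [orderOf_pow_of_dvd hr.ne_zero (hx ▸ dvd_mul_left r 2), hx, Nat.mul_div_cancel _ hr.pos]
    have hy : orderOf (x ^ 2) = r := by
      rw [orderOf_pow_of_dvd two_ne_zero (hx ▸ dvd_mul_right 2 r), hx, Nat.mul_div_cancel_left _ two_pos]
    have h1 : x ^ 2 = 1 := eq_one_of_odd_of_pGroup (hC _ hz)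
      (mem_centralizer_singleton_iff.2 ((Commute.refl x).pow_pow 2 r).eq) (by rw [hy]; exact hr.odd_of_ne_two h2)
    rw [h1, orderOf_one] at hy
    exact hr.ne_one hy.symm
  · intro h t ht z
    by_contra hno
    obtain ⟨m, hm, hm1⟩ := exists_odd_power (z : G) fun k hk => hno ⟨k, Subtype.ext (by
      rw [coe_pow, coe_one, ← hk, pow_orderOf_eq_one])⟩
    obtain ⟨r, hr, hrd⟩ := Nat.exists_prime_and_dvd (fun e => hm1 (orderOf_eq_one_iff.1 e))
    have hr2 : r ≠ 2 := fun e => hm.not_two_dvd_nat (e ▸ hrd)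
    set y := ((z : G) ^ m) ^ (orderOf ((z : G) ^ m) / r) with hy
    have hyo : orderOf y = r := orderOf_pow_orderOf_div (orderOf_pos _).ne' hrd
    have hc : Commute y t :=
      ((show Commute (z : G) t from mem_centralizer_singleton_iff.1 z.2).pow_left m).pow_left _
    refine h r hr hr2 ⟨y * t, ?_⟩
    rw [hc.orderOf_mul_eq_mul_orderOf_of_coprime (by
      rw [hyo, ht]; exact (Nat.coprime_primes hr Nat.prime_two).2 hr2), hyo, ht, mul_comm]

/-- An involution without fixed points on an odd subgroup inverts it. -/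
theorem inverts_of_fpf {N : Subgroup G} {t : G} (ht : orderOf t = 2)
    (hN : ∀ n ∈ N, t * n * t⁻¹ ∈ N) (hfix : ∀ n ∈ N, t * n * t⁻¹ = n → n = 1) :
    ∀ n ∈ N, t * n * t⁻¹ = n⁻¹ := by
  have hii : ∀ y : G, t * t * y * (t * t)⁻¹ = y := fun y => by
    rw [involution_sq ht, inv_one, mul_one, one_mul]
  let f : N → N := fun y => ⟨(y : G)⁻¹ * (t * y * t⁻¹), mul_mem (inv_mem y.2) (hN y y.2)⟩
  have hf : Function.Injective f := fun y y' e => Subtype.ext (by
    have e' : (y : G)⁻¹ * (t * y * t⁻¹) = (y' : G)⁻¹ * (t * y' * t⁻¹) := congrArg Subtype.val e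
    refine (mul_inv_eq_one.1 (hfix _ (mul_mem y'.2 (inv_mem y.2)) ?_)).symm
    calc t * ((y' : G) * (y : G)⁻¹) * t⁻¹
        = (y' : G) * ((y' : G)⁻¹ * (t * y' * t⁻¹)) * ((y : G) * ((y : G)⁻¹ * (t * y * t⁻¹)))⁻¹ := by group
      _ = (y' : G) * (y : G)⁻¹ := by rw [← e']; group)
  intro n hn
  obtain ⟨y, hy⟩ := (Finite.injective_iff_surjective.1 hf) ⟨n, hn⟩
  have hy' : n = (y : G)⁻¹ * (t * y * t⁻¹) := (congrArg Subtype.val hy).symm
  rw [hy']
  calc t * ((y : G)⁻¹ * (t * y * t⁻¹)) * t⁻¹ = t * (y : G)⁻¹ * t⁻¹ * (t * t * y * (t * t)⁻¹) := by group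
    _ = ((y : G)⁻¹ * (t * y * t⁻¹))⁻¹ := by rw [hii]; group

/-- In a nonsolvable CIT group the normal subgroups of odd order are trivial. -/
theorem odd_normal_eq_bot (hC : CIT G) (h2 : 2 ∣ Nat.card G) (hns : ¬ Group.IsSolvable G) {N : Subgroup G}
    [hN : N.Normal] (hodd : Odd (Nat.card N)) : N = ⊥ := by
  classical
  by_contra hNb
  haveI : Fact (Nat.Prime 2) := ⟨Nat.prime_two⟩
  obtain ⟨n0, hn0, hn01⟩ := N.bot_or_exists_ne_one.resolve_left hNb
  have hfix : ∀ (K : Subgroup G), Odd (Nat.card K) → ∀ t : G, orderOf t = 2 →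
      ∀ k ∈ K, t * k * t⁻¹ = k → k = 1 := by
    intro K hK t ht k hk hkt
    exact eq_one_of_odd_of_pGroup (hC t ht) (mem_centralizer_singleton_iff.2 (mul_inv_eq_iff_eq_mul.1 hkt).symm)
      (hK.of_dvd_nat (Subgroup.orderOf_dvd_natCard K hk))
  have hinv : ∀ (K : Subgroup G), K.Normal → Odd (Nat.card K) → ∀ t : G, orderOf t = 2 →
      ∀ k ∈ K, t * k * t⁻¹ = k⁻¹ := fun K hKn hK t ht =>
    inverts_of_fpf ht (fun k hk => hKn.conj_mem k hk t) (hfix K hK t ht)
  have hprod : ∀ s t : G, orderOf s = 2 → orderOf t = 2 → s * t ∈ centralizer (N : Set G) := by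
    intro s t hs ht
    rw [mem_centralizer_iff]
    intro k hk
    have h1 : s * t * k * (s * t)⁻¹ = k := by
      calc s * t * k * (s * t)⁻¹ = s * (t * k * t⁻¹) * s⁻¹ := by group
        _ = k := by
          rw [hinv N hN hodd t ht k hk, hinv N hN hodd s hs _ (inv_mem hk), inv_inv]
    exact (mul_inv_eq_iff_eq_mul.1 h1).symm
  set A := centralizer (N : Set G) with hA
  haveI hAn : A.Normal := inferInstance
  have hAodd : Odd (Nat.card A) := by
    rw [Nat.odd_iff]
    by_contra heven
    obtain ⟨⟨a, haA⟩, ha⟩ := exists_prime_orderOf_dvd_card' (G := A) 2 (by omega)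
    rw [Subgroup.orderOf_mk] at ha
    exact hn01 (hfix N hodd a ha n0 hn0 (by rw [← mem_centralizer_iff.1 haA n0 hn0]; group))
  obtain ⟨t, ht⟩ := exists_prime_orderOf_dvd_card' 2 h2
  have hAab : ∀ a ∈ A, ∀ b ∈ A, a * b = b * a := by
    intro a ha b hb
    have h1 := hinv A hAn hAodd t ht (a * b) (mul_mem ha hb)
    rw [show t * (a * b) * t⁻¹ = (t * a * t⁻¹) * (t * b * t⁻¹) by group, hinv A hAn hAodd t ht a ha,
      hinv A hAn hAodd t ht b hb, ← mul_inv_rev] at h1
    exact (inv_injective h1).symm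
  have hdec : ∀ g : G, ∃ b ∈ A, b * g ∈ centralizer ({t} : Set G) := by
    intro g
    have hg2 : orderOf (g * t * g⁻¹) = 2 := (orderOf_conj g t).trans ht
    have ha : t * (g * t * g⁻¹) ∈ A := hprod t _ ht hg2
    obtain ⟨c, hc⟩ : ∃ c : ℕ, Nat.card A = 2 * c + 1 := id hAodd
    set a := t * (g * t * g⁻¹) with hadef
    have hac : (a ^ (c + 1)) * (a ^ (c + 1)) = a := by
      have h1 : a ^ Nat.card A = 1 := orderOf_dvd_iff_pow_eq_one.1 (Subgroup.orderOf_dvd_natCard A ha)
      rw [← pow_add, show c + 1 + (c + 1) = Nat.card A + 1 by omega, pow_succ, h1, one_mul]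
    set b := a ^ (c + 1) with hbdef
    refine ⟨b, pow_mem ha _, ?_⟩
    rw [mem_centralizer_singleton_iff]
    have hb : t * b * t⁻¹ = b⁻¹ := hinv A hAn hAodd t ht b (pow_mem ha _)
    have hgt : g * t * g⁻¹ = t * (b * b) := by
      rw [hac, hadef, ← mul_assoc, involution_sq ht, one_mul]
    calc b * g * t = b * (g * t * g⁻¹) * g := by group
      _ = b * (t * b * t⁻¹) * t * b * g := by rw [hgt]; group
      _ = t * (b * g) := by rw [hb]; group
  haveI hAs : Group.IsSolvable A := by
    letI : CommGroup A := { (inferInstance : Group A) with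
      mul_comm := fun a b => Subtype.ext (hAab a a.2 b b.2) }
    infer_instance
  haveI hQ : Group.IsSolvable (G ⧸ A) := by
    haveI : Group.IsNilpotent (centralizer ({t} : Set G)) := (hC t ht).isNilpotent
    refine Group.isSolvable_of_surjective
      (f := (QuotientGroup.mk' A).comp (centralizer ({t} : Set G)).subtype) fun x => ?_
    obtain ⟨g, rfl⟩ := QuotientGroup.mk_surjective x
    obtain ⟨b, hb, hbg⟩ := hdec g
    refine ⟨⟨b * g, hbg⟩, ?_⟩
    show ((b * g : G) : G ⧸ A) = (g : G ⧸ A)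
    rw [QuotientGroup.mk_mul, (QuotientGroup.eq_one_iff b).2 hb, one_mul]
  exact hns (Group.isSolvable_of_ker_le_range A.subtype (QuotientGroup.mk' A)
    (by rw [QuotientGroup.ker_mk', range_subtype]))

/-- A minimal normal subgroup is simple of even order, with trivial centraliser. -/
theorem exists_simple_normal (hC : CIT G) (h2 : 2 ∣ Nat.card G) (hns : ¬ Group.IsSolvable G)
    (hcore : Cfsg.pCore 2 G = ⊥) :
    ∃ L : Subgroup G, L.Normal ∧ IsSimpleGroup L ∧ ¬ IsMulCommutative L ∧ 2 ∣ Nat.card L ∧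
      centralizer (L : Set G) = ⊥ := by
  classical
  haveI : Nontrivial G := by
    by_contra hno
    rw [not_nontrivial_iff_subsingleton] at hno
    exact hns inferInstance
  have hbot : ∀ (K : Subgroup G), K.Normal → Group.IsSolvable K → K = ⊥ := by
    intro K hKn hKs
    by_contra hKb
    haveI := hKn
    obtain ⟨V, a, hVn, ha, hV1, hVc, hVexp⟩ := CfsgLib.Recog.Spectrum.exists_elementary_of_solvable K hKb hKs
    haveI := hVn
    haveI := Fact.mk ha
    have hVp : IsPGroup a V := fun v => ⟨1, by rw [pow_one]; exact hVexp v⟩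
    by_cases ha2 : a = 2
    · subst ha2
      exact hV1 (le_bot_iff.1 (hcore ▸ CfsgLib.Core.le_pCore hVp))
    · obtain ⟨k, hk⟩ := IsPGroup.iff_card.1 hVp
      exact hV1 (odd_normal_eq_bot hC h2 hns (hk ▸ (ha.odd_of_ne_two ha2).pow))
  obtain ⟨L, hLn, hLb, hLmin⟩ := CfsgLib.Components.exists_minimal_normal (G := G)
  haveI := hLn
  have hLns : ¬ Group.IsSolvable L := fun h => hLb (hbot L hLn h)
  have hL2 : 2 ∣ Nat.card L := by
    by_contra h
    exact hLb (odd_normal_eq_bot hC h2 hns (Nat.odd_iff.2 (by omega)))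
  haveI : Fact (Nat.Prime 2) := ⟨Nat.prime_two⟩
  obtain ⟨z, hz⟩ := exists_prime_orderOf_dvd_card' 2 hL2
  have hzG : orderOf (z : G) = 2 := by rw [orderOf_coe, hz]
  have hCL : centralizer (L : Set G) = ⊥ := by
    refine hbot _ inferInstance ?_
    haveI : Group.IsNilpotent (centralizer ({(z : G)} : Set G)) := (hC _ hzG).isNilpotent
    exact solvable_of_le' (fun c hc => mem_centralizer_singleton_iff.2 (mem_centralizer_iff.1 hc (z : G) z.2).symm)
      inferInstance
  refine ⟨L, hLn, ?_, fun h => hLns (by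
    letI : CommGroup L := { (inferInstance : Group L) with mul_comm := fun a b => h.is_comm.comm a b }
    infer_instance), hL2, hCL⟩
  -- simplicity
  haveI : Nontrivial L := (nontrivial_iff_ne_bot L).2 hLb
  obtain ⟨K, hKn, hKb, hKmin⟩ := CfsgLib.Components.exists_minimal_normal (G := L)
  haveI := hKn
  have hLC : CIT L := hC.subgroup L
  have hLcore : Cfsg.pCore 2 L = ⊥ := by
    have h1 : ((Cfsg.pCore 2 L).map L.subtype) = ⊥ := hbot _ inferInstance (by
      haveI : Group.IsNilpotent ((Cfsg.pCore 2 L).map L.subtype) :=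
        ((CfsgLib.Core.isPGroup_pCore 2 L).map L.subtype).isNilpotent
      infer_instance)
    exact (map_eq_bot_iff_of_injective _ L.subtype_injective).1 h1
  have hK2 : 2 ∣ Nat.card K := by
    by_contra h
    exact hKb (odd_normal_eq_bot hLC hL2 hLns (Nat.odd_iff.2 (by omega)))
  obtain ⟨k, hk⟩ := exists_prime_orderOf_dvd_card' 2 hK2
  have hkL : orderOf (k : L) = 2 := by rw [orderOf_coe, hk]
  have hKG : (K.map L.subtype).Normal := by
    refine ⟨fun x hx g => ?_⟩
    obtain ⟨x, hx, rfl⟩ := hx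
    let c : L →* L := ((MulAut.conjNormal g : MulAut L) : L →* L)
    have hinj : Function.Injective c := (MulAut.conjNormal g : MulAut L).injective
    haveI : (K.map c).Normal := hKn.map c (MulAut.conjNormal g : MulAut L).surjective
    rcases hKmin (K.map c ⊓ K) inferInstance inf_le_right with e | e
    · exfalso
      have hle : K.map c ≤ centralizer ({(k : L)} : Set L) := fun a ha => by
        rw [mem_centralizer_singleton_iff]
        have h1 : a * k * a⁻¹ * (k : L)⁻¹ ∈ K.map c ⊓ K := by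
          refine mem_inf.2 ⟨?_, mul_mem (hKn.conj_mem _ k.2 a) (inv_mem k.2)⟩
          rw [show a * k * a⁻¹ * (k : L)⁻¹ = a * (k * a⁻¹ * (k : L)⁻¹) by group]
          exact mul_mem ha (Subgroup.Normal.conj_mem inferInstance _ (inv_mem ha) (k : L))
        rw [e, mem_bot] at h1
        exact mul_inv_eq_iff_eq_mul.1 (mul_inv_eq_one.1 h1)
      have hP : IsPGroup 2 (K.map c) := (hLC _ hkL).to_le hle
      have h1 := CfsgLib.Core.le_pCore hP
      rw [hLcore, le_bot_iff, map_eq_bot_iff_of_injective _ hinj] at h1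
      exact hKb h1
    · have hKle : K ≤ K.map c := inf_eq_right.1 e
      have hcard : Nat.card (K.map c) = Nat.card K := (Nat.card_congr (K.equivMapOfInjective c hinj).toEquiv).symm
      exact ⟨c x, (eq_of_le_of_card_ge hKle hcard.le).ge (mem_map_of_mem c hx), MulAut.conjNormal_apply g x⟩
  have hKL : K = ⊤ := by
    have h1 : K.map L.subtype = L := (hLmin _ hKG (map_subtype_le K)).resolve_left
      (fun e => hKb ((map_eq_bot_iff_of_injective _ L.subtype_injective).1 e))
    exact map_injective L.subtype_injective (h1.trans (by rw [← MonoidHom.range_eq_map, range_subtype]))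
  refine ⟨fun N hN => ?_⟩
  by_contra hcon
  push Not at hcon
  exact hcon.2 (((hKmin N hN (hKL ▸ le_top)).resolve_left hcon.1).trans hKL)
where
  solvable_of_le' {X Y : Subgroup G} (h : X ≤ Y) (hY : Group.IsSolvable Y) : Group.IsSolvable X :=
    haveI := hY
    Group.isSolvable_of_isSolvable_injective (inclusion_injective h)

end CfsgLib.CIT
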