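import Cfsg.Agent.Lib.CIT.Rigid
import Cfsg.Agent.S0340
import Cfsg.Agent.S0215
import Cfsg.Agent.Lib.PLocal.SelfCentNoncyclic.Converse
import Cfsg.Agent.Lib.Recog.PSLTwoOrders
import Cfsg.Agent.Lib.Classical.Dickson.MinimalSimple

/-!
# Simple CIT groups: the case of TI Sylow 2-subgroups, and the `PSL(2, q)` which are CIT
-/

set_option autoImplicit false
set_option linter.all false

namespace CfsgLib.CIT

open Subgroup
open CfsgLib.Signalizer (involution_sq involution_inv orderOf_eq_two_of orderOf_conj)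

variable {G : Type*} [Group G]

/-- The possible `PSL(2, F)`. -/
def IsPSLTwoCIT (G : Type*) [Group G] : Prop :=
  ∃ (F : Type) (_ : Field F) (_ : Fintype F),
    (Fintype.card F = 9 ∨ (∃ n : ℕ, Fintype.card F = 2 ^ n) ∨
      ((Fintype.card F).Prime ∧ ∃ k : ℕ, Fintype.card F = 2 ^ k + 1 ∨ Fintype.card F + 1 = 2 ^ k)) ∧
    Nonempty (G ≃* Matrix.ProjectiveSpecialLinearGroup (Fin 2) F)

/-- `PSL(3, 4)`. -/
def IsPSLThreeFour (G : Type*) [Group G] : Prop :=
  ∃ (F : Type) (_ : Field F) (_ : Fintype F), Fintype.card F = 4 ∧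
    Nonempty (G ≃* Matrix.ProjectiveSpecialLinearGroup (Fin 3) F)

theorem isPSLTwoCIT_of_equiv [Finite G] (hC : CIT G) {F : Type} [Field F] [Fintype F]
    (e : G ≃* Matrix.ProjectiveSpecialLinearGroup (Fin 2) F) : IsPSLTwoCIT G := by
  classical
  refine ⟨F, inferInstance, inferInstance, ?_, ⟨e⟩⟩
  obtain ⟨p, hp⟩ := CharP.exists F
  haveI : Fact p.Prime := ⟨CharP.char_is_prime F p⟩
  obtain ⟨f, hf, hqf⟩ := CfsgLib.Classical.Dickson.exists_char_pow (F := F) p
  have hpp := (Fact.out : p.Prime)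
  by_cases hp2 : p = 2
  · exact Or.inr (Or.inl ⟨f, hp2 ▸ hqf⟩)
  have hodd : Odd (Fintype.card F) := hqf ▸ (hpp.odd_of_ne_two hp2).pow
  set q := Fintype.card F with hq
  have hq2 : q % 2 = 1 := Nat.odd_iff.1 hodd
  by_cases h3 : q = 3
  · exact Or.inr (Or.inr ⟨h3 ▸ Nat.prime_three, 1, Or.inl (by omega)⟩)
  have hq5 : 4 ≤ q := by
    have : 1 < q := Fintype.one_lt_card
    omega
  have hgcd : Nat.gcd 2 (q - 1) = 2 := Nat.gcd_eq_left (by omega)
  have hrange := CfsgLib.Recog.PSLTwoOrders.range_orderOf (F := F) p (by rw [← hq]; omega)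
  rw [← hq, hgcd] at hrange
  have key : ∀ T : ℕ, (T = (q - 1) / 2 ∨ T = (q + 1) / 2) → 2 ∣ T → 0 < T →
      ∀ r, r.Prime → r ∣ T → r = 2 := by
    intro T hT h2 hpos r hr hrT
    by_contra hne
    have hdvd : 2 * r ∣ T :=
      Nat.Coprime.mul_dvd_of_dvd_of_dvd ((Nat.coprime_primes Nat.prime_two hr).2 (Ne.symm hne)) h2 hrT
    obtain ⟨g, hg⟩ : 2 * r ∈ Set.range (orderOf : Matrix.ProjectiveSpecialLinearGroup (Fin 2) F → ℕ) := by
      rw [hrange]
      rcases hT with rfl | rfl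
      · exact Or.inr (Or.inl hdvd)
      · exact Or.inr (Or.inr hdvd)
    have hg' : orderOf (e.symm g) = 2 * r := by rw [e.symm.orderOf_eq, hg]
    have hz : orderOf (e.symm g ^ r) = 2 := by
      rw [orderOf_pow_of_dvd hr.ne_zero (hg' ▸ dvd_mul_left r 2), hg', Nat.mul_div_cancel _ hr.pos]
    have hx : orderOf (e.symm g ^ 2) = r := by
      rw [orderOf_pow_of_dvd two_ne_zero (hg' ▸ dvd_mul_right 2 r), hg', Nat.mul_div_cancel_left _ two_pos]
    have h1 : e.symm g ^ 2 = 1 := eq_one_of_odd_of_pGroup (hC _ hz)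
      (mem_centralizer_singleton_iff.2 ((Commute.refl (e.symm g)).pow_pow 2 r).eq)
      (by rw [hx]; exact hr.odd_of_ne_two hne)
    rw [h1, orderOf_one] at hx
    exact hr.ne_one hx.symm
  have pow2 : ∀ T : ℕ, (T = (q - 1) / 2 ∨ T = (q + 1) / 2) → 2 ∣ T → 0 < T → ∃ k, T = 2 ^ k :=
    fun T hT h2 hpos => ⟨_, Nat.eq_prime_pow_of_unique_prime_dvd hpos.ne' fun {r} hr hrT => key T hT h2 hpos r hr hrT⟩
  obtain ⟨k, hk⟩ : ∃ k, p ^ f = 2 ^ k + 1 ∨ p ^ f + 1 = 2 ^ k := by
    rw [← hqf]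
    by_cases h : 2 ∣ (q - 1) / 2
    · obtain ⟨k, hk⟩ := pow2 _ (Or.inl rfl) h (by omega)
      exact ⟨k + 1, Or.inl (by rw [pow_succ, ← hk]; omega)⟩
    · obtain ⟨k, hk⟩ := pow2 _ (Or.inr rfl) (by omega) (by omega)
      exact ⟨k + 1, Or.inr (by rw [pow_succ, ← hk]; omega)⟩
  rcases CfsgLib.PLocal.SelfCentNoncyclic.prime_pow_near_two_pow hpp hp2 hf hk with h9 | rfl
  · exact Or.inl (hqf.trans h9)
  · rw [pow_one] at hqf hk
    exact Or.inr (Or.inr ⟨hqf ▸ hpp, k, by rw [hqf]; exact hk⟩)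

theorem simple_center_eq_bot [IsSimpleGroup G] (hna : ¬ IsMulCommutative G) : center G = ⊥ := by
  rcases (inferInstance : (center G).Normal).eq_bot_or_eq_top with h | h
  · exact h
  · exact absurd ⟨⟨fun a b => (mem_center_iff.1 (show a ∈ center G by rw [h]; trivial) b).symm⟩⟩ hna

theorem simple_noCore [Finite G] [IsSimpleGroup G] (hna : ¬ IsMulCommutative G) : NoCore G := by
  intro P hP hP2
  rcases hP.eq_bot_or_eq_top with h | h
  · exact h
  · exfalso
    haveI : Fact (Nat.Prime 2) := ⟨Nat.prime_two⟩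
    subst h
    have hG : IsPGroup 2 G := hP2.of_equiv topEquiv
    have h1 := simple_center_eq_bot hna
    haveI : Nontrivial G := IsSimpleGroup.toNontrivial
    exact (nontrivial_iff_ne_bot _).1 hG.center_nontrivial h1

variable [Finite G] [IsSimpleGroup G]

/-- A simple CIT group of even order with TI Sylow 2-subgroups is a Zassenhaus group. -/
theorem simple_ti_zassenhaus (hna : ¬ IsMulCommutative G) (hC : CIT G) (h2 : 2 ∣ Nat.card G) (hTI : TISylow G) :
    ∃ T : Subgroup G, Cfsg.IsZassenhausGroup G (G ⧸ normalizer (T : Set G)) := by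
  classical
  haveI : Fact (Nat.Prime 2) := ⟨Nat.prime_two⟩
  obtain ⟨T, hT, -⟩ := exists_isSyl (le_top : (⊥ : Subgroup G) ≤ ⊤) IsPGroup.of_bot
  obtain ⟨z, hz⟩ := exists_prime_orderOf_dvd_card' 2 h2
  have hb : Branching (⊤ : Subgroup G) := by
    intro U hU hn
    have hUn : U.Normal := normalizer_eq_top_iff.1 (top_le_iff.1 hn)
    obtain ⟨V, hV, hzV⟩ := exists_isSyl (le_top : zpowers z ≤ ⊤)
      (IsPGroup.of_card (n := 1) (by rw [Nat.card_zpowers, hz, pow_one]))
    have h0 := simple_noCore hna U hUn hU.2.1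
    rw [hU.unique hn hV, h0] at hzV
    exact Signalizer.involution_ne_one hz (mem_bot.1 (hzV (mem_zpowers z)))
  have hE := hTI.embedded hC hb hT
  -- a central involution of `T`
  haveI : Nontrivial T := (nontrivial_iff_ne_bot T).2 (TISylow.ne_bot hb hT)
  haveI := hT.2.1.center_nontrivial
  obtain ⟨n, hn⟩ := (hT.2.1.to_subgroup (center T)).exists_card_eq
  have hc1 : 1 < Nat.card (center T) := Finite.one_lt_card
  obtain ⟨u0, hu0⟩ := exists_prime_orderOf_dvd_card' 2
    (show 2 ∣ Nat.card (center T) by rw [hn] at hc1 ⊢; exact dvd_pow_self 2 fun h0 => by rw [h0] at hc1; simp at hc1)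
  set u : G := ((u0 : T) : G) with hu_def
  have hu : orderOf u = 2 := by rw [hu_def, orderOf_coe, orderOf_coe, hu0]
  have huT : u ∈ T := (u0 : T).2
  have huc : ∀ t ∈ T, t * u = u * t := fun t ht => congrArg Subtype.val (mem_center_iff.1 u0.2 ⟨t, ht⟩)
  by_cases hone : ∀ v ∈ T, orderOf v = 2 → v = u
  · -- an isolated involution
    exfalso
    obtain ⟨N, hN, hNodd, hNc⟩ := Cfsg.Agent.S0215.result
      (⟨T, hT.2.1, fun {Q} hQ hle => hT.2.2 Q hle le_top hQ⟩ : Sylow 2 G) u hu huT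
      (fun g hg => hone _ hg ((orderOf_conj g u).trans hu))
    rcases hN.eq_bot_or_eq_top with hNb | hNt
    · have huZ : u ∈ center G := mem_center_iff.2 fun g => by
        have h1 := mem_bot.1 (hNb ▸ hNc g)
        calc g * u = (u * g * u⁻¹ * g⁻¹)⁻¹ * u * g := by group
          _ = u * g := by rw [h1, inv_one, one_mul]
      rw [simple_center_eq_bot hna] at huZ
      exact Signalizer.involution_ne_one hu (mem_bot.1 huZ)
    · rw [hNt, card_top] at hNodd
      exact hNodd.not_two_dvd_nat h2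
  push Not at hone
  obtain ⟨v, hvT, hv, hvu⟩ := hone
  have huM : u ∈ normalizer (T : Set G) := le_normalizer huT
  have hvM : v ∈ normalizer (T : Set G) := le_normalizer hvT
  have hi : 2 ≤ hE.invCount := by
    haveI : Nontrivial {t : G // orderOf t = 2 ∧ t ∈ normalizer (T : Set G)} :=
      ⟨⟨⟨u, hu, huM⟩, ⟨v, hv, hvM⟩, fun e => hvu (congrArg Subtype.val e).symm⟩⟩
    exact Finite.one_lt_card
  have hfaith : FaithfulSMul G (G ⧸ normalizer (T : Set G)) := by
    refine ⟨fun {a b} hab => ?_⟩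
    have hK : (normalizer (T : Set G)).normalCore = ⊥ := by
      rcases (inferInstance : (normalizer (T : Set G)).normalCore.Normal).eq_bot_or_eq_top with h | h
      · exact h
      · exact absurd (top_le_iff.1 (h ▸ normalCore_le (normalizer (T : Set G)))) hE.se.1
    have hmem : b⁻¹ * a ∈ (normalizer (T : Set G)).normalCore := by
      rw [normalCore_eq_ker, MonoidHom.mem_ker]
      ext p
      simp [mul_smul, hab p]
    rw [hK, mem_bot, inv_mul_eq_one] at hmem
    exact hmem.symm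
  exact ⟨T, hE.isZassenhaus hi ⟨v, u, hvM, huM, hv, hu, hvu, huc v hvT⟩ hfaith⟩

/-- A simple CIT group of even order with TI Sylow 2-subgroups. -/
theorem simple_ti (hna : ¬ IsMulCommutative G) (hC : CIT G) (h2 : 2 ∣ Nat.card G) (hTI : TISylow G) :
    IsPSLTwoCIT G ∨ Cfsg.IsSuzuki G := by
  obtain ⟨T, hZ⟩ := simple_ti_zassenhaus hna hC h2 hTI
  rcases Cfsg.Agent.S0340.result hZ with ⟨F, iF, iFt, ⟨e⟩⟩ | hS
  · exact Or.inl (isPSLTwoCIT_of_equiv hC e)
  · exact Or.inr hS

end CfsgLib.CIT
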