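import Cfsg.Agent.Lib.CIT.CN
import Cfsg.Agent.Lib.CIT.CoreFree
import Cfsg.Agent.Lib.CIT.SimpleTI
import Cfsg.Agent.Lib.LocalEvenB.BaerSuzuki

/-!
# A CIT group over a simple normal subgroup `L`

* `exists_split`: `G = L · C(u)` for a suitable involution `u` of `L`
* `eq_top_of_ti`: if `L` has TI Sylow 2-subgroups then `G = L`
* `eq_top_of_cyclic_three`: likewise if its Sylow 3-subgroups are cyclic and inverted
* `index_nine`: Sylow 3-subgroups of order nine with an element of order four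
-/

set_option autoImplicit false
set_option linter.all false

namespace CfsgLib.CIT

open Subgroup
open CfsgLib.Signalizer (involution_sq involution_inv orderOf_eq_two_of orderOf_conj)

universe u

variable {G : Type u} [Group G] [Finite G]

theorem CIT.odd_of_le (hC : CIT G) {K : Subgroup G} {y : G} (hy : Odd (orderOf y)) (hy1 : y ≠ 1)
    (hK : K ≤ centralizer ({y} : Set G)) : Odd (Nat.card K) := by
  haveI : Fact (Nat.Prime 2) := ⟨Nat.prime_two⟩
  rw [Nat.odd_iff]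
  by_contra h
  obtain ⟨⟨k, hk⟩, hk2⟩ := exists_prime_orderOf_dvd_card' (G := K) 2 (by omega)
  rw [Subgroup.orderOf_mk] at hk2
  exact Signalizer.involution_ne_one hk2
    (hC.eq_one hy hy1 (k := 1) (by rw [hk2, pow_one]) (mem_centralizer_singleton_iff.1 (hK hk)).symm)

/-- Odd subgroups normalised by an involution are inverted, hence abelian; they lie in any normal subgroup
containing the involution. -/
theorem CIT.inverted_odd (hC : CIT G) {K : Subgroup G} (hodd : Odd (Nat.card K)) {u : G} (hu : orderOf u = 2)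
    (hn : ∀ k ∈ K, u * k * u⁻¹ ∈ K) :
    (∀ k ∈ K, u * k * u⁻¹ = k⁻¹) ∧ (∀ a ∈ K, ∀ b ∈ K, a * b = b * a) ∧
      ∀ L : Subgroup G, L.Normal → u ∈ L → K ≤ L := by
  have hinv : ∀ k ∈ K, u * k * u⁻¹ = k⁻¹ := inverts_of_fpf hu hn fun k hk hkt =>
    eq_one_of_odd_of_pGroup (hC u hu) (mem_centralizer_singleton_iff.2 (mul_inv_eq_iff_eq_mul.1 hkt).symm)
      (hodd.of_dvd_nat (Subgroup.orderOf_dvd_natCard K hk))
  refine ⟨hinv, fun a ha b hb => ?_, fun L hL huL k hk => ?_⟩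
  · have h1 := hinv (a * b) (mul_mem ha hb)
    rw [show u * (a * b) * u⁻¹ = (u * a * u⁻¹) * (u * b * u⁻¹) by group, hinv a ha, hinv b hb, ← mul_inv_rev] at h1
    exact (inv_injective h1).symm
  · have h1 : u * (k * u⁻¹ * k⁻¹) ∈ L := mul_mem huL (hL.conj_mem _ (inv_mem huL) k)
    rw [show u * (k * u⁻¹ * k⁻¹) = u * k * u⁻¹ * k⁻¹ by group, hinv k hk] at h1
    obtain ⟨c, hc⟩ : ∃ c : ℕ, orderOf k = 2 * c + 1 := hodd.of_dvd_nat (Subgroup.orderOf_dvd_natCard K hk)
    have h2 : ((k⁻¹ * k⁻¹) ^ c) = k := by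
      rw [← pow_two, ← pow_mul, inv_pow]
      refine inv_eq_of_mul_eq_one_right ?_
      rw [← pow_succ, ← hc, pow_orderOf_eq_one]
    exact h2 ▸ pow_mem h1 c

/-- The Frattini decomposition at an inverted Sylow subgroup of `L`. -/
theorem split_at (hC : CIT G) {L : Subgroup G} [L.Normal] {r : ℕ} [Fact r.Prime] (hr : r ≠ 2) (P : Sylow r L)
    (hP1 : (P : Subgroup L) ≠ ⊥) {u : G} (hu : orderOf u = 2) (huL : u ∈ L)
    (hinv : ∀ p ∈ (P : Subgroup L).map L.subtype, u * p * u⁻¹ = p⁻¹) :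
    (∀ n ∈ normalizer (((P : Subgroup L).map L.subtype : Subgroup G) : Set G),
      ∃ b c : G, b ∈ centralizer (((P : Subgroup L).map L.subtype : Subgroup G) : Set G) ∧ b ∈ L ∧
        c ∈ normalizer (((P : Subgroup L).map L.subtype : Subgroup G) : Set G) ∧ c * u = u * c ∧ n = b * c) ∧
      ∀ g : G, ∃ l c : G, l ∈ L ∧
        c ∈ normalizer (((P : Subgroup L).map L.subtype : Subgroup G) : Set G) ∧ c * u = u * c ∧ g = l * c := by
  obtain ⟨Q, hQ⟩ : ∃ Q, Q = (P : Subgroup L).map L.subtype := ⟨_, rfl⟩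
  rw [← hQ] at hinv ⊢
  have huN : u ∈ normalizer (Q : Set G) := by
    rw [mem_normalizer_iff]
    refine fun p => ⟨fun hp => (hinv p hp).symm ▸ inv_mem hp, fun hp => ?_⟩
    have h1 := hinv _ hp
    rw [show u * (u * p * u⁻¹) * u⁻¹ = (u * u) * p * (u * u)⁻¹ by group, involution_sq hu] at h1
    simp at h1
    rw [h1]; simpa using inv_mem hp
  obtain ⟨y, hy, hy1⟩ := Q.bot_or_exists_ne_one.resolve_left fun e => hP1
    ((map_eq_bot_iff_of_injective _ L.subtype_injective).1 (hQ.symm.trans e))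
  have hyodd : Odd (orderOf y) := by
    obtain ⟨k, hk⟩ := IsPGroup.iff_card.1 (P.isPGroup'.map L.subtype)
    rw [← hQ] at hk
    exact (hk ▸ ((Fact.out : r.Prime).odd_of_ne_two hr).pow : Odd (Nat.card Q)).of_dvd_nat
      (Subgroup.orderOf_dvd_natCard Q hy)
  obtain ⟨K, hK⟩ : ∃ K, K = centralizer (Q : Set G) := ⟨_, rfl⟩
  have hKy : K ≤ centralizer ({y} : Set G) := hK ▸ centralizer_le (Set.singleton_subset_iff.2 hy)
  have hKodd : Odd (Nat.card K) := hC.odd_of_le hyodd hy1 hKy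
  have hKn : ∀ k ∈ K, u * k * u⁻¹ ∈ K := by
    subst hK
    intro k hk
    rw [mem_centralizer_iff] at hk ⊢
    intro p hp
    have h1 := hk _ (inv_mem hp)
    have h2 : u⁻¹ * p * u = p⁻¹ := by
      have := hinv p hp
      rwa [involution_inv hu] at this ⊢
    calc p * (u * k * u⁻¹) = u * ((u⁻¹ * p * u) * k) * u⁻¹ := by group
      _ = u * (k * (u⁻¹ * p * u)) * u⁻¹ := by rw [h2, h1]
      _ = _ := by group
  obtain ⟨hKinv, -, hKL⟩ := hC.inverted_odd hKodd hu hKn
  have hdec : ∀ n ∈ normalizer (Q : Set G),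
      ∃ b c : G, b ∈ K ∧ b ∈ L ∧ c ∈ normalizer (Q : Set G) ∧ c * u = u * c ∧ n = b * c := by
    intro n hn
    have ha : u * (n * u * n⁻¹) ∈ K := by
      subst hK
      rw [mem_centralizer_iff]
      intro p hp
      obtain ⟨q, hqQ, hq⟩ : ∃ q ∈ Q, n * q * n⁻¹ = p :=
        ⟨n⁻¹ * p * n, (mem_normalizer_iff''.1 hn p).1 hp, by group⟩
      have h1 : u * (n * u * n⁻¹) * p * (u * (n * u * n⁻¹))⁻¹ = p := by
        calc u * (n * u * n⁻¹) * p * (u * (n * u * n⁻¹))⁻¹ = u * (n * (u * (n⁻¹ * p * n) * u⁻¹) * n⁻¹) * u⁻¹ := by group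
          _ = p := by
            rw [← hq, show n⁻¹ * (n * q * n⁻¹) * n = q by group, hinv q hqQ,
              show n * q⁻¹ * n⁻¹ = (n * q * n⁻¹)⁻¹ by group, hq, hinv _ (inv_mem hp), inv_inv]
      exact (mul_inv_eq_iff_eq_mul.1 h1).symm
    obtain ⟨c, hc⟩ : ∃ c : ℕ, Nat.card K = 2 * c + 1 := id hKodd
    set a := u * (n * u * n⁻¹) with hadef
    have hac : (a ^ (c + 1)) * (a ^ (c + 1)) = a := by
      have h1 : a ^ Nat.card K = 1 := orderOf_dvd_iff_pow_eq_one.1 (Subgroup.orderOf_dvd_natCard K ha)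
      rw [← pow_add, show c + 1 + (c + 1) = Nat.card K + 1 by omega, pow_succ, h1, one_mul]
    set b := a ^ (c + 1) with hbdef
    have hbK : b ∈ K := pow_mem ha _
    have hbN : b ∈ normalizer (Q : Set G) := by
      rw [hK] at hbK
      exact centralizer_le_normalizer (Q : Set G) hbK
    refine ⟨b⁻¹, b * n, inv_mem hbK, hKL L inferInstance huL (inv_mem hbK), mul_mem hbN hn, ?_, by group⟩
    have hb : u * b * u⁻¹ = b⁻¹ := hKinv b hbK
    have hgt : n * u * n⁻¹ = u * (b * b) := by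
      rw [hac, hadef, ← mul_assoc, involution_sq hu, one_mul]
    calc b * n * u = b * (n * u * n⁻¹) * n := by group
      _ = b * (u * b * u⁻¹) * u * b * n := by rw [hgt]; group
      _ = u * (b * n) := by rw [hb]; group
  refine ⟨fun n hn => ?_, fun g => ?_⟩
  · obtain ⟨b, c, h1, h2, h3, h4, h5⟩ := hdec n hn
    exact ⟨b, c, hK ▸ h1, h2, h3, h4, h5⟩
  · have htop := Sylow.normalizer_sup_eq_top P
    obtain ⟨n, hn, l, hl, hnl⟩ := mem_sup_of_normal_right.1
      (htop ▸ mem_top g : g ∈ normalizer (((P : Subgroup L).map L.subtype : Subgroup G) : Set G) ⊔ L)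
    rw [← hQ] at hn
    obtain ⟨b, c, -, h2, h3, h4, h5⟩ := hdec n hn
    refine ⟨n * l * n⁻¹ * b, c, mul_mem ((inferInstance : L.Normal).conj_mem l hl n) h2, h3, h4, ?_⟩
    calc g = n * l * n⁻¹ * n := by rw [← hnl]; group
      _ = _ := by rw [h5]; group

section Simple

variable (hC : CIT G) {L : Subgroup G} [hLn : L.Normal] [hLs : IsSimpleGroup L] (hna : ¬ IsMulCommutative L)
  (h2 : 2 ∣ Nat.card L)
include hC hna h2

/-- `G` is the product of `L` and the centraliser of an involution. -/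
theorem exists_split : ∃ u : G, u ∈ L ∧ orderOf u = 2 ∧ ∀ g : G, ∃ l c : G, l ∈ L ∧ c * u = u * c ∧ g = l * c := by
  classical
  haveI : Fact (Nat.Prime 2) := ⟨Nat.prime_two⟩
  obtain ⟨v, hv⟩ := exists_prime_orderOf_dvd_card' (G := L) 2 h2
  have hcore : v ∉ Cfsg.pCore 2 L := by
    have : Cfsg.pCore 2 L = ⊥ := simple_noCore hna _ inferInstance (CfsgLib.Core.isPGroup_pCore 2 L)
    rw [this, mem_bot]
    exact Signalizer.involution_ne_one hv
  obtain ⟨x, hx1, hxodd, hvx⟩ := CfsgLib.LocalEvenB.exists_odd_inverted (involution_sq hv) hcore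
  obtain ⟨r, hr, hrd⟩ := Nat.exists_prime_and_dvd (fun e => hx1 (orderOf_eq_one_iff.1 e))
  have hr2 : r ≠ 2 := fun e => hxodd.not_two_dvd_nat (e ▸ hrd)
  haveI := Fact.mk hr
  obtain ⟨y0, hy0⟩ : ∃ y, y = x ^ (orderOf x / r) := ⟨_, rfl⟩
  have hy0o : orderOf y0 = r := hy0 ▸ orderOf_pow_orderOf_div (orderOf_pos _).ne' hrd
  have hvy : v * y0 * v⁻¹ = y0⁻¹ := by rw [hy0, ← conj_pow, hvx, inv_pow]
  obtain ⟨P, hP⟩ := IsPGroup.exists_le_sylow (IsPGroup.of_card (n := 1) (G := zpowers y0)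
    (by rw [Nat.card_zpowers, hy0o, pow_one]))
  have hy0P : y0 ∈ (P : Subgroup L) := hP (mem_zpowers y0)
  have hPne : (P : Subgroup L) ≠ ⊥ := fun e => by
    rw [mem_bot.1 (show y0 ∈ (⊥ : Subgroup L) from e ▸ hy0P), orderOf_one] at hy0o
    exact hr.ne_one hy0o.symm
  haveI : Nontrivial (P : Subgroup L) := (nontrivial_iff_ne_bot _).2 hPne
  haveI := P.isPGroup'.center_nontrivial
  obtain ⟨z0, hz0⟩ := exists_ne (1 : center (P : Subgroup L))
  set z : G := (((z0 : (P : Subgroup L)) : L) : G) with hz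
  have hz1 : z ≠ 1 := fun e => hz0 (Subtype.ext (Subtype.ext (Subtype.ext e)))
  have hzP : ∀ p ∈ (P : Subgroup L), (p : G) * z = z * p := fun p hp =>
    congrArg (fun w : (P : Subgroup L) => ((w : L) : G)) (mem_center_iff.1 z0.2 ⟨p, hp⟩)
  have hoddP : ∀ p ∈ (P : Subgroup L), Odd (orderOf (p : G)) := fun p hp => by
    obtain ⟨k, hk⟩ := IsPGroup.iff_card.1 P.isPGroup'
    rw [orderOf_coe]
    exact (hk ▸ (hr.odd_of_ne_two hr2).pow : Odd (Nat.card (P : Subgroup L))).of_dvd_nat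
      (Subgroup.orderOf_dvd_natCard _ hp)
  have huG : orderOf (v : G) = 2 := by rw [orderOf_coe, hv]
  have hn : ∀ w : G, (v : G) * w * (v : G)⁻¹ = w⁻¹ → ∀ k ∈ centralizer ({w} : Set G),
      (v : G) * k * (v : G)⁻¹ ∈ centralizer ({w} : Set G) := by
    intro w hw k hk
    rw [mem_centralizer_singleton_iff] at hk ⊢
    have hk' : k * w⁻¹ = w⁻¹ * k := (Commute.inv_right hk).eq
    rw [← hw] at hk'
    calc (v : G) * k * (v : G)⁻¹ * w = (v : G) * (k * ((v : G)⁻¹ * w * v)) * (v : G)⁻¹ := by group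
      _ = (v : G) * (k * ((v : G) * w * (v : G)⁻¹)) * (v : G)⁻¹ := by rw [involution_inv huG]
      _ = (v : G) * ((v : G) * w * (v : G)⁻¹ * k) * (v : G)⁻¹ := by rw [hk']
      _ = ((v : G) * v) * w * ((v : G)⁻¹ * k * (v : G)⁻¹) := by group
      _ = w * ((v : G) * k * (v : G)⁻¹) := by rw [involution_sq huG, one_mul, involution_inv huG]
  -- the element `z` is inverted
  have hy : Odd (orderOf (y0 : G)) := hoddP y0 hy0P
  have hy1 : (y0 : G) ≠ 1 := fun e => hr.ne_one (by rw [← hy0o, ← orderOf_coe, e, orderOf_one])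
  have hvyG : (v : G) * y0 * (v : G)⁻¹ = (y0 : G)⁻¹ := congrArg Subtype.val hvy
  have hzinv : (v : G) * z * (v : G)⁻¹ = z⁻¹ := (hC.inverted_odd (hC.odd_of_le hy hy1 le_rfl) huG (hn _ hvyG)).1 z
    (mem_centralizer_singleton_iff.2 (hzP y0 hy0P).symm)
  have hall : ∀ p ∈ (P : Subgroup L), (v : G) * p * (v : G)⁻¹ = (p : G)⁻¹ := fun p hp =>
    (hC.inverted_odd (hC.odd_of_le (hoddP _ (z0 : (P : Subgroup L)).2) hz1 le_rfl) huG (hn _ hzinv)).1 p
      (mem_centralizer_singleton_iff.2 (hzP p hp))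
  obtain ⟨-, hsp⟩ := split_at hC hr2 P hPne huG v.2 (by rintro _ ⟨p, hp, rfl⟩; exact hall p hp)
  refine ⟨v, v.2, huG, fun g => ?_⟩
  obtain ⟨l, c, h1, -, h3, h4⟩ := hsp g
  exact ⟨l, c, h1, h3, h4⟩

/-- With TI Sylow 2-subgroups there is nothing above `L`. -/
theorem eq_top_of_ti (hCN : Cfsg.IsCNGroup G) (hTI : TISylow L) : L = ⊤ := by
  classical
  haveI : Fact (Nat.Prime 2) := ⟨Nat.prime_two⟩
  obtain ⟨u, huL, hu, hsp⟩ := exists_split hC hna h2
  refine eq_top_iff.2 fun g _ => ?_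
  obtain ⟨l, c, hl, hcu, rfl⟩ := hsp g
  refine mul_mem hl ?_
  by_contra hcL
  have hLC := hC.subgroup L
  have huo : orderOf (⟨u, huL⟩ : L) = 2 := by rw [Subgroup.orderOf_mk, hu]
  obtain ⟨S, hS, huS⟩ := exists_isSyl (le_top : zpowers (⟨u, huL⟩ : L) ≤ ⊤)
    (IsPGroup.of_card (n := 1) (by rw [Nat.card_zpowers, huo, pow_one]))
  have huS' := huS (mem_zpowers (⟨u, huL⟩ : L))
  have hb : Branching (⊤ : Subgroup L) := by
    intro U hU hn
    have hUn : U.Normal := normalizer_eq_top_iff.1 (top_le_iff.1 hn)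
    have h0 := simple_noCore hna U hUn hU.2.1
    rw [hU.unique hn hS, h0] at huS'
    exact Signalizer.involution_ne_one huo (mem_bot.1 huS')
  have hE := hTI.embedded hLC hb hS
  have hone : ∃ v ∈ S, orderOf v = 2 ∧ v ≠ ⟨u, huL⟩ := by
    by_contra hno
    push Not at hno
    have := cn_isolated_solvable (CfsgLib.OddLocal.CN.cn_subgroup hCN L) hS huo huS' hno
    exact hna (IsSimpleGroup.comm_iff_isSolvable.2 this |> fun hc => ⟨⟨hc⟩⟩)
  obtain ⟨v, hvS, hv, hvu⟩ := hone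
  have hi : 2 ≤ hE.invCount := by
    haveI : Nontrivial {t : L // orderOf t = 2 ∧ t ∈ normalizer (S : Set L)} :=
      ⟨⟨⟨_, huo, le_normalizer huS'⟩, ⟨v, hv, le_normalizer hvS⟩, fun e => hvu (congrArg Subtype.val e).symm⟩⟩
    exact Finite.one_lt_card
  -- a two-element normalising `S`
  have hcC : c ∈ centralizer ({u} : Set G) := mem_centralizer_singleton_iff.2 hcu
  obtain ⟨k, hk⟩ := orderOf_two_pow_of_mem (hC u hu) hcC
  set γ : MulAut L := MulAut.conjNormal c with hγ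
  have hγu : γ ⟨u, huL⟩ = ⟨u, huL⟩ := Subtype.ext (by
    rw [hγ, MulAut.conjNormal_apply]; exact mul_inv_eq_iff_eq_mul.2 hcu)
  have hSmap : ∀ (γ : MulAut L) (U : Subgroup L), IsSyl U ⊤ → IsSyl (U.map γ.toMonoidHom) ⊤ := by
    intro γ U hU
    refine ⟨le_top, hU.2.1.map _, fun Q hle _ hQ => le_antisymm ?_ hle⟩
    have hle' : U ≤ Q.comap γ.toMonoidHom := fun x hx => hle (mem_map_of_mem _ hx)
    have := hU.2.2 _ hle' le_top (hQ.comap_of_injective _ γ.injective)
    intro q hq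
    obtain ⟨x, rfl⟩ := γ.surjective q
    exact mem_map_of_mem _ (this ▸ (hq : x ∈ Q.comap γ.toMonoidHom))
  have hγS : S.map γ.toMonoidHom = S := by
    by_contra hne
    exact Signalizer.involution_ne_one huo (mem_bot.1 ((hTI _ _ (hSmap γ S hS) hS hne).le
      ⟨⟨_, huS', hγu⟩, huS'⟩))
  -- a second Sylow subgroup and an element fixing both
  obtain ⟨j, hj⟩ : ∃ j : L, j ∉ normalizer (S : Set L) := by
    by_contra hno
    push Not at hno
    exact hb S hS fun x _ => hno x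
  set S' := S.map (MulAut.conj j).toMonoidHom with hS'
  have hx1 : (j : L ⧸ normalizer (S : Set L)) ≠ ((1 : L) : L ⧸ normalizer (S : Set L)) := fun e => hj
    (inv_mem_iff.1 (by simpa using QuotientGroup.eq.1 e))
  have hx2 : ((γ j : L) : L ⧸ normalizer (S : Set L)) ≠ ((1 : L) : L ⧸ normalizer (S : Set L)) := fun e => hj (by
    have h1 : γ j ∈ normalizer (S : Set L) := inv_mem_iff.1 (by simpa using QuotientGroup.eq.1 e)
    rw [mem_normalizer_iff] at h1 ⊢
    intro s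
    have h2 : ∀ x, x ∈ S ↔ γ x ∈ S := fun x => by
      conv_rhs => rw [← hγS]
      exact (mem_map_iff_mem (f := γ.toMonoidHom) γ.injective).symm
    rw [h2 s, h1 (γ s), h2 (j * s * j⁻¹), map_mul, map_mul, map_inv])
  obtain ⟨a, haS, haj⟩ := hE.exists_ker hi hx2 hx1
  have haS' : a ∈ S := hE.inH_one.1 haS
  -- `a • γ j = j`
  have hjn : (j : L)⁻¹ * (a * γ j) ∈ normalizer (S : Set L) := QuotientGroup.eq.1 haj.symm
  obtain ⟨τ0, hτ0⟩ : ∃ τ, τ = (a : G) * c := ⟨_, rfl⟩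
  have hcj : ∀ x : L, (c * x * c⁻¹ : G) = (γ x : L) := fun x => by rw [hγ, MulAut.conjNormal_apply]
  let δ : MulAut L := MulAut.conj a * γ
  have hδ : ∀ x : L, ((δ x : L) : G) = τ0 * x * τ0⁻¹ := fun x => by
    show ((a * γ x * a⁻¹ : L) : G) = _
    rw [Subgroup.coe_mul, Subgroup.coe_mul, ← hcj, Subgroup.coe_inv, hτ0]
    group
  have hconjS : ∀ n : L, n ∈ normalizer (S : Set L) → S.map (MulAut.conj n).toMonoidHom = S := fun n hn =>
    mem_normalizer_iff_cj.1 hn
  have hfix1 : S.map δ.toMonoidHom = S := by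
    rw [show δ.toMonoidHom = (MulAut.conj a).toMonoidHom.comp γ.toMonoidHom from rfl, ← map_map, hγS,
      hconjS a (le_normalizer haS')]
  have hfix2 : S'.map δ.toMonoidHom = S' := by
    have h1 : (MulAut.conj a * γ) * MulAut.conj j = MulAut.conj (a * γ j) * γ := by
      ext x
      simp only [MulAut.mul_apply, MulAut.conj_apply, map_mul, map_inv, coe_mul, coe_inv, mul_inv_rev, mul_assoc]
    rw [hS', map_map, show δ.toMonoidHom.comp (MulAut.conj j).toMonoidHom = (δ * MulAut.conj j).toMonoidHom from rfl,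
      h1, show (MulAut.conj (a * γ j) * γ).toMonoidHom = (MulAut.conj (a * γ j)).toMonoidHom.comp γ.toMonoidHom from rfl,
      ← map_map, hγS, show a * γ j = j * (j⁻¹ * (a * γ j)) by group,
      show (MulAut.conj (j * (j⁻¹ * (a * γ j)))).toMonoidHom =
        (MulAut.conj j).toMonoidHom.comp (MulAut.conj (j⁻¹ * (a * γ j))).toMonoidHom by
        rw [map_mul]; rfl, ← map_map, hconjS _ hjn]
  -- the two-part
  have hc1 : c ≠ 1 := fun e => hcL (e ▸ one_mem L)
  obtain ⟨e, m, hm, hem⟩ := Nat.exists_eq_two_pow_mul_odd (orderOf_pos τ0).ne'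
  obtain ⟨τ, hτ⟩ : ∃ τ, τ = τ0 ^ m := ⟨_, rfl⟩
  have hτ2 : IsPGroup 2 (zpowers τ) := by
    refine IsPGroup.of_card (n := e) ?_
    rw [Nat.card_zpowers, hτ, orderOf_pow_of_dvd hm.pos.ne' (hem ▸ dvd_mul_left m (2 ^ e)), hem,
      Nat.mul_div_cancel _ hm.pos]
  have hτL : τ ∉ L := by
    intro hmem
    have h1 : ((τ0 : G) : G ⧸ L) = (c : G ⧸ L) := by
      rw [hτ0, QuotientGroup.mk_mul, (QuotientGroup.eq_one_iff _).2 a.2, one_mul]
    have h2 : (c : G ⧸ L) ^ m = 1 := by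
      rw [← h1, ← QuotientGroup.mk_pow, ← hτ]; exact (QuotientGroup.eq_one_iff τ).2 hmem
    have h3 : (c : G ⧸ L) ^ 2 ^ k = 1 := by rw [← QuotientGroup.mk_pow, ← hk, pow_orderOf_eq_one, QuotientGroup.mk_one]
    have h4 := Nat.dvd_gcd (orderOf_dvd_of_pow_eq_one h2) (orderOf_dvd_of_pow_eq_one h3)
    rw [((Nat.coprime_two_right.2 hm).pow_right k).gcd_eq_one, Nat.dvd_one, orderOf_eq_one_iff,
      QuotientGroup.eq_one_iff] at h4
    exact hcL h4
  -- fixed points of the two-element on both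
  have hfixed : ∀ U : Subgroup L, IsSyl U ⊤ → U ≠ ⊥ → U.map δ.toMonoidHom = U →
      ∃ x ∈ U, x ≠ 1 ∧ (x : G) * τ = τ * x := by
    intro U hU hU1 hUfix
    have hτn : τ ∈ normalizer ((U.map L.subtype : Subgroup G) : Set G) := by
      rw [hτ]
      refine pow_mem (mem_normalizer_iff_cj.2 ?_) m
      rw [cj, map_map, show (MulAut.conj τ0).toMonoidHom.comp L.subtype = L.subtype.comp δ.toMonoidHom from
        MonoidHom.ext fun x => (hδ x).symm, ← map_map, hUfix]
    obtain ⟨V, hV⟩ : ∃ V, V = U.map L.subtype := ⟨_, rfl⟩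
    rw [← hV] at hτn
    haveI : Nontrivial V := (nontrivial_iff_ne_bot _).2 fun e =>
      hU1 ((map_eq_bot_iff_of_injective _ L.subtype_injective).1 (hV.symm.trans e))
    letI : MulAction (zpowers τ) V :=
      { smul := fun t v => ⟨(t : G) * v * (t : G)⁻¹, (mem_normalizer_iff.1 ((zpowers_le.2 hτn) t.2) v).1 v.2⟩
        one_smul := fun v => Subtype.ext (by show ((1 : zpowers τ) : G) * v * ((1 : zpowers τ) : G)⁻¹ = v; simp)
        mul_smul := fun s t v => Subtype.ext (by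
          show ((s * t : zpowers τ) : G) * v * ((s * t : zpowers τ) : G)⁻¹ =
            (s : G) * ((t : G) * v * (t : G)⁻¹) * (s : G)⁻¹
          rw [Subgroup.coe_mul]; group) }
    have h2V : 2 ∣ Nat.card V := by
      obtain ⟨n, hn⟩ := (hV ▸ hU.2.1.map L.subtype : IsPGroup 2 V).exists_card_eq
      have := Finite.one_lt_card (α := V)
      rw [hn] at this ⊢
      exact dvd_pow_self 2 fun h0 => by rw [h0, pow_zero] at this; omega
    obtain ⟨x, hx, hxne⟩ := hτ2.exists_fixed_point_of_prime_dvd_card_of_fixed_point V h2V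
      (a := 1) (fun t => Subtype.ext (by show (t : G) * (1 : G) * (t : G)⁻¹ = 1; simp))
    obtain ⟨y, hy, hyx⟩ := (hV ▸ x.2 : (x : G) ∈ U.map L.subtype)
    refine ⟨y, hy, fun e => hxne (Subtype.ext (by rw [← hyx, e]; simp)), ?_⟩
    have h1 : τ * (x : G) * τ⁻¹ = x := congrArg Subtype.val (hx ⟨τ, mem_zpowers τ⟩)
    rw [← hyx] at h1
    exact (mul_inv_eq_iff_eq_mul.1 h1).symm
  have hSne : S ≠ ⊥ := fun e => Signalizer.involution_ne_one huo (mem_bot.1 (e ▸ huS'))
  obtain ⟨x, hxS, hx, hxτ⟩ := hfixed S hS hSne hfix1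
  obtain ⟨x', hxS', hx', hxτ'⟩ := hfixed S' (hSmap _ S hS)
    (fun e => hSne ((map_eq_bot_iff_of_injective _ (MulAut.conj j).injective).1 e)) hfix2
  have hτ1 : τ ≠ 1 := fun e => hτL (e ▸ one_mem L)
  obtain ⟨k', hk'⟩ := orderOf_two_pow_of_mem hτ2 (mem_zpowers τ)
  have hP : IsPGroup 2 ((centralizer ({τ} : Set G)).subgroupOf L) :=
    (hC.centralizer_pGroup hk' hτ1).comap_of_injective _ L.subtype_injective
  have hmem : ∀ w : L, (w : G) * τ = τ * w → w ∈ (centralizer ({τ} : Set G)).subgroupOf L := fun w hw =>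
    mem_subgroupOf.2 (mem_centralizer_singleton_iff.2 hw)
  have hne : S' ≠ S := fun e => hj (mem_normalizer_iff_cj.2 e)
  refine hx' (mem_bot.1 ((hTI S' S (hSmap _ S hS) hS hne).le ⟨hxS', ?_⟩))
  exact hTI.le_of_mem hS hP hx hxS (hmem x hxτ) (hmem x' hxτ')

end Simple

end CfsgLib.CIT
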