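import Cfsg.Agent.Lib.Classical.SmallIsoSix
import Cfsg.Agent.Lib.Classical.PSLThreeFour
import Cfsg.Agent.Lib.Known.L34.Upper

/-!
# Sylow 3-subgroups of order nine of `A₆` and `PSL(3, 4)` with an element of order four
-/

set_option autoImplicit false
set_option linter.all false

set_option maxHeartbeats 1000000

namespace CfsgLib.CIT

open Matrix
open scoped MatrixGroups

/-- Two generators of a group of order nine and an element of order four permuting them. -/
def NineData (X : Type*) [Group X] : Prop :=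
  ∃ a b f : X, a ^ 3 = 1 ∧ b ^ 3 = 1 ∧ a * b = b * a ∧ a ≠ 1 ∧ b ≠ 1 ∧ b ≠ a ∧ b ≠ a * a ∧ f ^ 4 = 1 ∧
    f * a * f⁻¹ = b ∧ f * b * f⁻¹ = a⁻¹

theorem NineData.congr {X Y : Type*} [Group X] [Group Y] (e : X ≃* Y) (h : NineData X) : NineData Y := by
  obtain ⟨a, b, f, h1, h2, h3, h4, h5, h6, h7, h8, h9, h10⟩ := h
  refine ⟨e a, e b, e f, by rw [← map_pow, h1, map_one], by rw [← map_pow, h2, map_one],
    by rw [← map_mul, h3, map_mul], fun he => h4 (e.injective (he.trans e.map_one.symm)),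
    fun he => h5 (e.injective (he.trans e.map_one.symm)), fun he => h6 (e.injective he),
    fun he => h7 (e.injective (he.trans (map_mul e a a).symm)), by rw [← map_pow, h8, map_one],
    by rw [← map_inv, ← map_mul, ← map_mul, h9], by rw [← map_inv, ← map_mul, ← map_mul, h10, map_inv]⟩

theorem nineData_alt_six : NineData (alternatingGroup (Fin 6)) := by
  refine ⟨⟨Equiv.swap 0 1 * Equiv.swap 1 2, Equiv.Perm.mem_alternatingGroup.2 (by decide)⟩,
    ⟨Equiv.swap 3 4 * Equiv.swap 4 5, Equiv.Perm.mem_alternatingGroup.2 (by decide)⟩,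
    ⟨Equiv.swap 0 3 * (Equiv.swap 1 4 * Equiv.swap 4 2 * Equiv.swap 2 5), Equiv.Perm.mem_alternatingGroup.2 (by decide)⟩,
    ?_, ?_, ?_, ?_, ?_, ?_, ?_, ?_, ?_, ?_⟩ <;> decide

variable {F : Type*} [Field F] [Fintype F]

theorem nineData_psl_nine (hF : Fintype.card F = 9) : NineData (ProjectiveSpecialLinearGroup (Fin 2) F) := by
  obtain ⟨e⟩ := CfsgLib.Classical.nonempty_psl_nine_equiv_alt hF
  exact nineData_alt_six.congr e.symm

theorem nineData_psl_three_four (hF : Fintype.card F = 4) : NineData (ProjectiveSpecialLinearGroup (Fin 3) F) := by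
  classical
  have h4 : ∀ x : F, x ^ 4 = x := fun x => hF ▸ FiniteField.pow_card x
  have h2 : (2 : F) = 0 := by
    have h : (4 : F) = 0 := by rw [show (4 : F) = ((Fintype.card F : ℕ) : F) by rw [hF]; norm_num, Nat.cast_card_eq_zero]
    rcases mul_eq_zero.1 (show (2 : F) * 2 = 0 by rw [← h]; norm_num) with e | e <;> exact e
  obtain ⟨w, -, hw⟩ := Finset.exists_mem_notMem_of_card_lt_card (s := ({0, 1} : Finset F))
    (t := Finset.univ) (Finset.card_le_two.trans_lt (by rw [Finset.card_univ, hF]; norm_num))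
  simp at hw
  have hw2 : w * w = w + 1 := by
    have h : w * (w - 1) * (w * w + w + 1) = 0 := by linear_combination h4 w
    have := (mul_eq_zero.1 h).resolve_left (mul_ne_zero hw.1 (sub_ne_zero.2 hw.2))
    linear_combination this - (w + 1) * h2
  let A : SL(3, F) := ⟨!![1, 0, 0; 0, w, 0; 0, 0, w * w], by simp [det_fin_three]; grind⟩
  let B : SL(3, F) := ⟨!![0, 1, 0; 0, 0, 1; 1, 0, 0], by simp [det_fin_three]⟩
  let W : SL(3, F) := ⟨!![1, 1, 1; 1, w, w * w; 1, w * w, w], by simp [det_fin_three]; grind⟩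
  have hAm : (A : Matrix (Fin 3) (Fin 3) F) = !![1, 0, 0; 0, w, 0; 0, 0, w * w] := rfl
  have hBm : (B : Matrix (Fin 3) (Fin 3) F) = !![0, 1, 0; 0, 0, 1; 1, 0, 0] := rfl
  have hWm : (W : Matrix (Fin 3) (Fin 3) F) = !![1, 1, 1; 1, w, w * w; 1, w * w, w] := rfl
  have hsc : ∀ (X : SL(3, F)) (c : F), c ^ 3 = 1 → (X : Matrix (Fin 3) (Fin 3) F) = c • 1 →
      (X : ProjectiveSpecialLinearGroup (Fin 3) F) = 1 := by
    intro X c hc hX
    rw [QuotientGroup.eq_one_iff, Matrix.SpecialLinearGroup.mem_center_iff]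
    refine ⟨c, by simpa using hc, ?_⟩
    rw [hX]
    simp [Matrix.smul_one_eq_diagonal]
  have hns : ∀ X : SL(3, F), (∃ i j : Fin 3, i ≠ j ∧ (X : Matrix (Fin 3) (Fin 3) F) i j ≠ 0) ∨
      (X : Matrix (Fin 3) (Fin 3) F) 0 0 ≠ (X : Matrix (Fin 3) (Fin 3) F) 1 1 →
      (X : ProjectiveSpecialLinearGroup (Fin 3) F) ≠ 1 := by
    intro X h he
    rw [QuotientGroup.eq_one_iff, Matrix.SpecialLinearGroup.mem_center_iff] at he
    obtain ⟨c, -, hX⟩ := he
    rw [← hX] at h
    rcases h with ⟨i, j, hij, h⟩ | h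
    · exact h (by simp [hij])
    · exact h (by simp)
  have hA3 : A ^ 3 = 1 := by
    apply Matrix.SpecialLinearGroup.ext
    intro i j
    fin_cases i <;> fin_cases j <;> simp [hAm, pow_succ, Matrix.mul_apply, Fin.sum_univ_three] <;> grind
  have hB3 : B ^ 3 = 1 := by
    apply Matrix.SpecialLinearGroup.ext
    intro i j
    fin_cases i <;> fin_cases j <;> simp [hBm, pow_succ, Matrix.mul_apply, Fin.sum_univ_three]
  have hW4 : W ^ 4 = 1 := by
    apply Matrix.SpecialLinearGroup.ext
    intro i j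
    fin_cases i <;> fin_cases j <;> simp [hWm, pow_succ, Matrix.mul_apply, Fin.sum_univ_three] <;> grind
  have hWA : W * A = B * W := by
    apply Matrix.SpecialLinearGroup.ext
    intro i j
    fin_cases i <;> fin_cases j <;> simp [hAm, hBm, hWm, pow_succ, Matrix.mul_apply, Fin.sum_univ_three] <;> grind
  have hWB' : W * B = A⁻¹ * W := by
    rw [eq_inv_mul_iff_mul_eq]
    apply Matrix.SpecialLinearGroup.ext
    intro i j
    fin_cases i <;> fin_cases j <;> simp [hAm, hBm, hWm, pow_succ, Matrix.mul_apply, Fin.sum_univ_three] <;> grind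
  let π : SL(3, F) →* ProjectiveSpecialLinearGroup (Fin 3) F := QuotientGroup.mk' _
  have hAB : π A * π B = π B * π A := by
    have : π (A * B * (B * A)⁻¹) = 1 := by
      refine hsc _ (w * w) (by grind) ?_
      have e : A * B = A * B * (B * A)⁻¹ * (B * A) := by group
      rw [show A * B * (B * A)⁻¹ = A * B * (A ^ 2 * B ^ 2) by
        rw [_root_.mul_inv_rev, inv_eq_of_mul_eq_one_right (show A * A ^ 2 = 1 by rw [← pow_succ', hA3]),
          inv_eq_of_mul_eq_one_right (show B * B ^ 2 = 1 by rw [← pow_succ', hB3])]]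
      ext i j
      fin_cases i <;> fin_cases j <;> simp [hAm, hBm, pow_succ, Matrix.mul_apply, Fin.sum_univ_three] <;> grind
    rw [map_mul, map_mul, map_inv, mul_inv_eq_one, map_mul] at this
    exact this
  refine ⟨π A, π B, π W, by rw [← map_pow, hA3, map_one], by rw [← map_pow, hB3, map_one], hAB,
    hns A (Or.inr ?_), hns B (Or.inl ⟨0, 1, by decide, ?_⟩), fun he => ?_, fun he => ?_,
    by rw [← map_pow, hW4, map_one], ?_, ?_⟩
  · simpa [hAm] using fun h => hw.2 h.symm
  · simp [hBm]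
  · exact hns (A⁻¹ * B) (Or.inl ⟨0, 1, by decide, by
      rw [inv_eq_of_mul_eq_one_right (show A * A ^ 2 = 1 by rw [← pow_succ', hA3])]
      simp [hAm, hBm, pow_two, Matrix.mul_apply, Fin.sum_univ_three]⟩) (by
        show π (A⁻¹ * B) = 1
        rw [map_mul, map_inv, he, inv_mul_cancel])
  · exact hns (A * B) (Or.inl ⟨0, 1, by decide, by
      simp [hAm, hBm, Matrix.mul_apply, Fin.sum_univ_three]⟩) (by
        show π (A * B) = 1
        rw [map_mul, he, ← mul_assoc, ← map_mul, ← map_mul,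
          show A * A * A = 1 by rw [← hA3]; simp [pow_succ], map_one])
  · rw [← map_inv, ← map_mul, ← map_mul, hWA, mul_inv_cancel_right]
  · rw [← map_inv, ← map_mul, ← map_mul, hWB', mul_inv_cancel_right, map_inv]

end CfsgLib.CIT
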