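import Cfsg.Agent.Lib.CIT.AlmostSimple

/-!
# A CIT group over a simple normal subgroup: the Sylow 3-subgroups

* `eq_top_of_cyclic_three`: cyclic Sylow 3-subgroups give `G = L`
* `index_nine`: Sylow 3-subgroups of order nine with an element of order four permuting two generators
-/

set_option autoImplicit false
set_option linter.all false

namespace CfsgLib.CIT

open Subgroup
open CfsgLib.Signalizer (involution_sq involution_inv orderOf_eq_two_of orderOf_conj)

universe u

variable {G : Type u} [Group G] [Finite G]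

/-- The order of a subgroup supplementing a normal subgroup. -/
theorem index_mul_card_inf (L T : Subgroup G) [L.Normal] (h : ∀ g : G, ∃ l c : G, l ∈ L ∧ c ∈ T ∧ g = l * c) :
    L.index * Nat.card (T ⊓ L : Subgroup G) = Nat.card T := by
  set f : T →* G ⧸ L := (QuotientGroup.mk' L).comp T.subtype with hf
  have hs : Function.Surjective f := fun x => by
    obtain ⟨g, rfl⟩ := QuotientGroup.mk_surjective x
    obtain ⟨l, c, hl, hc, rfl⟩ := h g
    refine ⟨⟨c, hc⟩, ?_⟩
    show ((c : G) : G ⧸ L) = ((l * c : G) : G ⧸ L)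
    rw [QuotientGroup.mk_mul, (QuotientGroup.eq_one_iff l).2 hl, one_mul]
  have hk : Nat.card f.ker = Nat.card (T ⊓ L : Subgroup G) := by
    refine Nat.card_congr
      { toFun := fun x => ⟨((x : T) : G), (x : T).2, (QuotientGroup.eq_one_iff _).1 x.2⟩
        invFun := fun x => ⟨⟨(x : G), x.2.1⟩, (QuotientGroup.eq_one_iff _).2 x.2.2⟩
        left_inv := fun x => rfl
        right_inv := fun x => rfl }
  rw [Subgroup.card_eq_card_quotient_mul_card_subgroup f.ker,
    Nat.card_congr (QuotientGroup.quotientKerEquivOfSurjective f hs).toEquiv, hk, index_eq_card]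

/-- The 2-group acting freely on an inverted odd subgroup. -/
theorem CIT.free (hC : CIT G) {u : G} (hu : orderOf u = 2) {c : G} (hc : c * u = u * c) (hc1 : c ≠ 1)
    {p : G} (hp : Odd (orderOf p)) (hcp : c * p * c⁻¹ = p) : p = 1 := by
  obtain ⟨k, hk⟩ := orderOf_two_pow_of_mem (hC u hu) (mem_centralizer_singleton_iff.2 hc)
  by_contra hp1
  exact hc1 (hC.eq_one hp hp1 hk (mul_inv_eq_iff_eq_mul.1 hcp).symm)

section Simple

variable (hC : CIT G) {L : Subgroup G} [hLn : L.Normal] [hLs : IsSimpleGroup L] (hna : ¬ IsMulCommutative L)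
include hC hna

/-- Cyclic Sylow 3-subgroups leave no room. -/
theorem eq_top_of_cyclic_three {x : L} (h3 : 3 ∣ Nat.card L) (hx : ∀ k : ℕ, 3 ^ k ∣ Nat.card L → 3 ^ k ∣ orderOf x) :
    L = ⊤ := by
  classical
  haveI h3f : Fact (Nat.Prime 3) := ⟨Nat.prime_three⟩
  obtain ⟨a, ha⟩ : ∃ a, a = (Nat.card L).factorization 3 := ⟨_, rfl⟩
  have hadvd : 3 ^ a ∣ Nat.card L := ha ▸ Nat.ordProj_dvd _ 3
  have hao := hx a hadvd
  obtain ⟨y, hy⟩ : ∃ y, y = x ^ (orderOf x / 3 ^ a) := ⟨_, rfl⟩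
  have hyo : orderOf y = 3 ^ a := hy ▸ orderOf_pow_orderOf_div (orderOf_pos x).ne' hao
  obtain ⟨P, hP⟩ := IsPGroup.exists_le_sylow (IsPGroup.of_card (n := a) (G := zpowers y) (by rw [Nat.card_zpowers, hyo]))
  have hPy : (P : Subgroup L) = zpowers y := (eq_of_le_of_card_ge hP (by
    rw [Nat.card_zpowers, hyo, P.card_eq_multiplicity, ← ha])).symm
  have ha1 : 1 ≤ a := by
    rw [ha]; exact Nat.prime_three.factorization_pos_of_dvd Nat.card_pos.ne' h3
  have hy1 : y ≠ 1 := fun e => by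
    rw [e, orderOf_one] at hyo
    exact absurd hyo.symm (Nat.one_lt_pow (by omega) (by norm_num)).ne'
  haveI hcyc : IsCyclic (P : Subgroup L) := by rw [hPy]; infer_instance
  -- an element of the normaliser acting nontrivially
  have hnorm : ¬ normalizer ((P : Subgroup L) : Set L) ≤ centralizer ((P : Subgroup L) : Set L) := by
    intro hle
    obtain ⟨N, hN, hc⟩ : ∃ N : Subgroup L, N.Normal ∧ IsComplement' N (P : Subgroup L) :=
      ⟨_, MonoidHom.normal_ker _, MonoidHom.ker_transferSylow_isComplement' P hle⟩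
    rcases hN.eq_bot_or_eq_top with e | e
    · rw [e] at hc
      have h1 : (P : Subgroup L) = ⊤ := isComplement'_bot_left.1 hc
      rw [hPy] at h1
      exact hna ⟨⟨fun u v => by
        obtain ⟨i, rfl⟩ := mem_zpowers_iff.1 (h1 ▸ mem_top u : u ∈ zpowers y)
        obtain ⟨j, rfl⟩ := mem_zpowers_iff.1 (h1 ▸ mem_top v : v ∈ zpowers y)
        rw [← zpow_add, ← zpow_add, add_comm]⟩⟩
    · rw [e] at hc
      have h1 : (P : Subgroup L) = ⊥ := isComplement'_top_left.1 hc
      rw [hPy, zpowers_eq_bot] at h1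
      exact hy1 h1
  obtain ⟨g, hgN, hgC⟩ := SetLike.not_le_iff_exists.1 hnorm
  have hyodd : Odd (orderOf ((y : L) : G)) := by rw [orderOf_coe, hyo]; exact (Nat.odd_iff.2 rfl : Odd 3).pow
  have hyG1 : (y : G) ≠ 1 := fun e => hy1 (Subtype.ext e)
  -- the automorphism it induces has order prime to three up to two
  haveI : ((P : Subgroup L).subgroupOf (normalizer ((P : Subgroup L) : Set L))).Normal :=
    normal_subgroupOf_iff_le_normalizer le_normalizer |>.2 le_rfl
  let φ := (P : Subgroup L).normalizerMonoidHom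
  have hφ : φ ⟨g, hgN⟩ ≠ 1 := fun e => hgC (by
    have := (MonoidHom.mem_ker (f := φ)).2 e
    rw [normalizerMonoidHom_ker, mem_subgroupOf] at this
    exact this)
  have haut : Nat.card (MulAut (P : Subgroup L)) = 2 * 3 ^ (a - 1) := by
    rw [IsCyclic.card_mulAut, hPy, Nat.card_zpowers, hyo, Nat.totient_prime_pow Nat.prime_three (by omega)]
    ring
  -- elements of the normaliser whose order is a power of three centralise
  have hthree : ∀ (w : L) (hw : w ∈ normalizer ((P : Subgroup L) : Set L)), orderOf (φ ⟨w, hw⟩) ∣ 2 := by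
    intro w hw
    have h1 : orderOf (φ ⟨w, hw⟩) ∣ 2 * 3 ^ (a - 1) := haut ▸ orderOf_dvd_natCard _
    refine Nat.Coprime.dvd_of_dvd_mul_right ?_ h1
    by_contra hcop
    have h3o : 3 ∣ orderOf (φ ⟨w, hw⟩) := by
      by_contra h
      exact hcop (((Nat.Prime.coprime_iff_not_dvd Nat.prime_three).2 h).symm.pow_right _)
    have h3w : 3 ∣ orderOf (⟨w, hw⟩ : normalizer ((P : Subgroup L) : Set L)) := h3o.trans (orderOf_map_dvd φ _)
    obtain ⟨e', m', hm', hem'⟩ := Nat.exists_eq_pow_mul_and_not_dvd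
      (orderOf_pos (⟨w, hw⟩ : normalizer ((P : Subgroup L) : Set L))).ne' 3 (by norm_num)
    set v : normalizer ((P : Subgroup L) : Set L) := ⟨w, hw⟩ ^ m' with hv
    have hvo : orderOf v = 3 ^ e' := by
      rw [hv, orderOf_pow_of_dvd (fun e0 => hm' (by rw [e0]; exact dvd_zero 3)) (hem' ▸ dvd_mul_left m' _), hem',
        Nat.mul_div_cancel _ (Nat.pos_of_ne_zero fun e0 => hm' (by rw [e0]; exact dvd_zero 3))]
    have hvP : (v : L) ∈ (P : Subgroup L) := by
      have hp : IsPGroup 3 (zpowers (v : L)) := IsPGroup.of_card (n := e') (by rw [Nat.card_zpowers, orderOf_coe, hvo])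
      have hsup := IsPGroup.to_sup_of_normal_left' P.isPGroup' hp (zpowers_le.2 v.2)
      have hmax := P.is_maximal' hsup le_sup_left
      exact hmax.le (mem_sup_right (mem_zpowers _))
    have hv1 : φ v = 1 := by
      have : v ∈ φ.ker := by
        rw [normalizerMonoidHom_ker, mem_subgroupOf, mem_centralizer_iff]
        intro p hp
        obtain ⟨i, hi⟩ := mem_zpowers_iff.1 (hPy.le hp)
        obtain ⟨j, hj⟩ := mem_zpowers_iff.1 (hPy.le hvP)
        rw [← hi, ← hj, ← zpow_add, ← zpow_add, add_comm]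
      exact this
    rw [hv, map_pow] at hv1
    exact hm' (h3o.trans (orderOf_dvd_of_pow_eq_one hv1))
  have hg2 : orderOf (φ ⟨g, hgN⟩) = 2 :=
    ((Nat.dvd_prime Nat.prime_two).1 (hthree g hgN)).resolve_left fun e => hφ (orderOf_eq_one_iff.1 e)
  obtain ⟨e, m, hm, hem⟩ := Nat.exists_eq_two_pow_mul_odd (orderOf_pos g).ne'
  set t : L := g ^ m with ht
  have hto : orderOf t = 2 ^ e := by
    rw [ht, orderOf_pow_of_dvd hm.pos.ne' (hem ▸ dvd_mul_left m _), hem, Nat.mul_div_cancel _ hm.pos]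
  have htN : t ∈ normalizer ((P : Subgroup L) : Set L) := pow_mem hgN m
  have htφ : φ ⟨t, htN⟩ ≠ 1 := fun h => by
    rw [show (⟨t, htN⟩ : normalizer ((P : Subgroup L) : Set L)) = ⟨g, hgN⟩ ^ m from Subtype.ext rfl, map_pow] at h
    have := orderOf_dvd_of_pow_eq_one h
    rw [hg2] at this
    exact hm.not_two_dvd_nat this
  have hyP : y ∈ (P : Subgroup L) := hPy ▸ mem_zpowers y
  have ht2 : t * t = 1 := by
    have h1 : φ (⟨t, htN⟩ * ⟨t, htN⟩) = 1 := by
      rw [map_mul, ← pow_two]; exact orderOf_dvd_iff_pow_eq_one.1 (hthree t htN)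
    have h2 : t * t * y * (t * t)⁻¹ = y := by
      have h3 := congrArg Subtype.val (DFunLike.congr_fun h1 (⟨y, hyP⟩ : ↥(P : Subgroup L)))
      exact h3
    obtain ⟨k, hk⟩ := orderOf_two_pow_of_mem (IsPGroup.of_card (n := e) (G := zpowers t) (by rw [Nat.card_zpowers, hto]))
      (mul_mem (mem_zpowers t) (mem_zpowers t))
    exact Subtype.ext (hC.eq_one hyodd hyG1 (k := k) (by rw [← hk, ← orderOf_coe])
      (congrArg Subtype.val (mul_inv_eq_iff_eq_mul.1 h2).symm))
  have ht1 : t ≠ 1 := fun h => htφ (by rw [show (⟨t, htN⟩ : normalizer ((P : Subgroup L) : Set L)) = 1 from Subtype.ext h, map_one])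
  have htG : orderOf (t : G) = 2 := by rw [orderOf_coe]; exact orderOf_eq_two_of ht1 ht2
  have hinv : ∀ p ∈ (P : Subgroup L).map L.subtype, (t : G) * p * (t : G)⁻¹ = p⁻¹ := by
    obtain ⟨k, hk⟩ := IsPGroup.iff_card.1 (P.isPGroup'.map L.subtype)
    refine (hC.inverted_odd (hk ▸ (Nat.odd_iff.2 rfl : Odd 3).pow) htG ?_).1
    rintro _ ⟨p, hp, rfl⟩
    exact ⟨t * p * t⁻¹, (mem_normalizer_iff.1 htN p).1 hp, by simp⟩
  obtain ⟨-, hsp⟩ := split_at hC (by norm_num) P (fun e0 => hy1 (mem_bot.1 (e0 ▸ hyP))) htG t.2 hinv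
  refine eq_top_iff.2 fun g' _ => ?_
  obtain ⟨l, c, hl, hcN, hcu, rfl⟩ := hsp g'
  refine mul_mem hl ?_
  rcases eq_or_ne c 1 with rfl | hc1
  · exact one_mem L
  -- `c` permutes the generators of a cyclic 3-group freely
  have hyQ : (y : G) ∈ (P : Subgroup L).map L.subtype := ⟨y, hyP, rfl⟩
  obtain ⟨i, hi⟩ : ∃ i : ℤ, c * (y : G) * c⁻¹ = (y : G) ^ i := by
    obtain ⟨p, hp, hpe⟩ := (mem_normalizer_iff.1 hcN (y : G)).1 hyQ
    rw [hPy] at hp
    obtain ⟨i, rfl⟩ := mem_zpowers_iff.1 hp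
    exact ⟨i, by rw [← hpe]; exact map_zpow L.subtype y i⟩
  obtain ⟨k, hk⟩ := orderOf_two_pow_of_mem (hC _ htG) (mem_centralizer_singleton_iff.2 hcu)
  have hmemP : ∀ p ∈ (P : Subgroup L), (MulAut.conjNormal c : MulAut L) p ∈ (P : Subgroup L) := fun p hp => by
    obtain ⟨q, hq, hqe⟩ := (mem_normalizer_iff.1 hcN (p : G)).1 ⟨p, hp, rfl⟩
    rwa [show (MulAut.conjNormal c : MulAut L) p = q from Subtype.ext (by rw [MulAut.conjNormal_apply]; exact hqe.symm)]
  have hmemP' : ∀ p ∈ (P : Subgroup L), (MulAut.conjNormal c : MulAut L).symm p ∈ (P : Subgroup L) := fun p hp => by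
    obtain ⟨q, hq, hqe⟩ := (mem_normalizer_iff''.1 hcN (p : G)).1 ⟨p, hp, rfl⟩
    rwa [show (MulAut.conjNormal c : MulAut L).symm p = q from
      Subtype.ext (by rw [MulAut.conjNormal_symm_apply]; exact hqe.symm)]
  let ψ : MulAut ↥(P : Subgroup L) :=
    { toFun := fun p => ⟨_, hmemP _ p.2⟩
      invFun := fun p => ⟨_, hmemP' _ p.2⟩
      left_inv := fun p => Subtype.ext ((MulAut.conjNormal c : MulAut L).symm_apply_apply _)
      right_inv := fun p => Subtype.ext ((MulAut.conjNormal c : MulAut L).apply_symm_apply _)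
      map_mul' := fun p q => Subtype.ext (map_mul _ _ _) }
  have hψpow : ∀ (n : ℕ) (p : (P : Subgroup L)), (((ψ ^ n) p : L) : G) = c ^ n * ((p : L) : G) * (c ^ n)⁻¹ := by
    intro n
    induction n with
    | zero => intro p; simp
    | succ n ih =>
      intro p
      rw [pow_succ', MulAut.mul_apply]
      show (((MulAut.conjNormal c : MulAut L) ((ψ ^ n) p : L) : L) : G) = _
      rw [MulAut.conjNormal_apply, ih, pow_succ']
      group
  have hψ : orderOf ψ ∣ 2 := by
    have h1 : orderOf ψ ∣ 2 ^ k := orderOf_dvd_of_pow_eq_one (MulEquiv.ext fun p => Subtype.ext (Subtype.ext (by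
      rw [hψpow, ← hk, pow_orderOf_eq_one]; simp)))
    have h2' : orderOf ψ ∣ 2 * 3 ^ (a - 1) := haut ▸ orderOf_dvd_natCard _
    exact (Nat.Coprime.pow_right _ (Nat.Coprime.coprime_dvd_left h1 (Nat.Coprime.pow_left k (by norm_num)))).dvd_of_dvd_mul_right h2'
  have hc2 : c * c = 1 := by
    have h1 : c * c * (y : G) * (c * c)⁻¹ = (y : G) := by
      have := hψpow 2 ⟨y, hyP⟩
      rw [orderOf_dvd_iff_pow_eq_one.1 hψ, pow_two] at this
      exact this.symm
    by_contra hne
    exact hyG1 (hC.free htG (show c * c * (t : G) = (t : G) * (c * c) by rw [mul_assoc, hcu, ← mul_assoc, hcu, mul_assoc]) hne hyodd h1)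
  have hct : c = (t : G) := by
    by_contra hne
    have hprod : c * (t : G) ≠ 1 := fun e0 => hne (by
      rw [mul_eq_one_iff_eq_inv.1 e0, involution_inv htG])
    refine hyG1 (hC.free htG (show c * t * (t : G) = (t : G) * (c * t) by rw [← mul_assoc, ← hcu]) hprod hyodd ?_)
    have hcinv : c * (y : G) * c⁻¹ = (y : G)⁻¹ := by
      have hcG : orderOf c = 2 := orderOf_eq_two_of hc1 hc2
      obtain ⟨n, hn⟩ := IsPGroup.iff_card.1 (P.isPGroup'.map L.subtype)
      exact (hC.inverted_odd (hn ▸ (Nat.odd_iff.2 rfl : Odd 3).pow) hcG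
        fun p hp => (mem_normalizer_iff.1 hcN p).1 hp).1 _ hyQ
    calc c * (t : G) * (y : G) * (c * (t : G))⁻¹ = c * ((t : G) * (y : G) * (t : G)⁻¹) * c⁻¹ := by group
      _ = (c * (y : G) * c⁻¹)⁻¹ := by rw [hinv _ hyQ]; group
      _ = (y : G) := by rw [hcinv, inv_inv]
  exact hct ▸ t.2

/-- Sylow 3-subgroups of order nine. -/
theorem index_nine (h9 : ¬ 27 ∣ Nat.card L) {a b f : L} (ha3 : a ^ 3 = 1) (hb3 : b ^ 3 = 1) (hab : a * b = b * a)
    (ha : a ≠ 1) (hb : b ≠ 1) (hba : b ≠ a) (hba' : b ≠ a * a) (hf : f ^ 4 = 1) (hfa : f * a * f⁻¹ = b)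
    (hfb : f * b * f⁻¹ = a⁻¹) :
    L.index ∣ 2 ∧ ((∀ r : ℕ, r.Prime → r ≠ 3 → ∀ z : L, z * a = a * z → orderOf z = r → False) →
      (∀ n : ℕ, n * 36 = Nat.card L → n % 3 ≠ 1) → L = ⊤) := by
  classical
  haveI h3f : Fact (Nat.Prime 3) := ⟨Nat.prime_three⟩
  haveI h2f : Fact (Nat.Prime 2) := ⟨Nat.prime_two⟩
  obtain ⟨P0, hP0⟩ : ∃ P0, P0 = zpowers a ⊔ zpowers b := ⟨_, rfl⟩
  have hao : orderOf a = 3 := orderOf_eq_prime ha3 ha
  have hbo : orderOf b = 3 := orderOf_eq_prime hb3 hb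
  have hza : IsPGroup 3 (zpowers a) := IsPGroup.of_card (n := 1) (by rw [Nat.card_zpowers, hao, pow_one])
  have hzb : IsPGroup 3 (zpowers b) := IsPGroup.of_card (n := 1) (by rw [Nat.card_zpowers, hbo, pow_one])
  have hbn : zpowers b ≤ normalizer (zpowers a : Set L) := zpowers_le.2 (centralizer_le_normalizer _
    (mem_centralizer_iff.2 fun z hz => by
      obtain ⟨i, rfl⟩ := mem_zpowers_iff.1 hz
      exact ((Commute.zpow_left (hab : Commute a b) i).eq)))
  have hP03 : IsPGroup 3 P0 := hP0 ▸ IsPGroup.to_sup_of_normal_left' hza hzb hbn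
  obtain ⟨k, hk⟩ := IsPGroup.iff_card.1 hP03
  have hk2 : k = 2 := by
    have h1 : k ≤ 2 := by
      by_contra hgt
      exact h9 (((show (27 : ℕ) = 3 ^ 3 by norm_num) ▸ pow_dvd_pow 3 (by omega : 3 ≤ k)).trans
        (hk ▸ P0.card_subgroup_dvd_card))
    have h2 : ¬ k ≤ 1 := fun hle => by
      have hsub : zpowers a = P0 := eq_of_le_of_card_ge (hP0 ▸ le_sup_left) (by
        rw [hk, Nat.card_zpowers, hao]
        calc 3 ^ k ≤ 3 ^ 1 := Nat.pow_le_pow_right (by norm_num) hle
          _ = 3 := pow_one 3)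
      have hmem : b ∈ zpowers a := by rw [hsub, hP0]; exact mem_sup_right (mem_zpowers b)
      rw [← mem_powers_iff_mem_zpowers, mem_powers_iff_mem_range_orderOf, hao] at hmem
      simp [Finset.range_add_one, pow_two] at hmem
      rcases hmem with e | e | e
      · exact hba' e
      · exact hba e
      · exact hb e
    omega
  obtain ⟨P, hPle⟩ := hP03.exists_le_sylow
  have hP9 : Nat.card (P : Subgroup L) = 9 := by
    obtain ⟨j, hj⟩ := IsPGroup.iff_card.1 P.isPGroup'
    have h1 : j ≤ 2 := by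
      by_contra hgt
      exact h9 (((show (27 : ℕ) = 3 ^ 3 by norm_num) ▸ pow_dvd_pow 3 (by omega : 3 ≤ j)).trans
        (hj ▸ (P : Subgroup L).card_subgroup_dvd_card))
    have h2 := card_le_of_le hPle
    rw [hk, hk2, hj] at h2
    have : j = 2 := le_antisymm h1 ((Nat.pow_le_pow_iff_right (by norm_num : 1 < 3)).1 h2)
    rw [hj, this]; norm_num
  have hPP : (P : Subgroup L) = P0 := (eq_of_le_of_card_ge hPle (by rw [hP9, hk, hk2]; norm_num)).symm
  have hfN : f ∈ normalizer ((P : Subgroup L) : Set L) := by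
    rw [hPP, mem_normalizer_iff_cj, cj, hP0, Subgroup.map_sup, MonoidHom.map_zpowers, MonoidHom.map_zpowers]
    simp only [MulEquiv.coe_toMonoidHom, MulAut.conj_apply, hfa, hfb, zpowers_inv, sup_comm]
  have hff : f * f * a * (f * f)⁻¹ = a⁻¹ := by
    calc f * f * a * (f * f)⁻¹ = f * (f * a * f⁻¹) * f⁻¹ := by group
      _ = a⁻¹ := by rw [hfa, hfb]
  have hf2 : f * f ≠ 1 := fun e => ha (by
    rw [e] at hff
    simp at hff
    have h1 : a ^ 2 = 1 := by rw [pow_two]; exact mul_eq_one_iff_eq_inv.2 hff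
    calc a = a ^ 3 * (a ^ 2)⁻¹ := by group
      _ = 1 := by rw [ha3, h1, inv_one, mul_one])
  set u : L := f * f with hu_def
  have hu : orderOf (u : G) = 2 := by
    rw [orderOf_coe]
    exact orderOf_eq_two_of hf2 (by rw [hu_def, ← hf]; simp [pow_succ, mul_assoc])
  have hQn : ∀ p ∈ (P : Subgroup L).map L.subtype, (u : G) * p * (u : G)⁻¹ ∈ (P : Subgroup L).map L.subtype := by
    rintro _ ⟨p, hp, rfl⟩
    exact ⟨u * p * u⁻¹, (mem_normalizer_iff.1 (mul_mem hfN hfN) p).1 hp, by simp⟩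
  obtain ⟨Q, hQ⟩ : ∃ Q, Q = (P : Subgroup L).map L.subtype := ⟨_, rfl⟩
  have hQ9 : Nat.card Q = 9 := by
    rw [hQ, ← Nat.card_congr ((P : Subgroup L).equivMapOfInjective L.subtype L.subtype_injective).toEquiv, hP9]
  have hQodd : Odd (Nat.card Q) := by rw [hQ9]; decide
  obtain ⟨hinv, -, -⟩ := hC.inverted_odd hQodd hu (hQ ▸ hQn)
  have hPne : (P : Subgroup L) ≠ ⊥ := fun e => by rw [e, card_bot] at hP9; norm_num at hP9
  obtain ⟨hdec, hsp⟩ := split_at hC (by norm_num) P hPne hu u.2 (hQ ▸ hinv)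
  obtain ⟨T, hT⟩ : ∃ T, T = normalizer (Q : Set G) ⊓ centralizer ({(u : G)} : Set G) := ⟨_, rfl⟩
  have hTu : ∀ c ∈ T, c * (u : G) = (u : G) * c := fun c hc => mem_centralizer_singleton_iff.1 (hT.le hc).2
  have hT2 : IsPGroup 2 T := (hC _ hu).to_le (hT.le.trans inf_le_right)
  have haQ : (a : G) ∈ Q := hQ ▸ ⟨a, hPP ▸ hP0 ▸ mem_sup_left (mem_zpowers a), rfl⟩
  have haodd : Odd (orderOf (a : G)) := by rw [orderOf_coe, hao]; decide
  have haG : (a : G) ≠ 1 := fun e => ha (Subtype.ext e)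
  have hT8 : Nat.card T ∣ 8 := by
    haveI : Fintype Q := Fintype.ofFinite _
    let F : T → {q : Q // q ≠ 1} := fun c => ⟨⟨(c : G) * a * (c : G)⁻¹,
      (mem_normalizer_iff.1 (hT.le c.2).1 (a : G)).1 haQ⟩, fun e => haG (conj_eq_one_iff.1 (congrArg Subtype.val e))⟩
    have hF : Function.Injective F := fun c d hcd => by
      have h1 : (c : G) * a * (c : G)⁻¹ = (d : G) * a * (d : G)⁻¹ := congrArg (fun q : {q : Q // q ≠ 1} => ((q : Q) : G)) hcd
      by_contra hne
      refine haG (hC.free hu (hTu _ (mul_mem (inv_mem d.2) c.2)) (fun e => hne (Subtype.ext (inv_mul_eq_one.1 e).symm)) haodd ?_)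
      calc (d : G)⁻¹ * c * a * ((d : G)⁻¹ * c)⁻¹ = (d : G)⁻¹ * ((c : G) * a * (c : G)⁻¹) * d := by group
        _ = a := by rw [h1]; group
    have h1 := Nat.card_le_card_of_injective F hF
    rw [Nat.card_eq_fintype_card (α := {q : Q // q ≠ 1}), Fintype.card_subtype_compl, Fintype.card_subtype_eq,
      ← Nat.card_eq_fintype_card (α := Q), hQ9] at h1
    obtain ⟨j, hj⟩ := IsPGroup.iff_card.1 hT2
    rw [hj, show (8 : ℕ) = 2 ^ 3 by norm_num]
    refine pow_dvd_pow 2 ?_
    by_contra hgt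
    have : 2 ^ 4 ≤ 2 ^ j := Nat.pow_le_pow_right (by norm_num) (by omega)
    rw [← hj] at this
    omega
  have hidx := index_mul_card_inf L T fun g => by
    obtain ⟨l, c, hl, hcN, hcu, hg⟩ := hsp g
    exact ⟨l, c, hl, hT.ge ⟨hQ ▸ hcN, mem_centralizer_singleton_iff.2 hcu⟩, hg⟩
  have hfo : orderOf f = 4 := by
    have h1 := orderOf_dvd_of_pow_eq_one hf
    have h2 : ¬ orderOf f ∣ 2 := fun h => hf2 (by rw [hu_def, ← pow_two]; exact orderOf_dvd_iff_pow_eq_one.1 h)
    obtain ⟨i, hi, he⟩ := (Nat.dvd_prime_pow Nat.prime_two (m := 2)).1 (by simpa using h1)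
    interval_cases i <;> simp_all
  have hfT : (f : G) ∈ T := hT.ge ⟨by
    show (f : G) ∈ normalizer (Q : Set G)
    rw [hQ, mem_normalizer_iff_cj, cj, map_map,
      show (MulAut.conj (f : G)).toMonoidHom.comp L.subtype = L.subtype.comp (MulAut.conj f).toMonoidHom from rfl,
      ← map_map]
    exact congrArg (Subgroup.map L.subtype) (mem_normalizer_iff_cj.1 hfN),
    mem_centralizer_singleton_iff.2 (by rw [hu_def, Subgroup.coe_mul, mul_assoc])⟩
  have h4 : 4 ∣ Nat.card (T ⊓ L : Subgroup G) := by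
    rw [← hfo, ← orderOf_coe f]
    exact Subgroup.orderOf_dvd_natCard _ ⟨hfT, f.2⟩
  constructor
  · obtain ⟨d, hd⟩ := h4
    have h1 : L.index * 4 ∣ 8 := (Dvd.intro d (by rw [mul_assoc, ← hd])).trans (hidx ▸ hT8)
    exact Nat.dvd_of_mul_dvd_mul_right (by norm_num) (show L.index * 4 ∣ 2 * 4 from h1)
  intro hprime hcount
  -- the centraliser of `P` in `L` is `P`
  have hK : ∀ z : L, (z : G) ∈ centralizer (Q : Set G) → z ∈ (P : Subgroup L) := by
    intro z hz
    have hcomm : ∀ p ∈ (P : Subgroup L), p * z = z * p := fun p hp => Subtype.ext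
      (mem_centralizer_iff.1 hz (p : G) (hQ ▸ ⟨p, hp, rfl⟩))
    have hzo : ∀ r : ℕ, r.Prime → r ∣ orderOf z → r = 3 := fun r hr hrd => by
      by_contra hne
      refine hprime r hr hne (z ^ (orderOf z / r)) ?_ (orderOf_pow_orderOf_div (orderOf_pos z).ne' hrd)
      exact (Commute.pow_left (show Commute z a from (hcomm a (hPP ▸ hP0 ▸ mem_sup_left (mem_zpowers a))).symm) _).eq
    have hzp : IsPGroup 3 (zpowers z) := IsPGroup.of_card
      (by rw [Nat.card_zpowers]; exact Nat.eq_prime_pow_of_unique_prime_dvd (orderOf_pos z).ne' fun {r} hr hrd => hzo r hr hrd)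
    have hsup := IsPGroup.to_sup_of_normal_left' P.isPGroup' hzp
      (zpowers_le.2 (centralizer_le_normalizer _ (mem_centralizer_iff.2 hcomm)))
    have hmax := P.is_maximal' hsup le_sup_left
    exact hmax.le (mem_sup_right (mem_zpowers z))
  -- the order of the normaliser
  have hNcard : Nat.card (normalizer ((P : Subgroup L) : Set L)) = 9 * Nat.card (T ⊓ L : Subgroup G) := by
    have hTN : ∀ c : (T ⊓ L : Subgroup G), (⟨(c : G), c.2.2⟩ : L) ∈ normalizer ((P : Subgroup L) : Set L) := by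
      intro c
      rw [mem_normalizer_iff]
      intro p
      have h1 := mem_normalizer_iff.1 (hT.le c.2.1).1 (p : G)
      rw [hQ, mem_map, mem_map] at h1
      constructor
      · intro hp
        obtain ⟨q, hq, hqe⟩ := h1.1 ⟨p, hp, rfl⟩
        convert hq using 1
        exact Subtype.ext hqe.symm
      · intro hp
        obtain ⟨q, hq, hqe⟩ := h1.2 ⟨_, hp, rfl⟩
        convert hq using 1
        exact Subtype.ext hqe.symm
    let F : ↥(P : Subgroup L) × ↥(T ⊓ L : Subgroup G) → normalizer ((P : Subgroup L) : Set L) := fun pc =>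
      ⟨(pc.1 : L) * ⟨(pc.2 : G), pc.2.2.2⟩, mul_mem (le_normalizer pc.1.2) (hTN pc.2)⟩
    have hFb : Function.Bijective F := by
      refine ⟨fun x y hxy => ?_, fun n => ?_⟩
      · have h1 : ((x.1 : L) : G) * (x.2 : G) = ((y.1 : L) : G) * (y.2 : G) :=
          congrArg (fun w : normalizer ((P : Subgroup L) : Set L) => ((w : L) : G)) hxy
        have h2 : ((y.1 : L) : G)⁻¹ * (x.1 : L) = (y.2 : G) * (x.2 : G)⁻¹ := by
          calc _ = ((y.1 : L) : G)⁻¹ * (((x.1 : L) : G) * (x.2 : G)) * (x.2 : G)⁻¹ := by group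
            _ = _ := by rw [h1]; group
        have h3 : ((y.1 : L) : G)⁻¹ * (x.1 : L) = 1 := by
          refine eq_one_of_odd_of_pGroup hT2 (h2 ▸ mul_mem y.2.2.1 (inv_mem x.2.2.1)) ?_
          exact hQodd.of_dvd_nat (Subgroup.orderOf_dvd_natCard Q
            (hQ ▸ ⟨(y.1 : L)⁻¹ * x.1, mul_mem (inv_mem y.1.2) x.1.2, rfl⟩))
        have h4 : x.1 = y.1 := Subtype.ext (Subtype.ext (inv_mul_eq_one.1 h3).symm)
        refine Prod.ext h4 (Subtype.ext ?_)
        rw [h4] at h1
        exact mul_left_cancel h1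
      · have hnQ : ((n : L) : G) ∈ normalizer (Q : Set G) := by
          rw [hQ, mem_normalizer_iff_cj, cj, map_map,
            show (MulAut.conj ((n : L) : G)).toMonoidHom.comp L.subtype = L.subtype.comp (MulAut.conj (n : L)).toMonoidHom from rfl,
            ← map_map]
          exact congrArg (Subgroup.map L.subtype) (mem_normalizer_iff_cj.1 n.2)
        obtain ⟨β, c, hβ, hβL, hcN, hcu, hn⟩ := hdec _ (hQ ▸ hnQ)
        have hcL : c ∈ L := by
          rw [show c = β⁻¹ * ((n : L) : G) by rw [hn]; group]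
          exact mul_mem (inv_mem hβL) (n : L).2
        exact ⟨(⟨⟨β, hβL⟩, hK ⟨β, hβL⟩ (hQ ▸ hβ)⟩, ⟨c, hT.ge ⟨hQ ▸ hcN, mem_centralizer_singleton_iff.2 hcu⟩, hcL⟩),
          Subtype.ext (Subtype.ext hn.symm)⟩
    rw [← Nat.card_eq_of_bijective F hFb, Nat.card_prod, hP9]
  have h8 : Nat.card (T ⊓ L : Subgroup G) = 8 := by
    have h1 : Nat.card (T ⊓ L : Subgroup G) ∣ 8 := (Dvd.intro_left _ hidx).trans hT8
    obtain ⟨i, hi, he⟩ := (Nat.dvd_prime_pow Nat.prime_two (m := 3)).1 (h1.trans (by norm_num))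
    have hne : Nat.card (T ⊓ L : Subgroup G) ≠ 4 := fun e4 => by
      have hn := P.card_eq_index_normalizer
      have hmod := card_sylow_modEq_one 3 L
      refine hcount (Nat.card (Sylow 3 L)) ?_ hmod
      rw [hn, show (36 : ℕ) = 9 * 4 by norm_num, ← e4, ← hNcard]
      exact index_mul_card _
    obtain ⟨d, hd⟩ := h4
    generalize Nat.card (T ⊓ L : Subgroup G) = C at he hne hd ⊢
    interval_cases i <;> norm_num at he <;> omega
  have : L.index * 8 ∣ 1 * 8 := by rw [one_mul, ← h8, hidx, h8]; exact hT8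
  exact index_eq_one.1 (Nat.dvd_one.1 (Nat.dvd_of_mul_dvd_mul_right (by norm_num) this))

end Simple

end CfsgLib.CIT
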