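import Cfsg.Agent.Lib.CIT.CoreFree
import Cfsg.Agent.Lib.CIT.SuzukiRecog.General
import Cfsg.Agent.Lib.Known.SuzukiAut
import Cfsg.Agent.Lib.Recog.ThreePrimes
import Cfsg.Agent.Lib.LocalEven.Zsigmondy
import Cfsg.Agent.S0332
import Cfsg.Agent.S2238
import Cfsg.Agent.Lib.Core.FPFComplement
import Cfsg.Agent.Lib.Lie.Suzuki.Borel

/-!
# Groups with the prime graph of a Suzuki group
-/

set_option autoImplicit false
set_option linter.all false

namespace CfsgLib.CIT.SzPrimeGraph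

open Subgroup
open CfsgLib.Lie.Suzuki

variable {F : Type*} [Field F] [Fintype F] {m : ℕ}

theorem q_facts (m : ℕ) (hm : 1 ≤ m) :
    8 ≤ 2 ^ (2 * m + 1) ∧ 2 ^ (2 * m + 1) % 3 = 2 ∧
      (2 ^ (2 * m + 1) + 2 ^ (m + 1) + 1) * (2 ^ (2 * m + 1) - 2 ^ (m + 1) + 1) = (2 ^ (2 * m + 1)) ^ 2 + 1 := by
  refine ⟨le_trans (by norm_num) (Nat.pow_le_pow_right (show 1 ≤ 2 by norm_num) (show 3 ≤ 2 * m + 1 by omega)), ?_, ?_⟩
  · rw [pow_succ, pow_mul, Nat.mul_mod, Nat.pow_mod]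
    norm_num
  · have hle : 2 ^ (m + 1) ≤ 2 ^ (2 * m + 1) := Nat.pow_le_pow_right two_pos (by omega)
    obtain ⟨d, hd⟩ := Nat.exists_eq_add_of_le hle
    rw [show 2 ^ (2 * m + 1) - 2 ^ (m + 1) = d by omega]
    have hr : 2 * 2 ^ (2 * m + 1) = 2 ^ (m + 1) * 2 ^ (m + 1) := by
      rw [← pow_add, ← pow_succ']; congr 1; omega
    rw [hd] at hr ⊢
    linear_combination hr

/-- The odd primes of the two kinds are not adjacent. -/
theorem sz_not_adjacent (hm : 1 ≤ m) (hF : Fintype.card F = 2 ^ (2 * m + 1)) {p r : ℕ} (hp : p.Prime) (hr : r.Prime)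
    (hp2 : p ≠ 2) (hr2 : r ≠ 2) (hp1 : p ∣ 2 ^ (2 * m + 1) - 1) (hr1 : r ∣ (2 ^ (2 * m + 1)) ^ 2 + 1)
    (g : Cfsg.Sz F m) : orderOf g ≠ p * r := by
  intro hg
  obtain ⟨h8, -, hprod⟩ := q_facts m hm
  have hg1 : g ≠ 1 := fun e => by
    rw [e, orderOf_one] at hg
    exact hp.ne_one (Nat.eq_one_of_mul_eq_one_right hg.symm)
  set q := 2 ^ (2 * m + 1) with hq
  have hdiv : ∀ s, s.Prime → s ∣ q - 1 → s ∣ q ^ 2 + 1 → s = 2 := by
    intro s hs h1 h2
    have h3 : s ∣ q ^ 2 - 1 := h1.trans ⟨q + 1, by rw [mul_comm, ← Nat.sq_sub_sq, one_pow]⟩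
    have h4 : s ∣ (q ^ 2 + 1) - (q ^ 2 - 1) := Nat.dvd_sub h2 h3
    have : 1 ≤ q ^ 2 := Nat.one_le_pow _ _ (by omega)
    rw [show (q ^ 2 + 1) - (q ^ 2 - 1) = 2 by omega] at h4
    exact (Nat.prime_dvd_prime_iff_eq hs Nat.prime_two).1 h4
  obtain ⟨U, ⟨hU, hgU⟩, -⟩ := Cfsg.Agent.S2238.result hm hF g hg1
  have hdvd : p * r ∣ Nat.card U := hg ▸ Subgroup.orderOf_dvd_natCard U hgU
  rcases hU with ⟨P, rfl⟩ | ⟨-, hk⟩
  · haveI : Fact (Nat.Prime 2) := ⟨Nat.prime_two⟩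
    obtain ⟨e, he⟩ := IsPGroup.iff_card.1 P.isPGroup'
    rw [he] at hdvd
    exact hp2 ((Nat.prime_dvd_prime_iff_eq hp Nat.prime_two).1 (hp.dvd_of_dvd_pow ((dvd_mul_right p r).trans hdvd)))
  · simp only [Set.mem_insert_iff, Set.mem_singleton_iff] at hk
    rcases hk with hk | hk | hk <;> rw [hk] at hdvd
    · exact hr2 (hdiv r hr ((dvd_mul_left r p).trans hdvd) hr1)
    · exact hp2 (hdiv p hp hp1 (hprod ▸ ((dvd_mul_right p r).trans hdvd).mul_right _))
    · exact hp2 (hdiv p hp hp1 (hprod ▸ ((dvd_mul_right p r).trans hdvd).mul_left _))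

theorem sz_facts (hm : 1 ≤ m) (hF : Fintype.card F = 2 ^ (2 * m + 1)) :
    CIT (Cfsg.Sz F m) ∧ 2 ∣ Nat.card (Cfsg.Sz F m) ∧ ¬ 3 ∣ Nat.card (Cfsg.Sz F m) := by
  haveI : IsSimpleGroup (Cfsg.Sz F m) := Cfsg.Agent.S0325.result hm hF
  haveI : Finite (Cfsg.Sz F m) := Subtype.finite
  have hS := Cfsg.Agent.S0324.result hm hF
  obtain ⟨h8, h3, -⟩ := q_facts m hm
  have hna : ¬ IsMulCommutative (Cfsg.Sz F m) := by
    intro h
    letI : CommGroup (Cfsg.Sz F m) :=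
      { (inferInstance : Group (Cfsg.Sz F m)) with mul_comm := fun a b => h.is_comm.comm a b }
    have hp : (Nat.card (Cfsg.Sz F m)).Prime := IsSimpleGroup.prime_card
    rw [hS] at hp
    generalize 2 ^ (2 * m + 1) = q at hp h8
    rcases Nat.prime_mul_iff.1 hp with ⟨-, h1⟩ | ⟨-, h1⟩
    · omega
    · have h64 : 64 ≤ q ^ 2 := by nlinarith
      have := Nat.eq_one_of_mul_eq_one_right h1
      omega
  obtain ⟨hC, h2⟩ := cn_simple hna (Cfsg.Agent.S0332.result hm hF)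
  refine ⟨hC, h2, ?_⟩
  rw [hS]
  generalize 2 ^ (2 * m + 1) = q at *
  intro h
  have e1 : q ^ 2 % 3 = 1 := by rw [Nat.pow_mod, h3]
  have e2 : (q ^ 2 + 1) % 3 = 2 := by omega
  have e3 : (q - 1) % 3 = 1 := by omega
  have : q ^ 2 * (q ^ 2 + 1) * (q - 1) % 3 = 2 := by
    rw [Nat.mul_mod, Nat.mul_mod (q ^ 2), e1, e2, e3]
  omega

/-- A primitive prime divisor of `2^(4n) - 1` recognises `n`. -/
theorem dvd_of_ppd {n k r : ℕ} (hn : 1 ≤ n) (hk : 1 ≤ k) (hr : r.Prime) (hr2 : r ≠ 2)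
    (hppd : ∀ j : ℕ, 0 < j → j < 4 * n → ¬ r ∣ 2 ^ j - 1)
    (hrn : r ∣ 2 ^ (4 * n) - 1) (h : r ∣ (2 ^ k) ^ 2 * ((2 ^ k) ^ 2 + 1) * (2 ^ k - 1)) : 4 * n ∣ 4 * k := by
  have h4 : r ∣ 2 ^ (4 * k) - 1 := by
    have e : 2 ^ (4 * k) - 1 = ((2 ^ k) ^ 2 + 1) * ((2 ^ k + 1) * (2 ^ k - 1)) := by
      rw [← Nat.sq_sub_sq, one_pow, show 2 ^ (4 * k) = ((2 ^ k) ^ 2) ^ 2 by rw [← pow_mul, ← pow_mul]; congr 1; ring,
        ← Nat.sq_sub_sq, one_pow]
    rw [e]
    rcases hr.dvd_mul.1 h with h' | h'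
    · rcases hr.dvd_mul.1 h' with h'' | h''
      · exact absurd ((Nat.prime_dvd_prime_iff_eq hr Nat.prime_two).1 (hr.dvd_of_dvd_pow (hr.dvd_of_dvd_pow h''))) hr2
      · exact h''.mul_right _
    · exact (h'.mul_left _).mul_left _
  have hg : r ∣ 2 ^ (Nat.gcd (4 * n) (4 * k)) - 1 := by
    rw [← Nat.pow_sub_one_gcd_pow_sub_one]
    exact Nat.dvd_gcd hrn h4
  rcases eq_or_lt_of_le (Nat.le_of_dvd (show 0 < 4 * n by omega) (Nat.gcd_dvd_left (4 * n) (4 * k))) with e | e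
  · exact e ▸ Nat.gcd_dvd_right _ _
  · exact absurd hg (hppd _ (Nat.gcd_pos_of_pos_left _ (by omega)) e)

theorem exists_ppd (m : ℕ) :
    ∃ r : ℕ, r.Prime ∧ r ≠ 2 ∧ r ∣ 2 ^ (4 * (2 * m + 1)) - 1 ∧ r ∣ (2 ^ (2 * m + 1)) ^ 2 + 1 ∧
      ∀ j : ℕ, 0 < j → j < 4 * (2 * m + 1) → ¬ r ∣ 2 ^ j - 1 := by
  obtain ⟨r, hr, hrd, hppd⟩ := CfsgLib.Zsigmondy.exists_primitive_prime_divisor (a := 2)
    (n := 4 * (2 * m + 1)) one_lt_two (by omega) (by omega) (by omega)
  refine ⟨r, hr, ?_, hrd, ?_, hppd⟩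
  · rintro rfl
    have : 2 ∣ 2 ^ (4 * (2 * m + 1)) := dvd_pow_self 2 (by omega)
    have : 1 ≤ 2 ^ (4 * (2 * m + 1)) := Nat.one_le_two_pow
    omega
  · have e : 2 ^ (4 * (2 * m + 1)) - 1 = ((2 ^ (2 * m + 1)) ^ 2 + 1) * (2 ^ (2 * (2 * m + 1)) - 1) := by
      rw [show 2 ^ (4 * (2 * m + 1)) = (2 ^ (2 * (2 * m + 1))) ^ 2 by rw [← pow_mul]; congr 1; ring,
        show (2 ^ (2 * m + 1)) ^ 2 = 2 ^ (2 * (2 * m + 1)) by rw [← pow_mul]; congr 1; ring]
      rw [← Nat.sq_sub_sq _ 1, one_pow]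
    rw [e] at hrd
    exact (hr.dvd_mul.1 hrd).resolve_right (hppd _ (by omega) (by omega))

/-- The main theorem. -/
theorem quotient_iso (hm : 1 ≤ m) (hF : Fintype.card F = 2 ^ (2 * m + 1)) {G : Type*} [Group G] [Finite G]
    (hprimes : ∀ r : ℕ, r.Prime → (r ∣ Nat.card (Cfsg.Sz F m) ↔ r ∣ Nat.card G))
    (hedge : ∀ r s : ℕ, r.Prime → s.Prime → r ≠ s → (∃ y : G, orderOf y = r * s) →
      ∃ x : Cfsg.Sz F m, orderOf x = r * s) :
    Nonempty (G ⧸ Cfsg.pCore 2 G ≃* Cfsg.Sz F m) := by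
  classical
  haveI : Fact (Nat.Prime 2) := ⟨Nat.prime_two⟩
  haveI : CharP F 2 := charTwo_of_card hF
  haveI : Finite (Cfsg.Sz F m) := Subtype.finite
  obtain ⟨hSC, hS2, hS3⟩ := sz_facts hm hF
  have hS := Cfsg.Agent.S0324.result hm hF
  obtain ⟨h8, hq3, -⟩ := q_facts m hm
  have hno : ∀ r, r.Prime → r ≠ 2 → ¬ ∃ y : G, orderOf y = 2 * r := fun r hr h2 hy =>
    (cit_iff_no_two_prime.1 hSC) r hr h2 (hedge 2 r Nat.prime_two hr (Ne.symm h2) hy)
  -- three pairwise nonadjacent primes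
  obtain ⟨p, hp, hpd⟩ := Nat.exists_prime_and_dvd (show 2 ^ (2 * m + 1) - 1 ≠ 1 by omega)
  have hp2 : p ≠ 2 := by
    rintro rfl
    have : 2 ∣ 2 ^ (2 * m + 1) := dvd_pow_self 2 (by omega)
    omega
  obtain ⟨r, hr, hr2, hrd, hrq, hppd⟩ := exists_ppd m
  have hpr : p ≠ r := fun e => hppd (2 * m + 1) (by omega) (by omega) (e ▸ hpd)
  have hpG : p ∣ Nat.card G := (hprimes p hp).1 (hS ▸ hpd.mul_left _)
  have hrG : r ∣ Nat.card G := (hprimes r hr).1 (hS ▸ (hrq.mul_left _).mul_right _)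
  have h2G : 2 ∣ Nat.card G := (hprimes 2 Nat.prime_two).1 hS2
  have hns : ¬ Group.IsSolvable G := by
    intro hs
    haveI := hs
    rcases CfsgLib.Recog.ThreePrimes.solvable_three_primes _ G rfl 2 p r Nat.prime_two hp hr
      (Ne.symm hp2) (Ne.symm hr2) hpr h2G hpG hrG with h | h | h
    · exact hno p hp hp2 h
    · exact hno r hr hr2 h
    · obtain ⟨x, hx⟩ := hedge p r hp hr hpr h
      exact sz_not_adjacent hm hF hp hr hp2 hr2 hpd hrq x hx
  -- the quotient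
  set R := Cfsg.pCore 2 G with hR
  haveI : R.Normal := CfsgLib.Core.normal_pCore 2 G
  have hRp : IsPGroup 2 R := CfsgLib.Core.isPGroup_pCore 2 G
  have hQC : CIT (G ⧸ R) := cit_iff_no_two_prime.2 fun s hs h2 ⟨y, hy⟩ => by
    obtain ⟨g, rfl⟩ := QuotientGroup.mk'_surjective R y
    exact hno s hs h2 (CfsgLib.Recog.ThreePrimes.exists_orderOf_of_map (QuotientGroup.mk' R) g hy)
  have hprimesQ : ∀ s : ℕ, s.Prime → s ≠ 2 → s ∣ Nat.card G → s ∣ Nat.card (G ⧸ R) := by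
    intro s hs h2 hd
    obtain ⟨k, hk⟩ := IsPGroup.iff_card.1 hRp
    rw [Subgroup.card_eq_card_quotient_mul_card_subgroup R, hk] at hd
    exact (hs.dvd_mul.1 hd).resolve_right fun h =>
      h2 ((Nat.prime_dvd_prime_iff_eq hs Nat.prime_two).1 (hs.dvd_of_dvd_pow h))
  have hQns : ¬ Group.IsSolvable (G ⧸ R) := by
    intro hs
    haveI := hs
    haveI : Group.IsNilpotent R := hRp.isNilpotent
    exact hns (Group.isSolvable_of_ker_le_range R.subtype (QuotientGroup.mk' R)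
      (by rw [QuotientGroup.ker_mk', range_subtype]))
  have hQ2 : 2 ∣ Nat.card (G ⧸ R) := by
    by_contra hodd
    -- then a complement acts fixed point freely, hence is metacyclic
    obtain ⟨k, hk⟩ := IsPGroup.iff_card.1 hRp
    have hk0 : k ≠ 0 := by
      rintro rfl
      rw [Subgroup.card_eq_card_quotient_mul_card_subgroup R, hk, pow_zero, mul_one] at h2G
      exact hodd h2G
    have hcop : (Nat.card R).Coprime R.index := by
      rw [hk, index_eq_card]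
      exact ((Nat.Prime.coprime_iff_not_dvd Nat.prime_two).2 hodd).pow_left k
    obtain ⟨A, hA⟩ := Subgroup.exists_right_complement'_of_coprime hcop
    have hAR : A ≤ normalizer (R : Set G) := by rw [normalizer_eq_top (H := R)]; exact le_top
    have hRne : R ≠ ⊥ := fun e => by
      rw [e, card_bot] at hk
      exact hk0 ((Nat.pow_eq_one.1 hk.symm).resolve_left (by norm_num))
    have hA2 : ¬ 2 ∣ Nat.card A := by
      rwa [show Nat.card A = Nat.card (G ⧸ R) by rw [← index_eq_card]; exact hA.symm.index_eq_card.symm]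
    have hfpf : ∀ a ∈ A, a ≠ 1 → R ⊓ centralizer {a} = ⊥ := by
      intro a ha ha1
      by_contra hne
      obtain ⟨v, hv, hv1⟩ := (R ⊓ centralizer {a}).bot_or_exists_ne_one.resolve_left hne
      obtain ⟨hvR, hvc⟩ := mem_inf.1 hv
      obtain ⟨i, hi⟩ := orderOf_two_pow_of_mem hRp hvR
      have hgC : CIT G := cit_iff_no_two_prime.2 hno
      have hao : Odd (orderOf a) := Nat.odd_iff.2 (by
        have h1 : ¬ 2 ∣ orderOf a := fun h => hA2 (h.trans (Subgroup.orderOf_dvd_natCard A ha))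
        omega)
      exact hv1 (hgC.eq_one hao ha1 (r := v) (k := i) hi (mem_centralizer_singleton_iff.1 hvc).symm)
    haveI := CfsgLib.Core.FPF.isZGroup_of_odd hAR hfpf hRne hA2
    haveI : Group.IsSolvable A := inferInstance
    have hsurj : Function.Surjective ((QuotientGroup.mk' R).comp A.subtype) := by
      refine ((Nat.bijective_iff_injective_and_card _).2 ⟨?_, ?_⟩).2
      · rw [injective_iff_map_eq_one]
        intro a ha
        have h1 : (a : G) ∈ R ⊓ A := mem_inf.2 ⟨(QuotientGroup.eq_one_iff _).1 ha, a.2⟩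
        rw [hA.disjoint.eq_bot, mem_bot] at h1
        exact Subtype.ext h1
      · rw [← index_eq_card]; exact hA.symm.index_eq_card.symm
    exact hQns (Group.isSolvable_of_surjective (f := (QuotientGroup.mk' R).comp A.subtype) hsurj)
  obtain ⟨L, hLn, hLs, hLna, hL2, hLC⟩ := exists_simple_normal hQC hQ2 hQns
    (CfsgLib.Core.pCore_quotient_pCore 2 G)
  haveI := hLn
  haveI := hLs
  have h3G : ¬ 3 ∣ Nat.card G := fun h => hS3 ((hprimes 3 Nat.prime_three).2 h)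
  have hL3 : ¬ 3 ∣ Nat.card L := fun h => h3G ((h.trans L.card_subgroup_dvd_card).trans R.card_quotient_dvd_card)
  obtain ⟨T, H, a, b, μ, K⟩ := SuzukiRecog.exists_kern_cit hLna (hQC.subgroup L) hL2 hL3
  letI := Fintype.ofFinite (L ⧸ Subgroup.normalizer (T : Set L))
  obtain ⟨⟨l, hl⟩, hμ⟩ := SuzukiRecog.kern_log K
  haveI : Fintype (GaloisField 2 μ) := Fintype.ofFinite _
  have hF' : Fintype.card (GaloisField 2 μ) = 2 ^ (2 * l + 1) := by
    rw [← Nat.card_eq_fintype_card, GaloisField.card 2 μ (by omega), hl]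
  have hl1 : 1 ≤ l := by omega
  obtain ⟨e0⟩ := SuzukiRecog.nonempty_mulEquiv_sz_of_kern K hl1 hl hF'
  set e : L ≃* Cfsg.Sz (GaloisField 2 μ) l := e0.trans (equivLie hl1 hF').symm with he
  haveI : Finite (Cfsg.Sz (GaloisField 2 μ) l) := Subtype.finite
  -- no outer automorphisms
  have hLtop : L = ⊤ := by
    refine eq_top_iff.2 fun g _ => ?_
    let φ : MulAut (Cfsg.Sz (GaloisField 2 μ) l) := MulAut.congr e (MulAut.conjNormal g)
    obtain ⟨γ, g0, hg0⟩ := CfsgLib.Known.SuzukiAut.exists_inner_field (hF := hF') hl1 φ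
    set y : G ⧸ R := ((e.symm g0 : L) : G ⧸ R)⁻¹ * g with hy
    have hconj : ∀ x : L, (y * x * y⁻¹ : G ⧸ R) = ((e.symm (CfsgLib.Known.SuzukiAut.fa γ (e x)) : L) : G ⧸ R) := by
      intro x
      have h1 : φ (e x) = MulAut.conj g0 (CfsgLib.Known.SuzukiAut.fa γ (e x)) := by rw [hg0]; rfl
      have h2 : φ (e x) = e (MulAut.conjNormal g x) := by simp [φ, MulAut.congr]
      rw [h2, MulAut.conj_apply] at h1
      have h3 := congrArg (fun w => ((e.symm w : L) : G ⧸ R)) h1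
      simp only [MulEquiv.symm_apply_apply, map_mul, map_inv, coe_mul, coe_inv, MulAut.conjNormal_apply] at h3
      rw [hy]
      calc _ = ((e.symm g0 : L) : G ⧸ R)⁻¹ * (g * x * g⁻¹) * ((e.symm g0 : L) : G ⧸ R) := by group
        _ = _ := by rw [h3]; group
    -- the field automorphism fixes an involution
    set z : Cfsg.Sz (GaloisField 2 μ) l := uS hF' 0 1 with hz
    haveI : CharP (GaloisField 2 μ) 2 := charTwo_of_card hF'
    have hz1 : z ≠ 1 := by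
      intro e1
      have h1 := uS_zero (hF := hF') (0 : GaloisField 2 μ) 1
      rw [← hz, e1, one_smul] at h1
      simpa using (CfsgLib.Lie.Suzuki.pt (GaloisField 2 μ) l).injective h1
    have hz2 : z * z = 1 := by
      rw [hz, uS_mul, ← uS_one hF']
      simp [CharTwo.add_self_eq_zero]
    have hzf : CfsgLib.Known.SuzukiAut.fa γ z = z := by
      rw [hz, CfsgLib.Known.SuzukiAut.fa_uS, map_zero, map_one]
    have hzo : orderOf ((e.symm z : L) : G ⧸ R) = 2 := by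
      rw [orderOf_coe, e.symm.orderOf_eq]
      exact CfsgLib.Signalizer.orderOf_eq_two_of hz1 hz2
    have hyc : y ∈ centralizer ({((e.symm z : L) : G ⧸ R)} : Set (G ⧸ R)) := by
      rw [mem_centralizer_singleton_iff]
      refine mul_inv_eq_iff_eq_mul.1 ?_
      rw [hconj (e.symm z), e.apply_symm_apply, hzf]
    obtain ⟨k, hk⟩ := orderOf_two_pow_of_mem (hQC _ hzo) hyc
    -- the field automorphisms have odd order
    have hpow : ∀ (n : ℕ) (x : L), (y ^ n * x * (y ^ n)⁻¹ : G ⧸ R) =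
        ((e.symm (CfsgLib.Known.SuzukiAut.faHom (γ ^ n) (e x)) : L) : G ⧸ R) := by
      intro n
      induction n with
      | zero => intro x; simp
      | succ n ih =>
        intro x
        rw [pow_succ', show y * y ^ n * (x : G ⧸ R) * (y * y ^ n)⁻¹ = y * (y ^ n * x * (y ^ n)⁻¹) * y⁻¹ by group,
          ih, hconj, e.apply_symm_apply, pow_succ', map_mul]
        rfl
    have hγ : γ ^ (2 * l + 1) = 1 := by
      haveI : Fact (Nat.Prime 2) := ⟨Nat.prime_two⟩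
      rw [← (CfsgLib.Known.AutPSL.card_ringAut hF' (by omega : 1 ≤ 2 * l + 1)).1]
      exact pow_card_eq_one'
    have hmem : y ^ (2 * l + 1) ∈ centralizer (L : Set (G ⧸ R)) := by
      rw [mem_centralizer_iff]
      intro x hx
      have h1 := hpow (2 * l + 1) ⟨x, hx⟩
      rw [hγ, map_one, MulAut.one_apply, e.symm_apply_apply] at h1
      exact (mul_inv_eq_iff_eq_mul.1 h1).symm
    rw [hLC, mem_bot, ← orderOf_dvd_iff_pow_eq_one, hk] at hmem
    have hk0 : k = 0 := by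
      by_contra hk0
      have h2' := (dvd_pow_self 2 hk0).trans hmem
      omega
    rw [hk0, pow_zero, orderOf_eq_one_iff] at hk
    have : g = ((e.symm g0 : L) : G ⧸ R) := by rw [hy, inv_mul_eq_one] at hk; exact hk.symm
    rw [this]
    exact SetLike.coe_mem _
  subst hLtop
  have e1 : G ⧸ R ≃* Cfsg.Sz (GaloisField 2 μ) l := topEquiv.symm.trans e
  -- the same field
  have hlm : l = m := by
    have hSl := Cfsg.Agent.S0324.result hl1 hF'
    have hdvd : ∀ s : ℕ, s.Prime → s ≠ 2 →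
        (s ∣ Nat.card (Cfsg.Sz F m) ↔ s ∣ Nat.card (Cfsg.Sz (GaloisField 2 μ) l)) := fun s hs h2 => by
      rw [hprimes s hs, ← Nat.card_congr e1.toEquiv]
      exact ⟨hprimesQ s hs h2, fun h => h.trans R.card_quotient_dvd_card⟩
    have d1 : 4 * (2 * m + 1) ∣ 4 * (2 * l + 1) := dvd_of_ppd (by omega) (by omega) hr hr2 hppd hrd
      (hSl ▸ (hdvd r hr hr2).1 ((hprimes r hr).2 hrG))
    obtain ⟨s, hs, hs2, hsd, hsq, hsppd⟩ := exists_ppd l
    have d2 : 4 * (2 * l + 1) ∣ 4 * (2 * m + 1) := dvd_of_ppd (by omega) (by omega) hs hs2 hsppd hsd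
      (hS ▸ (hdvd s hs hs2).2 (hSl ▸ (hsq.mul_left _).mul_right _))
    have := Nat.dvd_antisymm d1 d2
    omega
  subst hlm
  obtain ⟨e2⟩ := SuzukiRecog.nonempty_mulEquiv_sz_of_kern K hl1 hl hF
  exact ⟨topEquiv.symm.trans (e2.trans (equivLie hl1 hF).symm)⟩

end CfsgLib.CIT.SzPrimeGraph
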