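import Cfsg.Agent.Lib.CIT.CNStructure
import Cfsg.Agent.Lib.CIT.SzPrimeGraph
import Cfsg.Agent.Lib.LocalEvenB.FpfExtension
import Cfsg.Agent.Lib.Recog.PrimeGraph
import Cfsg.Agent.Lib.SzModule.Extension
import Cfsg.Agent.Lib.TwoGroups.StrongEmbedding

/-!
# CN groups with a nontrivial 2-core

The 2-core is elementary abelian and the quotient is `PSL(2, 2ⁿ)` or a Suzuki group.
-/

set_option autoImplicit false
set_option linter.all false

namespace CfsgLib.CIT

open Subgroup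
open CfsgLib.Signalizer (involution_sq involution_inv orderOf_eq_two_of orderOf_conj)

universe u

variable {G : Type u} [Group G] [Finite G]

/-- Elements of odd order act without fixed points on the 2-core. -/
theorem fpf_on_core (hCN : Cfsg.IsCNGroup G) (hns : ¬ Group.IsSolvable G) (R : Subgroup G) [R.Normal]
    (hR : R = Cfsg.pCore 2 G) {x : G} (hodd : Odd (orderOf x)) {v : G} (hv : v ∈ R) (hv1 : v ≠ 1)
    (hxv : x * v = v * x) : x = 1 := by
  classical
  haveI : Fact (Nat.Prime 2) := ⟨Nat.prime_two⟩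
  obtain ⟨hQ, hQns, hQcore, -, -⟩ := quot_facts hCN hns R hR
  have hRp : IsPGroup 2 R := hR ▸ CfsgLib.Core.isPGroup_pCore 2 G
  set Z := R ⊓ centralizer (R : Set G) with hZ
  haveI : Z.Normal := inferInstance
  haveI : Nontrivial R := ⟨⟨⟨v, hv⟩, 1, fun e => hv1 (congrArg Subtype.val e)⟩⟩
  haveI := hRp.center_nontrivial
  obtain ⟨z0, hz0⟩ := exists_ne (1 : center R)
  have hz0Z : ((z0 : R) : G) ∈ Z :=
    ⟨(z0 : R).2, mem_centralizer_iff.2 fun y hy => congrArg Subtype.val (mem_center_iff.1 z0.2 ⟨y, hy⟩)⟩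
  have hz01 : ((z0 : R) : G) ≠ 1 := fun e => hz0 (Subtype.ext (Subtype.ext e))
  set D := centralizer (Z : Set G) with hD
  haveI : D.Normal := inferInstance
  have hxD : x ∈ D := mem_centralizer_iff.2 fun z hz => (cn_commute hCN hv1 hxv
    ((mem_centralizer_iff.1 hz.2 v hv).symm) (by
      obtain ⟨k, hk⟩ := orderOf_two_pow_of_mem hRp hz.1
      rw [hk]
      exact ((Nat.coprime_two_left.2 hodd).pow_left k).symm)).symm
  have hDs : Group.IsSolvable D := by
    haveI : Group.IsNilpotent (centralizer ({((z0 : R) : G)} : Set G)) := hCN _ hz01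
    exact solvable_of_le'' (fun c hc => mem_centralizer_singleton_iff.2 (mem_centralizer_iff.1 hc _ hz0Z).symm)
      inferInstance
  have hDb : D.map (QuotientGroup.mk' R) = ⊥ := cn_solvable_normal_eq_bot hQ hQns hQcore
    ((inferInstance : D.Normal).map _ (QuotientGroup.mk'_surjective R))
    (haveI := hDs; Group.isSolvable_of_surjective (f := (QuotientGroup.mk' R).subgroupMap D)
      ((QuotientGroup.mk' R).subgroupMap_surjective D))
  rw [Subgroup.map_eq_bot_iff, QuotientGroup.ker_mk'] at hDb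
  exact eq_one_of_odd_of_pGroup hRp (hDb hxD) hodd

/-- Odd elements of a quotient lift to odd elements. -/
theorem exists_quot_odd_lift (R : Subgroup G) [R.Normal] (y : G ⧸ R) (hy : Odd (orderOf y)) :
    ∃ x : G, (x : G ⧸ R) = y ∧ Odd (orderOf x) := by
  obtain ⟨g, rfl⟩ := QuotientGroup.mk_surjective y
  obtain ⟨k, m, hm, hkm⟩ := Nat.exists_eq_pow_mul_and_not_dvd (orderOf_pos g).ne' 2 (by norm_num)
  obtain ⟨j, hj1, hj2⟩ := Nat.chineseRemainder ((Nat.coprime_two_left.2 hy).pow_left k) 0 1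
  refine ⟨g ^ j, ?_, ?_⟩
  · rw [QuotientGroup.mk_pow]
    exact (pow_eq_pow_iff_modEq.2 hj2).trans (pow_one _)
  · obtain ⟨c, rfl⟩ := Nat.modEq_zero_iff_dvd.1 hj1
    refine (Nat.odd_iff.2 (by omega : m % 2 = 1)).of_dvd_nat (orderOf_dvd_of_pow_eq_one ?_)
    rw [← pow_mul, show 2 ^ k * c * m = 2 ^ k * m * c by ring, ← hkm, pow_mul, pow_orderOf_eq_one, one_pow]

/-- The quotient by the 2-core has TI Sylow 2-subgroups. -/
theorem tiSylow_quot (hCN : Cfsg.IsCNGroup G) (hns : ¬ Group.IsSolvable G) (R : Subgroup G) [R.Normal]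
    (hR : R = Cfsg.pCore 2 G) (hRb : R ≠ ⊥) : TISylow (G ⧸ R) := by
  classical
  haveI : Fact (Nat.Prime 2) := ⟨Nat.prime_two⟩
  obtain ⟨hQ, hQns, hQcore, hQC, -⟩ := quot_facts hCN hns R hR
  have hRp : IsPGroup 2 R := hR ▸ CfsgLib.Core.isPGroup_pCore 2 G
  let V : Subgroup G :=
    { carrier := {z | z ∈ R ∧ z ∈ centralizer (R : Set G) ∧ z * z = 1}
      one_mem' := ⟨one_mem _, one_mem _, one_mul _⟩
      mul_mem' := fun {a b} ha hb => ⟨mul_mem ha.1 hb.1, mul_mem ha.2.1 hb.2.1, by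
        have h : b * a = a * b := mem_centralizer_iff.1 ha.2.1 b hb.1
        rw [show a * b * (a * b) = a * (b * a) * b by group, h, show a * (a * b) * b = a * a * (b * b) by group,
          ha.2.2, hb.2.2, one_mul]⟩
      inv_mem' := fun {a} ha => ⟨inv_mem ha.1, inv_mem ha.2.1, by rw [← mul_inv_rev, ha.2.2, inv_one]⟩ }
  haveI hVn : V.Normal := ⟨fun z hz g => ⟨(inferInstance : R.Normal).conj_mem z hz.1 g,
    (inferInstance : (centralizer (R : Set G)).Normal).conj_mem z hz.2.1 g, by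
      rw [show g * z * g⁻¹ * (g * z * g⁻¹) = g * (z * z) * g⁻¹ by group, hz.2.2, mul_one, mul_inv_cancel]⟩⟩
  haveI : Nontrivial R := (nontrivial_iff_ne_bot R).2 hRb
  haveI := hRp.center_nontrivial
  obtain ⟨n, hn⟩ := (hRp.to_subgroup (center R)).exists_card_eq
  have hc1 : 1 < Nat.card (center R) := Finite.one_lt_card
  obtain ⟨u0, hu0⟩ := exists_prime_orderOf_dvd_card' 2
    (show 2 ∣ Nat.card (center R) by rw [hn] at hc1 ⊢; exact dvd_pow_self 2 fun h0 => by rw [h0] at hc1; simp at hc1)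
  have hu : orderOf ((u0 : R) : G) = 2 := by rw [orderOf_coe, orderOf_coe, hu0]
  have huV : ((u0 : R) : G) ∈ V :=
    ⟨(u0 : R).2, mem_centralizer_iff.2 fun y hy => congrArg Subtype.val (mem_center_iff.1 u0.2 ⟨y, hy⟩),
      involution_sq hu⟩
  haveI : Nontrivial V := ⟨⟨⟨_, huV⟩, 1, fun e => Signalizer.involution_ne_one hu (congrArg Subtype.val e)⟩⟩
  let φ : G ⧸ R →* MulAut V := QuotientGroup.lift R (MulAut.conjNormal) fun r hr => by
    rw [MonoidHom.mem_ker]
    ext z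
    show r * (z : G) * r⁻¹ = z
    rw [mem_centralizer_iff.1 z.2.2.1 r hr, mul_inv_cancel_right]
  have hf : OddFpf φ := by
    intro y hy hy1 z hz
    obtain ⟨x, rfl, hx⟩ := exists_quot_odd_lift R y hy
    by_contra hz1
    have h : x * (z : G) * x⁻¹ = z := congrArg Subtype.val hz
    refine hy1 ((QuotientGroup.eq_one_iff x).2 ?_)
    rw [fpf_on_core hCN hns R hR hx z.2.1 (fun e => hz1 (Subtype.ext e)) (mul_inv_eq_iff_eq_mul.1 h)]
    exact one_mem _
  exact tiSylow_of_module _ _ le_rfl hQC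
    (fun P hP hP2 => le_bot_iff.1 (hQcore ▸ (haveI := hP; CfsgLib.Core.le_pCore hP2))) V φ
    (fun z => Subtype.ext z.2.2.2) hf

/-- A subgroup inherits TI Sylow 2-subgroups. -/
theorem TISylow.subgroup (hTI : TISylow G) (L : Subgroup G) : TISylow L := by
  intro T T' hT hT' hne
  by_contra hb
  obtain ⟨t, ⟨htT, htT'⟩, ht1⟩ := (T ⊓ T').bot_or_exists_ne_one.resolve_left hb
  obtain ⟨S, hS, hle⟩ := exists_isSyl (le_top : T.map L.subtype ≤ ⊤) (hT.2.1.map _)
  obtain ⟨S', hS', hle'⟩ := exists_isSyl (le_top : T'.map L.subtype ≤ ⊤) (hT'.2.1.map _)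
  have hSS : S = S' := by
    by_contra hne'
    exact ht1 (Subtype.ext (mem_bot.1 ((hTI S S' hS hS' hne').le
      ⟨hle (mem_map_of_mem _ htT), hle' (mem_map_of_mem _ htT')⟩)))
  subst hSS
  have key : ∀ U : Subgroup L, IsSyl U ⊤ → U.map L.subtype ≤ S → S.subgroupOf L = U := fun U hU hle =>
    hU.2.2 _ (fun a ha => mem_subgroupOf.2 (hle (mem_map_of_mem _ ha))) le_top
      (hS.2.1.comap_of_injective _ L.subtype_injective)
  exact hne ((key T hT hle).symm.trans (key T' hT' hle'))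

/-- `PSL(2, q)` with nonabelian Sylow 2-subgroups has no TI Sylow 2-subgroups. -/
theorem psl_odd_not_ti {L : Type u} [Group L] [Finite L] [IsSimpleGroup L] (hna : ¬ IsMulCommutative L)
    (hCN : Cfsg.IsCNGroup L) (hC : CIT L) (h2 : 2 ∣ Nat.card L) {F : Type} [Field F] [Fintype F]
    (e : L ≃* Matrix.ProjectiveSpecialLinearGroup (Fin 2) F)
    (hq : Fintype.card F % 8 = 1 ∨ Fintype.card F % 8 = 7) : ¬ TISylow L := by
  classical
  intro hTI
  haveI : Fact (Nat.Prime 2) := ⟨Nat.prime_two⟩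
  set q := Fintype.card F with hqdef
  obtain ⟨p, hp⟩ := CharP.exists F
  haveI : Fact p.Prime := ⟨CharP.char_is_prime F p⟩
  have h1q : 1 < q := Fintype.one_lt_card
  have hrange := CfsgLib.Recog.PSLTwoOrders.range_orderOf (F := F) p (by omega)
  rw [← hqdef, show Nat.gcd 2 (q - 1) = 2 from Nat.gcd_eq_left (by omega)] at hrange
  have hcard := CfsgLib.Classical.Dickson.gcd_mul_card_psl (F := F) hqdef.symm
  rw [← Nat.card_congr e.toEquiv, show Nat.gcd 2 (q - 1) = 2 from Nat.gcd_eq_left (by omega)] at hcard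
  obtain ⟨a, ha⟩ : ∃ a, q = 2 * a + 1 := ⟨q / 2, by omega⟩
  obtain ⟨T0, o, hT0, hodd0, hprod, h4⟩ : ∃ T0 o, (T0 = (q - 1) / 2 ∨ T0 = (q + 1) / 2) ∧ Odd o ∧
      a * (a + 1) = T0 * o ∧ 4 ∣ T0 := by
    rcases hq with h8 | h8
    · exact ⟨a, a + 1, Or.inl (by omega), Nat.odd_iff.2 (by omega), rfl, by omega⟩
    · exact ⟨a + 1, a, Or.inr (by omega), Nat.odd_iff.2 (by omega), mul_comm _ _, by omega⟩
  have hT0pos : T0 ≠ 0 := by omega
  obtain ⟨s, m, hm, hsm⟩ := Nat.exists_eq_pow_mul_and_not_dvd hT0pos 2 (by norm_num)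
  have hs2 : 2 ≤ s := by
    rcases s with _ | _ | s
    · omega
    · omega
    · omega
  obtain ⟨g, hg⟩ : T0 ∈ Set.range (orderOf : Matrix.ProjectiveSpecialLinearGroup (Fin 2) F → ℕ) :=
    hrange.ge (Or.inr (by rcases hT0 with h | h <;> rw [← h] <;> simp))
  set c := e.symm (g ^ m) with hc
  have hm0 : m ≠ 0 := fun e => hm (e ▸ dvd_zero 2)
  have hco : orderOf c = 2 ^ s := by
    rw [hc, MulEquiv.orderOf_eq, orderOf_pow_of_dvd hm0 (by rw [hg, hsm]; exact dvd_mul_left m _), hg, hsm,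
      Nat.mul_div_cancel _ (by omega)]
  obtain ⟨T, hT, hcT⟩ := exists_isSyl (le_top : zpowers c ≤ ⊤) (IsPGroup.of_card (n := s) (by rw [Nat.card_zpowers, hco]))
  obtain ⟨j, hj⟩ := IsPGroup.iff_card.1 hT.2.1
  have hj1 : j ≤ s + 1 := by
    by_contra hgt
    have h1 : 2 ^ (s + 2) ∣ Nat.card L := (pow_dvd_pow 2 (by omega : s + 2 ≤ j)).trans (hj ▸ T.card_subgroup_dvd_card)
    have h3 : Nat.card L = q * o * m * 2 ^ (s + 1) := by
      have h5 : q ^ 2 - 1 = 4 * (a * (a + 1)) := by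
        have : q ^ 2 = 4 * (a * (a + 1)) + 1 := by rw [ha]; ring
        omega
      rw [h5, hprod, hsm] at hcard
      rw [pow_succ]
      nlinarith
    rw [h3, pow_succ 2 (s + 1)] at h1
    have h6 : 2 ∣ q * o * m := Nat.dvd_of_mul_dvd_mul_left (by positivity : 0 < 2 ^ (s + 1))
      (by rwa [mul_comm (q * o * m)] at h1)
    rcases Nat.prime_two.dvd_mul.1 h6 with h7 | h7
    · rcases Nat.prime_two.dvd_mul.1 h7 with h8' | h8'
      · omega
      · exact hodd0.not_two_dvd_nat h8'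
    · exact hm h7
  have hidx : ((zpowers c).subgroupOf T).index ∣ 2 := by
    have h1 := ((zpowers c).subgroupOf T).card_mul_index
    rw [Nat.card_congr (subgroupOfEquivOfLe hcT).toEquiv, Nat.card_zpowers, hco, hj] at h1
    have hsj : s ≤ j := (Nat.pow_dvd_pow_iff_le_right (by norm_num)).1 (Dvd.intro _ h1)
    obtain ⟨d, rfl⟩ := Nat.exists_eq_add_of_le hsj
    rw [pow_add, Nat.mul_left_cancel_iff (by positivity)] at h1
    rw [h1]
    exact pow_dvd_pow 2 (show d ≤ 1 by omega) |>.trans (by norm_num)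
  have hsq : ∀ y ∈ T, y * y ∈ zpowers c := by
    intro y hy
    rcases (Nat.dvd_prime Nat.prime_two).1 hidx with h1 | h1
    · have h := index_eq_one.1 h1
      have : (⟨y, hy⟩ : T) ∈ (zpowers c).subgroupOf T := h ▸ mem_top _
      exact mul_mem this this
    · exact mul_self_mem_of_index_two h1 ⟨y, hy⟩
  -- the involution in the cyclic group
  set u := c ^ 2 ^ (s - 1) with hu
  have huo : orderOf u = 2 := by
    rw [hu, orderOf_pow_of_dvd (by positivity) (hco ▸ pow_dvd_pow 2 (by omega)), hco,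
      Nat.pow_div (by omega) two_pos, show s - (s - 1) = 1 by omega, pow_one]
  have huniq : ∀ v ∈ zpowers c, orderOf v = 2 → v = u := by
    intro v hv hvo
    obtain ⟨i, rfl⟩ := mem_powers_iff_mem_zpowers.2 hv
    have h1 : (c ^ i) ^ 2 = 1 := hvo ▸ pow_orderOf_eq_one _
    rw [← pow_mul] at h1
    have h2 : 2 ^ (s - 1) * 2 ∣ i * 2 := by
      rw [← pow_succ, show s - 1 + 1 = s by omega, ← hco]
      exact orderOf_dvd_of_pow_eq_one h1
    obtain ⟨i', rfl⟩ := Nat.dvd_of_mul_dvd_mul_right two_pos h2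
    have hne : c ^ (2 ^ (s - 1) * i') ≠ 1 := Signalizer.involution_ne_one hvo
    show c ^ (2 ^ (s - 1) * i') = u
    rw [pow_mul, ← hu] at hne ⊢
    rcases Nat.even_or_odd i' with ⟨b, hb⟩ | ⟨b, hb⟩
    · exact absurd (by rw [hb, ← two_mul, pow_mul, pow_two, involution_sq huo, one_pow]) hne
    · rw [hb, pow_succ, pow_mul, pow_two, involution_sq huo, one_pow, one_mul]
  have huT : u ∈ T := hcT (pow_mem (mem_zpowers c) _)
  -- all involutions of `T` are squares
  have hb : Branching (⊤ : Subgroup L) := by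
    intro U hU hn
    have hUn : U.Normal := normalizer_eq_top_iff.1 (top_le_iff.1 hn)
    have h0 := simple_noCore hna U hUn hU.2.1
    rw [hU.unique hn hT, h0] at huT
    exact Signalizer.involution_ne_one huo (mem_bot.1 huT)
  have hE := hTI.embedded hC hb hT
  have hsolv := cn_isolated_solvable hCN hT huo huT fun v hvT hv => by
    obtain ⟨g, hg⟩ := isConj_iff.1 (CfsgLib.TwoGroups.SE.isConj_involutions hE.se huo hv)
    have hN : cj g T = T := by
      by_contra hne
      exact Signalizer.involution_ne_one hv (mem_bot.1 ((hTI _ T (isSyl_conj_top hT g) hT hne).le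
        ⟨hg ▸ conj_mem_cj.2 huT, hvT⟩))
    obtain ⟨w, hw, hwu⟩ : ∃ w ∈ T, w * w = u := ⟨c ^ 2 ^ (s - 2), hcT (pow_mem (mem_zpowers c) _), by
      rw [← pow_add, ← two_mul, ← pow_succ', show s - 2 + 1 = s - 1 by omega]⟩
    have hmem : g * w * g⁻¹ ∈ T := hN ▸ conj_mem_cj.2 hw
    refine huniq v ?_ hv
    have h := hsq _ hmem
    rwa [show g * w * g⁻¹ * (g * w * g⁻¹) = g * (w * w) * g⁻¹ by group, hwu, hg] at h
  exact hna ⟨⟨IsSimpleGroup.comm_iff_isSolvable.2 hsolv⟩⟩

/-- A 2-core in a nonsolvable CN group. -/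
theorem core_structure (hCN : Cfsg.IsCNGroup G) (hns : ¬ Group.IsSolvable G) (R : Subgroup G) [R.Normal]
    (hR : R = Cfsg.pCore 2 G) (hRb : R ≠ ⊥) :
    (∀ x ∈ R, x * x = 1) ∧
      ((∃ (F : Type) (_ : Field F) (_ : Fintype F), CharP F 2 ∧ 4 ≤ Fintype.card F ∧
        Nonempty (G ⧸ R ≃* Matrix.ProjectiveSpecialLinearGroup (Fin 2) F)) ∨ Cfsg.IsSuzuki (G ⧸ R)) := by
  classical
  haveI : Fact (Nat.Prime 2) := ⟨Nat.prime_two⟩
  obtain ⟨hQ, hQns, hQcore, hQC, hQ2⟩ := quot_facts hCN hns R hR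
  have hRp : IsPGroup 2 R := hR ▸ CfsgLib.Core.isPGroup_pCore 2 G
  have hTI := tiSylow_quot hCN hns R hR hRb
  obtain ⟨L, hLn, hLs, hna, -, -, hti⟩ := core_free_structure hQ hQns hQcore
  have hLt := hti (hTI.subgroup L)
  subst hLt
  haveI : IsSimpleGroup (G ⧸ R) := (topEquiv (G := G ⧸ R)).isSimpleGroup_congr.1 hLs
  have hnaQ : ¬ IsMulCommutative (G ⧸ R) := fun h => hna ⟨⟨fun a b => Subtype.ext (h.is_comm.comm a.1 b.1)⟩⟩
  have hfix : ∀ x : G, Odd (orderOf x) → x ≠ 1 → ∀ r ∈ R, x * r * x⁻¹ = r → r = 1 := fun x hx hx1 r hr h => by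
    by_contra hr1
    exact hx1 (fpf_on_core hCN hns R hR hx hr hr1 (mul_inv_eq_iff_eq_mul.1 h))
  rcases simple_ti hnaQ hQC hQ2 hTI with ⟨F, iF, iFt, hF, ⟨e⟩⟩ | hSz
  · set q := Fintype.card F with hqdef
    have hcard := CfsgLib.Classical.Dickson.gcd_mul_card_psl (F := F) hqdef.symm
    rw [← Nat.card_congr e.toEquiv] at hcard
    have hq4 : 4 ≤ q := by
      have h1 : 1 < q := Fintype.one_lt_card
      by_contra hlt
      have hc : Nat.card (G ⧸ R) = 6 ∨ Nat.card (G ⧸ R) = 12 := by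
        rcases (show q = 2 ∨ q = 3 by omega) with e2 | e2 <;> rw [e2] at hcard
        · rw [show Nat.gcd 2 (2 - 1) = 1 from rfl, one_mul] at hcard
          exact Or.inl (by omega)
        · rw [show Nat.gcd 2 (3 - 1) = 2 from rfl] at hcard
          exact Or.inr (by omega)
      refine hQns (CfsgLib.Recog.Sixty.isSolvable_of_dvd_sixty ?_ (by omega))
      rcases hc with e2 | e2 <;> rw [e2] <;> norm_num
    -- reduce to characteristic two
    obtain ⟨K, iK, iKt, hK2, hK4, ⟨e'⟩⟩ : ∃ (K : Type) (_ : Field K) (_ : Fintype K), CharP K 2 ∧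
        4 ≤ Fintype.card K ∧ Nonempty (G ⧸ R ≃* Matrix.ProjectiveSpecialLinearGroup (Fin 2) K) := by
      rcases hF with h9 | ⟨n, hn⟩ | ⟨hpr, k, hk⟩
      · exact absurd hTI (psl_odd_not_ti hnaQ hQ hQC hQ2 e (by rw [← hqdef, h9]; norm_num))
      · refine ⟨F, iF, iFt, ?_, hq4, ⟨e⟩⟩
        obtain ⟨p, hp⟩ := CharP.exists F
        haveI : Fact p.Prime := ⟨CharP.char_is_prime F p⟩
        obtain ⟨f, hf, hqf⟩ := CfsgLib.Classical.Dickson.exists_char_pow (F := F) p
        have h1 : p ∣ 2 ^ n := hn ▸ hqdef ▸ hqf ▸ dvd_pow_self p (by omega)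
        exact ((Nat.prime_dvd_prime_iff_eq (Fact.out) Nat.prime_two).1 ((Fact.out : p.Prime).dvd_of_dvd_pow h1)) ▸ hp
      · by_cases h5 : q = 5
        · letI : Fintype (GaloisField 2 2) := Fintype.ofFinite _
          have h4 : Fintype.card (GaloisField 2 2) = 4 := by
            rw [← Nat.card_eq_fintype_card, GaloisField.card 2 2 two_ne_zero]; norm_num
          refine ⟨GaloisField 2 2, inferInstance, inferInstance, inferInstance, h4.ge, ?_⟩
          haveI := CfsgLib.Classical.isSimpleGroup_PSL_two (F := GaloisField 2 2) h4.ge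
          have hc4 := CfsgLib.Classical.Dickson.gcd_mul_card_psl (F := GaloisField 2 2) h4
          rw [h5, show Nat.gcd 2 (5 - 1) = 2 from rfl] at hcard
          rw [show Nat.gcd 2 (4 - 1) = 1 from rfl, one_mul] at hc4
          obtain ⟨e1⟩ := CfsgLib.Recog.Sixty.iso_alt_five (G := G ⧸ R) (by omega)
          obtain ⟨e2⟩ := CfsgLib.Recog.Sixty.iso_alt_five
            (G := Matrix.ProjectiveSpecialLinearGroup (Fin 2) (GaloisField 2 2)) (by omega)
          exact ⟨e1.trans e2.symm⟩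
        · refine absurd hTI (psl_odd_not_ti hnaQ hQ hQC hQ2 e ?_)
          rw [← hqdef]
          rcases k with _ | _ | _ | k
          · simp at hk; omega
          · simp at hk; omega
          · simp at hk; omega
          · have : 2 ^ (k + 1 + 1 + 1) = 8 * 2 ^ k := by ring
            omega
    refine ⟨?_, Or.inl ⟨K, iK, iKt, hK2, hK4, ⟨e'⟩⟩⟩
    haveI := hK2
    obtain ⟨e2⟩ := CfsgLib.Recog.AffineTwo.psl_equiv_sl K
    have hcardK := CfsgLib.Classical.Dickson.gcd_mul_card_psl (F := K) rfl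
    rw [← Nat.card_congr e'.toEquiv] at hcardK
    have h3 : 3 ∣ Nat.card G := by
      refine (?_ : 3 ∣ Nat.card (G ⧸ R)).trans R.card_quotient_dvd_card
      obtain ⟨f, hf, hqf⟩ := CfsgLib.Classical.Dickson.exists_char_pow (F := K) 2
      have h : 3 ∣ (2 ^ f) ^ 2 - 1 := by
        rw [← pow_mul, mul_comm, pow_mul]
        simpa using (show 4 - 1 ∣ 4 ^ f - 1 ^ f from Nat.sub_dvd_pow_sub_pow 4 1 f)
      rw [hqf] at hcardK
      have hd : 3 ∣ Nat.gcd 2 (2 ^ f - 1) * Nat.card (G ⧸ R) := hcardK ▸ h.mul_left _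
      refine ((Nat.Prime.dvd_mul Nat.prime_three).1 hd).resolve_left fun h' => ?_
      have := Nat.le_of_dvd (by norm_num) (h'.trans (Nat.gcd_dvd_left _ _))
      omega
    haveI : Fact (Nat.Prime 3) := ⟨Nat.prime_three⟩
    obtain ⟨x, hx⟩ := exists_prime_orderOf_dvd_card' 3 h3
    obtain ⟨t, -, ht⟩ := Finset.exists_mem_notMem_of_card_lt_card (s := ({0, 1} : Finset K))
      (t := Finset.univ) (Finset.card_le_two.trans_lt (by rw [Finset.card_univ]; omega))
    simp at ht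
    exact CfsgLib.LocalEvenB.fpf_extension_elementary ⟨t, ht⟩ _ R le_rfl hRp (e'.trans e2) x hx
      (hfix x (by rw [hx]; decide) (fun h => by rw [h, orderOf_one] at hx; omega))
  · refine ⟨?_, Or.inr hSz⟩
    obtain ⟨m, hm, hcard⟩ := hSz.2
    have h3 : ¬ 3 ∣ Nat.card (G ⧸ R) := by
      rw [hcard]
      obtain ⟨h8, hq3, -⟩ := SzPrimeGraph.q_facts m hm
      generalize 2 ^ (2 * m + 1) = q at *
      intro h
      have e1 : q ^ 2 % 3 = 1 := by rw [Nat.pow_mod, hq3]
      have e2 : (q ^ 2 + 1) % 3 = 2 := by omega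
      have e3 : (q - 1) % 3 = 1 := by omega
      have : q ^ 2 * (q ^ 2 + 1) * (q - 1) % 3 = 2 := by
        rw [Nat.mul_mod, Nat.mul_mod (q ^ 2), e1, e2, e3]
      omega
    obtain ⟨T, H, a, b, μ, hKern⟩ := SuzukiRecog.exists_kern_cit hnaQ hQC hQ2 h3
    letI := Fintype.ofFinite ((G ⧸ R) ⧸ Subgroup.normalizer (T : Set (G ⧸ R)))
    obtain ⟨⟨l, hl⟩, hμ⟩ := SuzukiRecog.kern_log hKern
    haveI : Fintype (GaloisField 2 μ) := Fintype.ofFinite _
    have hF' : Fintype.card (GaloisField 2 μ) = 2 ^ (2 * l + 1) := by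
      rw [← Nat.card_eq_fintype_card, GaloisField.card 2 μ (by omega), hl]
    have hl1 : 1 ≤ l := by omega
    obtain ⟨e0⟩ := SuzukiRecog.nonempty_mulEquiv_sz_of_kern hKern hl1 hl hF'
    set e : G ⧸ R ≃* Cfsg.Sz (GaloisField 2 μ) l := e0.trans (CfsgLib.Lie.Suzuki.equivLie hl1 hF').symm with he
    have h51 : CfsgLib.SzModule.five hF' ≠ (1 : Cfsg.Sz (GaloisField 2 μ) l) := fun h => by
      have h1 := congrFun (congrFun (congrArg CfsgLib.SzModule.mat h) 3) 3
      rw [CfsgLib.SzModule.five, CfsgLib.SzModule.mat_mul, CfsgLib.SzModule.mat_uS, CfsgLib.SzModule.mat_wS,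
        CfsgLib.SzModule.mat_one] at h1
      simp [CfsgLib.Lie.Suzuki.uM, CfsgLib.Lie.Suzuki.wM, CfsgLib.Lie.Suzuki.fQ, Matrix.mul_apply,
        Fin.sum_univ_four] at h1
    have ho : Odd (orderOf (e.symm (CfsgLib.SzModule.five hF'))) := by
      rw [MulEquiv.orderOf_eq]
      exact (by decide : Odd 5).of_dvd_nat (orderOf_dvd_of_pow_eq_one (CfsgLib.SzModule.five_pow_five hF'))
    obtain ⟨x, hx, hxo⟩ := exists_quot_odd_lift R _ ho
    have hx1 : x ≠ 1 := fun h => h51 (by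
      rw [h, QuotientGroup.mk_one] at hx
      have := congrArg e hx
      rw [MulEquiv.apply_symm_apply, map_one] at this
      exact this.symm)
    exact CfsgLib.SzModule.sz_extension_elementary hF' hl1 _ R le_rfl hRp e x
      (by rw [hx, MulEquiv.apply_symm_apply]) (hfix x hxo hx1)

end CfsgLib.CIT
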