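import Cfsg.Agent.Lib.CIT.AlmostSimpleExamples
import Cfsg.Agent.Lib.CIT.AlmostSimpleThree
import Cfsg.Agent.Lib.CIT.Simple
import Cfsg.Agent.Lib.Recog.SimpleSixty
import Cfsg.Agent.Lib.OddLocal.FittingHall

/-!
# Nonsolvable CN groups

* `cn_solvable_normal_eq_bot`: without a normal 2-subgroup there is no normal solvable subgroup
* `quot_facts`: the quotient by the 2-core is CIT
* `core_free_structure`: without a normal 2-subgroup the group is simple, or has `PSL(2, 9)` in index two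
-/

set_option autoImplicit false
set_option linter.all false

namespace CfsgLib.CIT

open Subgroup
open CfsgLib.Signalizer (involution_sq involution_inv orderOf_eq_two_of orderOf_conj)

universe u

section Lifts

variable {G : Type u} [Group G] [Finite G]

theorem solvable_of_le'' {X Y : Subgroup G} (h : X ≤ Y) (hY : Group.IsSolvable Y) : Group.IsSolvable X :=
  haveI := hY
  Group.isSolvable_of_isSolvable_injective (f := inclusion h) (inclusion_injective h)

/-- Elements of two-power order of a quotient lift to such elements. -/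
theorem exists_two_lift (R : Subgroup G) [R.Normal] (w : G ⧸ R) (hw : orderOf w = 2) :
    ∃ t : G, (t : G ⧸ R) = w ∧ ∃ k : ℕ, orderOf t = 2 ^ k := by
  obtain ⟨g, rfl⟩ := QuotientGroup.mk_surjective w
  obtain ⟨k, m, hm, hkm⟩ := Nat.exists_eq_pow_mul_and_not_dvd (orderOf_pos g).ne' 2 (by norm_num)
  refine ⟨g ^ m, ?_, k, ?_⟩
  · rw [QuotientGroup.mk_pow, ← pow_mod_orderOf, hw, show m % 2 = 1 by omega, pow_one]
  · have hm0 : m ≠ 0 := fun e => hm (e ▸ dvd_zero 2)
    rw [orderOf_pow_of_dvd hm0 (hkm ▸ dvd_mul_left m _), hkm, Nat.mul_div_cancel _ (by omega)]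

/-- In a CN group commuting with a nontrivial element forces coprime elements to commute. -/
theorem cn_commute (hCN : Cfsg.IsCNGroup G) {v x y : G} (hv : v ≠ 1) (hxv : x * v = v * x) (hyv : y * v = v * y)
    (hc : (orderOf x).Coprime (orderOf y)) : x * y = y * x := by
  have hx : x ∈ centralizer ({v} : Set G) := mem_centralizer_singleton_iff.2 hxv
  have hy : y ∈ centralizer ({v} : Set G) := mem_centralizer_singleton_iff.2 hyv
  have h := CfsgLib.OddLocal.commute_of_coprime_orderOf (hCN v hv) (x := ⟨x, hx⟩) (y := ⟨y, hy⟩)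
    (by rw [Subgroup.orderOf_mk, Subgroup.orderOf_mk]; exact hc)
  exact congrArg Subtype.val h.eq

/-- A nonsolvable CN group has no abelian normal subgroup of odd prime power order. -/
theorem cn_abelian_normal_eq_bot (hCN : Cfsg.IsCNGroup G) (hns : ¬ Group.IsSolvable G) {Q : Subgroup G}
    [hQn : Q.Normal] {q : ℕ} (hq : q.Prime) (hq2 : q ≠ 2) (hQ : IsPGroup q Q)
    (hab : ∀ x ∈ Q, ∀ y ∈ Q, x * y = y * x) : Q = ⊥ := by
  classical
  by_contra hQb
  haveI : Fact (Nat.Prime 2) := ⟨Nat.prime_two⟩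
  haveI := Fact.mk hq
  obtain ⟨x0, hx0, hx01⟩ := Q.bot_or_exists_ne_one.resolve_left hQb
  set C := centralizer (Q : Set G) with hC
  haveI : C.Normal := inferInstance
  have hCsolv : Group.IsSolvable C := by
    haveI : Group.IsNilpotent (centralizer ({x0} : Set G)) := hCN x0 hx01
    exact solvable_of_le'' (fun c hc => mem_centralizer_singleton_iff.2 (mem_centralizer_iff.1 hc x0 hx0).symm)
      inferInstance
  have hCNq := CfsgLib.OddLocal.CN.cn_quotient hCN C hCsolv
  have hQns : ¬ Group.IsSolvable (G ⧸ C) := fun hs => hns (by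
    haveI := hs
    haveI := hCsolv
    exact Group.isSolvable_of_ker_le_range C.subtype (QuotientGroup.mk' C)
      (by rw [QuotientGroup.ker_mk', range_subtype]))
  have h2 : 2 ∣ Nat.card (G ⧸ C) := by
    by_contra h
    exact hQns (Cfsg.Agent.S0183.result (Nat.odd_iff.2 (by omega)) hCNq)
  -- two-elements over an involution invert `Q`
  have hinv : ∀ t : G, orderOf (t : G ⧸ C) = 2 → (∃ k, orderOf t = 2 ^ k) → ∀ x ∈ Q, t * x * t⁻¹ = x⁻¹ := by
    intro t ht ⟨k, hk⟩
    have hfix : ∀ x ∈ Q, t * x * t⁻¹ = x → x = 1 := by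
      intro x hx hxt
      by_contra hx1
      have htC : t ∈ C := mem_centralizer_iff.2 fun y hy => (cn_commute hCN hx1
        (mul_inv_eq_iff_eq_mul.1 hxt) (hab y hy x hx) (by
          obtain ⟨j, hj⟩ := IsPGroup.iff_orderOf.1 hQ ⟨y, hy⟩
          rw [Subgroup.orderOf_mk] at hj
          rw [hk, hj]
          exact Nat.Coprime.pow _ _ ((Nat.coprime_primes Nat.prime_two hq).2 (Ne.symm hq2)))).symm
      rw [(QuotientGroup.eq_one_iff t).2 htC, orderOf_one] at ht
      omega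
    have htt : t * t ∈ C := (QuotientGroup.eq_one_iff _).1 (by rw [QuotientGroup.mk_mul]; exact involution_sq ht)
    intro x hx
    have hx' : t * x * t⁻¹ ∈ Q := hQn.conj_mem x hx t
    have hii : t * (t * x * t⁻¹) * t⁻¹ = x := by
      have h1 : x * (t * t) = t * t * x := mem_centralizer_iff.1 htt x hx
      calc t * (t * x * t⁻¹) * t⁻¹ = t * t * x * (t * t)⁻¹ := by group
        _ = x := by rw [← h1, mul_inv_cancel_right]
    have h1 := hfix _ (mul_mem hx hx') (by
      calc t * (x * (t * x * t⁻¹)) * t⁻¹ = (t * x * t⁻¹) * (t * (t * x * t⁻¹) * t⁻¹) := by group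
        _ = x * (t * x * t⁻¹) := by rw [hii]; exact hab _ hx' _ hx)
    exact eq_inv_of_mul_eq_one_right h1
  obtain ⟨w, hw⟩ := exists_prime_orderOf_dvd_card' 2 h2
  obtain ⟨t, htw, htk⟩ := exists_two_lift C w hw
  have huniq : ∀ w' : G ⧸ C, orderOf w' = 2 → w' = w := by
    intro w' hw'
    obtain ⟨t', htw', htk'⟩ := exists_two_lift C w' hw'
    rw [← htw, ← htw']
    symm
    rw [QuotientGroup.eq]
    refine mem_centralizer_iff.2 fun x hx => ?_
    have h1 := hinv t' (htw' ▸ hw') htk' x hx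
    have h2 := hinv t (htw ▸ hw) htk x hx
    have h3 : t' * x * t'⁻¹ = t * x * t⁻¹ := h1.trans h2.symm
    calc x * (t⁻¹ * t') = t⁻¹ * (t * x * t⁻¹) * t' := by group
      _ = t⁻¹ * (t' * x * t'⁻¹) * t' := by rw [h3]
      _ = t⁻¹ * t' * x := by group
  haveI hnil := hCNq w (Signalizer.involution_ne_one hw)
  have htop : centralizer ({w} : Set (G ⧸ C)) = ⊤ := eq_top_iff.2 fun g _ =>
    mem_centralizer_singleton_iff.2 (mul_inv_eq_iff_eq_mul.1 (huniq _ ((orderOf_conj g w).trans hw)))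
  rw [htop] at hnil
  haveI : Group.IsNilpotent (G ⧸ C) := Group.nilpotent_of_mulEquiv topEquiv
  exact hQns inferInstance

/-- Without a normal 2-subgroup there is no solvable normal subgroup. -/
theorem cn_solvable_normal_eq_bot (hCN : Cfsg.IsCNGroup G) (hns : ¬ Group.IsSolvable G)
    (hcore : Cfsg.pCore 2 G = ⊥) {K : Subgroup G} (hKn : K.Normal) (hs : Group.IsSolvable K) : K = ⊥ := by
  by_contra hKb
  haveI := hKn
  obtain ⟨V, a, hVn, ha, hV1, hVc, hVexp⟩ := CfsgLib.Recog.Spectrum.exists_elementary_of_solvable K hKb hs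
  haveI := hVn
  haveI := Fact.mk ha
  have hVp : IsPGroup a V := fun v => ⟨1, by rw [pow_one]; exact hVexp v⟩
  by_cases ha2 : a = 2
  · subst ha2
    exact hV1 (le_bot_iff.1 (hcore ▸ CfsgLib.Core.le_pCore hVp))
  · exact hV1 (cn_abelian_normal_eq_bot hCN hns ha ha2 hVp
      fun x hx y hy => congrArg Subtype.val (hVc ⟨x, hx⟩ ⟨y, hy⟩))

/-- The quotient by the 2-core. -/
theorem quot_facts (hCN : Cfsg.IsCNGroup G) (hns : ¬ Group.IsSolvable G) (R : Subgroup G) [R.Normal]
    (hR : R = Cfsg.pCore 2 G) :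
    Cfsg.IsCNGroup (G ⧸ R) ∧ ¬ Group.IsSolvable (G ⧸ R) ∧ Cfsg.pCore 2 (G ⧸ R) = ⊥ ∧ CIT (G ⧸ R) ∧
      2 ∣ Nat.card (G ⧸ R) := by
  subst hR
  haveI : Fact (Nat.Prime 2) := ⟨Nat.prime_two⟩
  haveI : Group.IsNilpotent (Cfsg.pCore 2 G) := (CfsgLib.Core.isPGroup_pCore 2 G).isNilpotent
  have h1 := CfsgLib.OddLocal.CN.cn_quotient hCN (Cfsg.pCore 2 G) inferInstance
  have h2 : ¬ Group.IsSolvable (G ⧸ Cfsg.pCore 2 G) := fun hs => hns (by
    haveI := hs
    exact Group.isSolvable_of_ker_le_range (Cfsg.pCore 2 G).subtype (QuotientGroup.mk' (Cfsg.pCore 2 G))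
      (by rw [QuotientGroup.ker_mk', range_subtype]))
  have h3 := CfsgLib.Core.pCore_quotient_pCore 2 G
  refine ⟨h1, h2, h3, cn_cit_of_no_solvable h1 fun K hK hs => cn_solvable_normal_eq_bot h1 h2 h3 hK hs, ?_⟩
  by_contra h
  exact h2 (Cfsg.Agent.S0183.result (Nat.odd_iff.2 (by omega)) h1)

end Lifts

section SimpleCases

variable {L : Type u} [Group L] [Finite L]

/-- Abelian Sylow 2-subgroups of a CIT group intersect trivially. -/
theorem tiSylow_of_exponent_two (hC : CIT L) (h : ∀ x : L, (∃ k, orderOf x = 2 ^ k) → x * x = 1) : TISylow L := by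
  intro T T' hT hT' hne
  by_contra hb
  obtain ⟨t, ⟨htT, htT'⟩, ht1⟩ := (T ⊓ T').bot_or_exists_ne_one.resolve_left hb
  have hex : ∀ S : Subgroup L, IsSyl S ⊤ → ∀ a ∈ S, a * a = 1 := fun S hS a ha =>
    h a (orderOf_two_pow_of_mem hS.2.1 ha)
  have ht : orderOf t = 2 := orderOf_eq_two_of ht1 (hex T hT t htT)
  have key : ∀ S : Subgroup L, IsSyl S ⊤ → t ∈ S → centralizer ({t} : Set L) = S := by
    intro S hS htS
    refine hS.2.2 _ (fun a ha => mem_centralizer_singleton_iff.2 ?_) le_top (hC t ht)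
    have h1 := inv_eq_of_mul_eq_one_right (hex S hS _ (mul_mem ha htS))
    rw [mul_inv_rev, inv_eq_of_mul_eq_one_right (hex S hS _ ha), inv_eq_of_mul_eq_one_right (hex S hS _ htS)] at h1
    exact h1.symm
  exact hne ((key T hT htT).symm.trans (key T' hT' htT'))

theorem orderOf_dvd_psl_three_four {F : Type*} [Field F] [Fintype F] (hF : Fintype.card F = 4)
    (g : Matrix.ProjectiveSpecialLinearGroup (Fin 3) F) : ∃ n ∈ [3, 4, 5, 7], orderOf g ∣ n := by
  classical
  obtain ⟨X, rfl⟩ := QuotientGroup.mk_surjective g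
  obtain ⟨n, hn, c, hc⟩ := CfsgLib.Classical.PSLThreeFour.exists_pow_scalar hF X
  refine ⟨n, hn, orderOf_dvd_of_pow_eq_one ?_⟩
  rw [← QuotientGroup.mk_pow, QuotientGroup.eq_one_iff, Matrix.SpecialLinearGroup.mem_center_iff]
  refine ⟨c, ?_, ?_⟩
  · have h := congrArg Matrix.det hc
    rw [Matrix.det_pow, Matrix.det_smul, Matrix.det_one, mul_one,
      show (X : Matrix (Fin 3) (Fin 3) F).det = 1 from X.2, one_pow] at h
    exact h.symm
  · rw [Matrix.SpecialLinearGroup.coe_pow, hc]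
    simp [Matrix.smul_one_eq_diagonal]

/-- The simple CIT groups and their Sylow subgroups. -/
theorem simple_cit_cases [IsSimpleGroup L] (hna : ¬ IsMulCommutative L) (hC : CIT L) (h2 : 2 ∣ Nat.card L) :
    TISylow L ∨ (∃ x : L, 3 ∣ Nat.card L ∧ ∀ k : ℕ, 3 ^ k ∣ Nat.card L → 3 ^ k ∣ orderOf x) ∨
      (∃ (F : Type) (_ : Field F) (_ : Fintype F), Fintype.card F = 9 ∧
        Nonempty (L ≃* Matrix.ProjectiveSpecialLinearGroup (Fin 2) F)) ∨ IsPSLThreeFour L := by
  classical
  by_cases hTI : TISylow L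
  · exact Or.inl hTI
  right
  have hLoc := localTI hC
  obtain ⟨T, W, A, r, h⟩ := exists_pair hC (simple_noCore hna) hLoc hTI
  have hr4 := h.q_le_four hC hLoc
  have hr1 := h.left.one_lt
  obtain ⟨j, hj⟩ := (h.left.syl.2.1.to_le (inf_le_left.trans h.le_T.2 : A ⊓ W ≤ T)).exists_card_eq
  rw [h.card_inter] at hj
  obtain rfl | rfl : r = 2 ∨ r = 4 := by
    have : r ≠ 3 := fun e => by
      rcases Nat.eq_zero_or_pos j with rfl | hpos
      · norm_num at hj; omega
      · have : 2 ∣ r := hj ▸ dvd_pow_self 2 hpos.ne'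
        omega
    omega
  swap
  · exact Or.inr (Or.inr (Four.isPSLThreeFour ⟨hC, hLoc, h, h.sylow_of_simple hna hC hLoc⟩))
  obtain ⟨F, iF, iFt, hF, ⟨e⟩⟩ := simple_pair_two hna hC h
  set q := Fintype.card F with hq
  have hcard := CfsgLib.Classical.Dickson.gcd_mul_card_psl (F := F) hq.symm
  rw [← Nat.card_congr e.toEquiv] at hcard
  have hns : ¬ Group.IsSolvable L := fun hs => hna ⟨⟨IsSimpleGroup.comm_iff_isSolvable.2 hs⟩⟩
  have hq4 : 4 ≤ q := by
    have h1 : 1 < q := Fintype.one_lt_card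
    by_contra hlt
    have hc : Nat.card L = 6 ∨ Nat.card L = 12 := by
      rcases (show q = 2 ∨ q = 3 by omega) with e2 | e2 <;> rw [e2] at hcard
      · rw [show Nat.gcd 2 (2 - 1) = 1 from rfl, one_mul] at hcard
        exact Or.inl (by omega)
      · rw [show Nat.gcd 2 (3 - 1) = 2 from rfl] at hcard
        exact Or.inr (by omega)
    refine hns (CfsgLib.Recog.Sixty.isSolvable_of_dvd_sixty ?_ (by omega))
    rcases hc with e2 | e2 <;> rw [e2] <;> norm_num
  obtain ⟨p, hp⟩ := CharP.exists F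
  haveI : Fact p.Prime := ⟨CharP.char_is_prime F p⟩
  obtain ⟨f, hf, hqf⟩ := CfsgLib.Classical.Dickson.exists_char_pow (F := F) p
  rw [← hq] at hqf
  have hrange := CfsgLib.Recog.PSLTwoOrders.range_orderOf (F := F) p hq4
  rw [← hq] at hrange
  have hord : ∀ n, (n ∣ (q - 1) / Nat.gcd 2 (q - 1) ∨ n ∣ (q + 1) / Nat.gcd 2 (q - 1)) → ∃ x : L, orderOf x = n := by
    intro n hn
    obtain ⟨g, hg⟩ : n ∈ Set.range (orderOf : Matrix.ProjectiveSpecialLinearGroup (Fin 2) F → ℕ) :=
      hrange.ge (Or.inr hn)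
    exact ⟨e.symm g, by rw [MulEquiv.orderOf_eq, hg]⟩
  have hsmall : (∀ k, (2 ^ k = p ∨ 2 ^ k ∣ (q - 1) / Nat.gcd 2 (q - 1) ∨
      2 ^ k ∣ (q + 1) / Nat.gcd 2 (q - 1)) → 2 ^ k ∣ 2) → False := by
    intro h
    refine hTI (tiSylow_of_exponent_two hC fun x ⟨k, hk⟩ => ?_)
    have h1 : orderOf x ∈ {n | n = p ∨ n ∣ (q - 1) / Nat.gcd 2 (q - 1) ∨ n ∣ (q + 1) / Nat.gcd 2 (q - 1)} :=
      hrange.le ⟨e x, e.orderOf_eq x⟩
    rw [hk] at h1
    rw [← pow_two]
    exact orderOf_dvd_iff_pow_eq_one.1 (hk ▸ h k h1)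
  rcases hF with h9 | ⟨n, hn⟩ | ⟨hpr, k, hk⟩
  · exact Or.inr (Or.inl ⟨F, iF, iFt, h9, ⟨e⟩⟩)
  · refine (hsmall fun k hk => ?_).elim
    have hn1 : n ≠ 0 := fun h0 => by rw [h0] at hn; omega
    have hp2 : p = 2 := by
      have h1 : p ∣ q := hqf ▸ dvd_pow_self p (by omega)
      rw [hn] at h1
      exact (Nat.prime_dvd_prime_iff_eq (Fact.out) Nat.prime_two).1 ((Fact.out : p.Prime).dvd_of_dvd_pow h1)
    have hev : 2 ∣ q := hn ▸ dvd_pow_self 2 hn1
    rcases Nat.eq_zero_or_pos k with rfl | hk0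
    · norm_num
    have h2k : 2 ∣ 2 ^ k := dvd_pow_self 2 hk0.ne'
    rcases hk with hk | hk | hk
    · rw [hk, hp2]
    · have := (h2k.trans hk).trans (Nat.div_dvd_of_dvd (Nat.gcd_dvd_right 2 (q - 1)))
      omega
    · have hd : Nat.gcd 2 (q - 1) ∣ q + 1 := by
        rw [show q + 1 = q - 1 + 2 by omega]
        exact dvd_add (Nat.gcd_dvd_right _ _) (Nat.gcd_dvd_left _ _)
      have := (h2k.trans hk).trans (Nat.div_dvd_of_dvd hd)
      omega
  · have hodd : q % 2 = 1 := by rcases hpr.eq_two_or_odd with h' | h' <;> omega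
    have hgcd : Nat.gcd 2 (q - 1) = 2 := Nat.gcd_eq_left (by omega)
    by_cases h5 : q = 5
    · refine (hsmall fun k hk => ?_).elim
      rw [hgcd, h5] at hk
      have hp5 : p = 5 := by
        have h1 : p ∣ 5 := h5 ▸ hqf ▸ dvd_pow_self p (by omega)
        exact (Nat.prime_dvd_prime_iff_eq (Fact.out) (by norm_num)).1 h1
      subst hp5
      rcases hk with hk | hk | hk
      · rcases Nat.eq_zero_or_pos k with rfl | hk0
        · norm_num at hk
        · have : 2 ∣ 2 ^ k := dvd_pow_self 2 hk0.ne'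
          omega
      · exact hk
      · rcases Nat.eq_zero_or_pos k with rfl | hk0
        · norm_num
        · have := (dvd_pow_self 2 hk0.ne').trans hk
          norm_num at this
    · rw [hgcd] at hcard hord
      have h3q : ¬ 3 ∣ q := fun h3 => by
        have := (Nat.prime_dvd_prime_iff_eq Nat.prime_three hpr).1 h3
        omega
      obtain ⟨a, ha⟩ : ∃ a, q = 2 * a + 1 := ⟨q / 2, by omega⟩
      have hcard' : Nat.card L = q * (2 * a * (a + 1)) := by
        have h1 : q ^ 2 - 1 = 4 * a * (a + 1) := by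
          have : q ^ 2 = 4 * a * (a + 1) + 1 := by rw [ha]; ring
          omega
        rw [h1] at hcard
        nlinarith
      obtain ⟨T', hT', h3T, hco⟩ : ∃ T', (T' = (q - 1) / 2 ∨ T' = (q + 1) / 2) ∧ 3 ∣ T' ∧
          ∀ j : ℕ, 3 ^ j ∣ a * (a + 1) → 3 ^ j ∣ T' := by
        rw [show (q - 1) / 2 = a by omega, show (q + 1) / 2 = a + 1 by omega]
        have hcop : ∀ b c : ℕ, ¬ 3 ∣ c → ∀ j : ℕ, 3 ^ j ∣ b * c → 3 ^ j ∣ b := fun b c hc j hj =>
          Nat.Coprime.dvd_of_dvd_mul_right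
            ((Nat.coprime_comm.1 ((Nat.Prime.coprime_iff_not_dvd Nat.prime_three).2 hc).symm).pow_left j) hj
        by_cases h : 3 ∣ a
        · exact ⟨a, Or.inl rfl, h, hcop a (a + 1) (by omega)⟩
        · exact ⟨a + 1, Or.inr rfl, by rw [ha] at h3q; rcases (show a % 3 = 0 ∨ a % 3 = 1 ∨ a % 3 = 2 by omega) with e3 | e3 | e3 <;> omega, fun j hj => hcop (a + 1) a h j (by rwa [mul_comm])⟩
      obtain ⟨x, hx⟩ := hord T' (by rcases hT' with rfl | rfl <;> simp)
      refine Or.inl ⟨x, ?_, fun j hj => hx ▸ hco j ?_⟩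
      · have h1 : T' ∣ Nat.card L := hx ▸ orderOf_dvd_natCard x
        exact h3T.trans h1
      · rw [hcard'] at hj
        have hc1 : (3 ^ j).Coprime (q * 2) := by
          refine Nat.Coprime.pow_left j ((Nat.Prime.coprime_iff_not_dvd Nat.prime_three).2 ?_)
          omega
        exact hc1.dvd_of_dvd_mul_left (by rwa [show q * 2 * (a * (a + 1)) = q * (2 * a * (a + 1)) by ring])

end SimpleCases

section CoreFree

variable {G : Type u} [Group G] [Finite G]

/-- The CIT group over its simple normal subgroup. -/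
theorem core_free_structure (hCN : Cfsg.IsCNGroup G) (hns : ¬ Group.IsSolvable G) (hcore : Cfsg.pCore 2 G = ⊥) :
    ∃ L : Subgroup G, L.Normal ∧ IsSimpleGroup L ∧ ¬ IsMulCommutative L ∧ 2 ∣ Nat.card L ∧
      (L = ⊤ ∨ L.index = 2 ∧ ∃ (F : Type) (_ : Field F) (_ : Fintype F), Fintype.card F = 9 ∧
        Nonempty (L ≃* Matrix.ProjectiveSpecialLinearGroup (Fin 2) F)) ∧ (TISylow L → L = ⊤) := by
  classical
  have hC : CIT G := cn_cit_of_no_solvable hCN fun K hK hs => cn_solvable_normal_eq_bot hCN hns hcore hK hs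
  have h2 : 2 ∣ Nat.card G := by
    by_contra h
    exact hns (Cfsg.Agent.S0183.result (Nat.odd_iff.2 (by omega)) hCN)
  obtain ⟨L, hLn, hLs, hna, hL2, -⟩ := exists_simple_normal hC h2 hns hcore
  haveI := hLn
  haveI := hLs
  have hti : TISylow L → L = ⊤ := eq_top_of_ti hC hna hL2 hCN
  refine ⟨L, hLn, hLs, hna, hL2, ?_, hti⟩
  rcases simple_cit_cases hna (hC.subgroup L) hL2 with hTI | ⟨x, h3, hx⟩ | ⟨F, iF, iFt, hF, ⟨e⟩⟩ | h34
  · exact Or.inl (hti hTI)
  · exact Or.inl (eq_top_of_cyclic_three hC hna h3 hx)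
  · have hcard : Nat.card L = 360 := by
      have h := CfsgLib.Classical.Dickson.gcd_mul_card_psl (F := F) hF
      rw [show Nat.gcd 2 (9 - 1) = 2 from rfl, ← Nat.card_congr e.toEquiv] at h
      omega
    obtain ⟨a, b, f, ha3, hb3, hab, ha, hb, hba, hba', hf, hfa, hfb⟩ := (nineData_psl_nine hF).congr e.symm
    obtain ⟨hi, -⟩ := index_nine hC hna (by rw [hcard]; norm_num) ha3 hb3 hab ha hb hba hba' hf hfa hfb
    rcases (Nat.dvd_prime Nat.prime_two).1 hi with h1 | h1
    · exact Or.inl (index_eq_one.1 h1)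
    · exact Or.inr ⟨h1, F, iF, iFt, hF, ⟨e⟩⟩
  · obtain ⟨F, iF, iFt, hF, ⟨e⟩⟩ := h34
    have hcard : Nat.card L = 20160 :=
      (Nat.card_congr e.toEquiv).trans (CfsgLib.Known.L34.card_PSL hF)
    obtain ⟨a, b, f, ha3, hb3, hab, ha, hb, hba, hba', hf, hfa, hfb⟩ := (nineData_psl_three_four hF).congr e.symm
    obtain ⟨-, htop⟩ := index_nine hC hna (by rw [hcard]; norm_num) ha3 hb3 hab ha hb hba hba' hf hfa hfb
    refine Or.inl (htop (fun r hr hr3 z hza hz => ?_) fun n hn => by omega)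
    have hao : orderOf a = 3 := by
      haveI : Fact (Nat.Prime 3) := ⟨Nat.prime_three⟩
      exact orderOf_eq_prime ha3 ha
    have hza' : orderOf (z * a) = r * 3 := by
      rw [(show Commute z a from hza).orderOf_mul_eq_mul_orderOf_of_coprime
        (by rw [hz, hao]; exact (Nat.coprime_primes hr Nat.prime_three).2 hr3), hz, hao]
    obtain ⟨n, hn, hdvd⟩ := orderOf_dvd_psl_three_four hF (e (z * a))
    rw [MulEquiv.orderOf_eq, hza'] at hdvd
    simp at hn
    have := hr.two_le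
    have h3 : 3 ∣ n := (dvd_mul_left 3 r).trans hdvd
    rcases hn with rfl | rfl | rfl | rfl
    · have := Nat.le_of_dvd (by norm_num) hdvd
      omega
    all_goals omega

end CoreFree

end CfsgLib.CIT
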