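import Cfsg.Agent.Lib.CIT.CN
import Cfsg.Agent.Lib.CIT.Simple
import Cfsg.Agent.Lib.Classical.SmallIsoSix
import Cfsg.Agent.Lib.Recog.SimpleSixty
import Cfsg.Agent.Lib.PLocal.SelfCentNoncyclic.Converse

/-!
# Simple groups all of whose elements have prime power order
-/

set_option autoImplicit false
set_option linter.all false

namespace CfsgLib.CIT

open Subgroup

section

variable {G : Type*} [Group G] [Finite G]

/-- Centralisers are groups of prime power order. -/
theorem eppo_centralizer (h : ∀ g : G, g ≠ 1 → IsPrimePow (orderOf g)) {x : G} (hx : x ≠ 1) {p k : ℕ}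
    (hp : p.Prime) (hk : orderOf x = p ^ k) : IsPGroup p (centralizer ({x} : Set G)) := by
  obtain ⟨n, hn⟩ : ∃ n, Nat.card (centralizer ({x} : Set G)) = p ^ n :=
    ⟨_, Nat.eq_prime_pow_of_unique_prime_dvd Nat.card_pos.ne' fun {r} hr hrd => by
      haveI := Fact.mk hr
      obtain ⟨⟨y, hy⟩, hyo⟩ := exists_prime_orderOf_dvd_card' r hrd
      rw [Subgroup.orderOf_mk] at hyo
      by_contra hne
      have hcop : (orderOf x).Coprime (orderOf y) := by
        rw [hk, hyo]
        exact Nat.Coprime.pow_left _ ((Nat.coprime_primes hp hr).2 (Ne.symm hne))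
      have hxy : orderOf (x * y) = orderOf x * orderOf y :=
        Commute.orderOf_mul_eq_mul_orderOf_of_coprime (mem_centralizer_singleton_iff.1 hy).symm hcop
      have hne1 : x * y ≠ 1 := fun e => by
        rw [e, orderOf_one, hyo] at hxy
        exact hr.one_lt.ne' (Nat.eq_one_of_mul_eq_one_left hxy.symm)
      obtain ⟨s, j, hs, hj, hsj⟩ := h _ hne1
      rw [hxy, hk, hyo] at hsj
      have h1 : r = s := (Nat.prime_dvd_prime_iff_eq hr hs.nat_prime).1
        (hr.dvd_of_dvd_pow (hsj ▸ dvd_mul_left r (p ^ k)))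
      rcases Nat.eq_zero_or_pos k with rfl | hk0
      · exact hx (orderOf_eq_one_iff.1 (by rw [hk, pow_zero]))
      · have h2 : p = s := (Nat.prime_dvd_prime_iff_eq hp hs.nat_prime).1
          (hp.dvd_of_dvd_pow (hsj ▸ (dvd_pow_self p hk0.ne').mul_right r))
        exact hne (h1.trans h2.symm)⟩
  exact IsPGroup.of_card hn

theorem eppo_cn (h : ∀ g : G, g ≠ 1 → IsPrimePow (orderOf g)) : Cfsg.IsCNGroup G := by
  intro x hx
  obtain ⟨p, k, hp, -, hk⟩ := h x hx
  haveI := Fact.mk hp.nat_prime
  exact (eppo_centralizer h hx hp.nat_prime hk.symm).isNilpotent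

theorem eppo_cit (h : ∀ g : G, g ≠ 1 → IsPrimePow (orderOf g)) : CIT G := fun t ht =>
  eppo_centralizer h (CfsgLib.Signalizer.involution_ne_one ht) Nat.prime_two (k := 1) (by rw [ht, pow_one])

end

theorem eq_three_pow {n : ℕ} (h : IsPrimePow n) (h3 : 3 ∣ n) : ∃ a, 1 ≤ a ∧ n = 3 ^ a := by
  obtain ⟨p, a, hp, ha, rfl⟩ := h
  refine ⟨a, ha, ?_⟩
  rw [(Nat.prime_dvd_prime_iff_eq Nat.prime_three hp.nat_prime).1 (Nat.prime_three.dvd_of_dvd_pow h3)]

theorem three_dvd_two_pow (n : ℕ) : (Even n → 3 ∣ 2 ^ n - 1) ∧ (Odd n → 3 ∣ 2 ^ n + 1) := by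
  refine ⟨?_, ?_⟩
  · rintro ⟨m, rfl⟩
    rw [← two_mul, pow_mul]
    have := Nat.sub_dvd_pow_sub_pow (2 ^ 2) 1 m
    rw [one_pow] at this
    exact dvd_trans (by norm_num) this
  · rintro ⟨m, rfl⟩
    rw [pow_succ, pow_mul]
    have := Nat.sub_dvd_pow_sub_pow (2 ^ 2) 1 m
    rw [one_pow] at this
    have h4 : 1 ≤ (2 ^ 2) ^ m := Nat.one_le_pow _ _ (by norm_num)
    have h3 : 3 ∣ (2 ^ 2) ^ m - 1 := dvd_trans (by norm_num) this
    omega

theorem two_pow_eq_three_pow {k a : ℕ} (ha : 1 ≤ a) :
    (2 ^ k + 1 = 3 ^ a → k = 1 ∨ k = 3) ∧ (2 ^ k = 3 ^ a + 1 → k = 2) := by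
  have hcases : (3 ^ a = 2 ^ k + 1 ∨ 3 ^ a + 1 = 2 ^ k) → 3 ^ a = 9 ∨ a = 1 :=
    CfsgLib.PLocal.SelfCentNoncyclic.prime_pow_near_two_pow Nat.prime_three (by norm_num) ha
  constructor <;> intro h
  · rcases hcases (Or.inl h.symm) with e | e
    · right
      rw [e] at h
      exact Nat.pow_right_injective le_rfl (show 2 ^ k = 2 ^ 3 by omega)
    · left
      subst e
      exact Nat.pow_right_injective le_rfl (show 2 ^ k = 2 ^ 1 by omega)
  · rcases hcases (Or.inr h.symm) with e | e
    · exfalso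
      rw [e] at h
      have h10 : k < 4 := by
        by_contra hk
        have := Nat.pow_le_pow_right (show 1 ≤ 2 by norm_num) (show 4 ≤ k by omega)
        omega
      interval_cases k <;> omega
    · subst e
      exact Nat.pow_right_injective le_rfl (show 2 ^ k = 2 ^ 2 by omega)

/-- Simple groups with all elements of prime power order, Suzuki groups given by their order. -/
theorem eppo_simple {G : Type*} [Group G] [Finite G] [IsSimpleGroup G] (hna : ¬ IsMulCommutative G)
    (h : ∀ g : G, g ≠ 1 → IsPrimePow (orderOf g)) :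
    Nonempty (G ≃* alternatingGroup (Fin 6)) ∨
    (∃ (F : Type) (_ : Field F) (_ : Fintype F), Fintype.card F ∈ ({4, 7, 8, 17} : Finset ℕ) ∧
      Nonempty (G ≃* Matrix.ProjectiveSpecialLinearGroup (Fin 2) F)) ∨
    (∃ (F : Type) (_ : Field F) (_ : Fintype F), Fintype.card F = 4 ∧
      Nonempty (G ≃* Matrix.ProjectiveSpecialLinearGroup (Fin 3) F)) ∨
    Cfsg.IsSuzuki G := by
  classical
  obtain ⟨hC, h2⟩ := cn_simple hna (eppo_cn h)
  rcases simple_cit hna hC h2 with ⟨F, iF, iFt, hF, ⟨e⟩⟩ | h34 | hSz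
  · set q := Fintype.card F with hq
    have hcard := CfsgLib.Classical.Dickson.gcd_mul_card_psl (F := F) hq.symm
    rw [← Nat.card_congr e.toEquiv] at hcard
    have hns : ¬ Group.IsSolvable G := fun hs => hna ⟨⟨IsSimpleGroup.comm_iff_isSolvable.2 hs⟩⟩
    have hq4 : 4 ≤ q := by
      have h1 : 1 < q := Fintype.one_lt_card
      by_contra hlt
      have hc : Nat.card G = 6 ∨ Nat.card G = 12 := by
        rcases (show q = 2 ∨ q = 3 by omega) with e2 | e2 <;> rw [e2] at hcard
        · rw [show Nat.gcd 2 (2 - 1) = 1 from rfl, one_mul] at hcard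
          exact Or.inl (by omega)
        · rw [show Nat.gcd 2 (3 - 1) = 2 from rfl] at hcard
          exact Or.inr (by omega)
      refine hns (CfsgLib.Recog.Sixty.isSolvable_of_dvd_sixty ?_ (by omega))
      rcases hc with e2 | e2 <;> rw [e2] <;> norm_num
    obtain ⟨p, hp⟩ := CharP.exists F
    haveI : Fact p.Prime := ⟨CharP.char_is_prime F p⟩
    have hrange := CfsgLib.Recog.PSLTwoOrders.range_orderOf (F := F) p hq4
    have hord : ∀ n, (n ∣ (q - 1) / Nat.gcd 2 (q - 1) ∨ n ∣ (q + 1) / Nat.gcd 2 (q - 1)) → n ≠ 1 →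
        IsPrimePow n := by
      intro n hn hn1
      obtain ⟨g, hg⟩ : n ∈ Set.range (orderOf : Matrix.ProjectiveSpecialLinearGroup (Fin 2) F → ℕ) :=
        hrange.ge (Or.inr hn)
      have hg1 : e.symm g ≠ 1 := fun e1 => hn1 (by
        rw [← hg, show g = 1 by simpa using congrArg e e1, orderOf_one])
      have := h _ hg1
      rwa [MulEquiv.orderOf_eq, hg] at this
    rcases hF with h9 | ⟨n, hn⟩ | ⟨hpr, k, hk⟩
    · obtain ⟨e'⟩ := CfsgLib.Classical.nonempty_psl_nine_equiv_alt (F := F) h9
      exact Or.inl ⟨e.trans e'⟩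
    · have hn2 : 2 ≤ n := by
        by_contra hlt
        interval_cases n <;> omega
      have hgcd : Nat.gcd 2 (q - 1) = 1 := by
        have : 2 ∣ 2 ^ n := dvd_pow_self 2 (by omega)
        rw [Nat.gcd_rec]
        have h1 : (q - 1) % 2 = 1 := by omega
        rw [h1]; rfl
      rw [hgcd, Nat.div_one, Nat.div_one] at hord
      have hn23 : n = 2 ∨ n = 3 := by
        rcases Nat.even_or_odd n with he | ho
        · obtain ⟨a, ha, ha'⟩ := eq_three_pow (hord (q - 1) (Or.inl dvd_rfl) (by omega))
            (hn ▸ (three_dvd_two_pow n).1 he)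
          exact Or.inl ((two_pow_eq_three_pow ha).2 (by omega))
        · obtain ⟨a, ha, ha'⟩ := eq_three_pow (hord (q + 1) (Or.inr dvd_rfl) (by omega))
            (hn ▸ (three_dvd_two_pow n).2 ho)
          rcases (two_pow_eq_three_pow (k := n) ha).1 (by omega) with h1 | h1
          · omega
          · exact Or.inr h1
      refine Or.inr (Or.inl ⟨F, iF, iFt, ?_, ⟨e⟩⟩)
      rw [← hq, hn]
      rcases hn23 with rfl | rfl <;> decide
    · have hodd : q % 2 = 1 := by
        rcases hpr.eq_two_or_odd with h' | h' <;> omega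
      have hgcd : Nat.gcd 2 (q - 1) = 2 := Nat.gcd_eq_left (by omega)
      rw [hgcd] at hord
      have h3 : ¬ 3 ∣ q := fun h3 => by
        have := (Nat.prime_dvd_prime_iff_eq Nat.prime_three hpr).1 h3
        omega
      have hq' : q = 5 ∨ q = 7 ∨ q = 17 := by
        rcases k with _ | k
        · simp at hk; omega
        rcases hk with hk | hk
        · -- Fermat
          rcases Nat.even_or_odd (k + 1) with he | ho
          · have hko : Odd k := by
              rw [Nat.even_add_one] at he
              exact Nat.not_even_iff_odd.1 he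
            have h31 := (three_dvd_two_pow k).2 hko
            rw [pow_succ] at hk
            obtain ⟨a, ha, ha'⟩ := eq_three_pow (hord _ (Or.inr dvd_rfl) (by omega))
              (show 3 ∣ (q + 1) / 2 by rwa [show (q + 1) / 2 = 2 ^ k + 1 by omega])
            rcases (two_pow_eq_three_pow (k := k) ha).1 (by omega) with rfl | rfl <;> omega
          · exact absurd (hk ▸ (three_dvd_two_pow (k + 1)).2 ho) h3
        · -- Mersenne
          rcases Nat.even_or_odd (k + 1) with he | ho
          · exact absurd (by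
              have := (three_dvd_two_pow (k + 1)).1 he
              rwa [← hk, Nat.add_sub_cancel] at this) h3
          · have hke : Even k := by
              rw [Nat.odd_add_one] at ho
              exact Nat.not_odd_iff_even.1 ho
            have h31 := (three_dvd_two_pow k).1 hke
            rw [pow_succ] at hk
            obtain ⟨a, ha, ha'⟩ := eq_three_pow (hord _ (Or.inl dvd_rfl) (by omega))
              (show 3 ∣ (q - 1) / 2 by rwa [show (q - 1) / 2 = 2 ^ k - 1 by omega])
            have h1 := (two_pow_eq_three_pow (k := k) ha).2 (by omega)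
            subst h1
            omega
      rcases hq' with h5 | h7 | h17
      · -- `PSL(2, 5) ≅ PSL(2, 4)`
        haveI : Fact (Nat.Prime 2) := ⟨Nat.prime_two⟩
        letI : Fintype (GaloisField 2 2) := Fintype.ofFinite _
        have h4 : Fintype.card (GaloisField 2 2) = 4 := by
          rw [← Nat.card_eq_fintype_card, GaloisField.card 2 2 two_ne_zero]; norm_num
        refine Or.inr (Or.inl ⟨GaloisField 2 2, inferInstance, inferInstance, by rw [h4]; decide, ?_⟩)
        haveI := CfsgLib.Classical.isSimpleGroup_PSL_two (F := GaloisField 2 2) h4.ge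
        have hc4 := CfsgLib.Classical.Dickson.gcd_mul_card_psl (F := GaloisField 2 2) h4
        rw [h5] at hcard
        rw [show Nat.gcd 2 (5 - 1) = 2 from rfl] at hcard
        rw [show Nat.gcd 2 (4 - 1) = 1 from rfl, one_mul] at hc4
        obtain ⟨e1⟩ := CfsgLib.Recog.Sixty.iso_alt_five (G := G) (by omega)
        obtain ⟨e2⟩ := CfsgLib.Recog.Sixty.iso_alt_five
          (G := Matrix.ProjectiveSpecialLinearGroup (Fin 2) (GaloisField 2 2)) (by omega)
        exact ⟨e1.trans e2.symm⟩
      all_goals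
        refine Or.inr (Or.inl ⟨F, iF, iFt, ?_, ⟨e⟩⟩)
      · rw [← hq, h7]; decide
      · rw [← hq, h17]; decide
  · exact Or.inr (Or.inr (Or.inl h34))
  · exact Or.inr (Or.inr (Or.inr hSz))

end CfsgLib.CIT
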