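import Cfsg.Agent.Lib.CIT.SimpleTI
import Cfsg.Agent.Lib.TwoGroups.RankTwoMaxClass
import Cfsg.Agent.Lib.TwoGroups.DihedralFusion
import Cfsg.Agent.Lib.TwoGroups.SemiDihedralFusion
import Cfsg.Agent.S0508
import Cfsg.Agent.Lib.ZStar.Main

/-!
# Simple CIT groups with two parabolics over four-groups: `PSL(2, q)` with dihedral Sylow 2-subgroups
-/

set_option autoImplicit false
set_option linter.all false

namespace CfsgLib.CIT

open Subgroup
open CfsgLib.Signalizer (involution_sq involution_inv orderOf_eq_two_of orderOf_conj)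

variable {G : Type*} [Group G] [Finite G] [IsSimpleGroup G]

theorem simple_no_index_two (hna : ¬ IsMulCommutative G) : ∀ H : Subgroup G, H.index ≠ 2 := by
  intro H hH
  rcases (Subgroup.normal_of_index_eq_two hH).eq_bot_or_eq_top with e | e
  · rw [e, index_bot] at hH
    haveI : Fact (Nat.Prime 2) := ⟨Nat.prime_two⟩
    haveI := isCyclic_of_prime_card hH
    letI := IsCyclic.commGroup (α := G)
    exact hna ⟨⟨mul_comm⟩⟩
  · rw [e, index_top] at hH; omega

theorem simple_semidihedral_false (hna : ¬ IsMulCommutative G) (hC : CIT G) {S : Sylow 2 G}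
    (hQ : Cfsg.IsQuasiDihedral (S : Subgroup G)) : False := by
  classical
  haveI : Fact (Nat.Prime 2) := ⟨Nat.prime_two⟩
  obtain ⟨m, f, hf, hfS⟩ := CfsgLib.TwoGroups.SemiDihedral.exists_model hQ
  set z₁ := f (CfsgLib.TwoGroups.SemiDihedral.rot (CfsgLib.TwoGroups.SemiDihedral.h m)) with hz₁
  have hz1o : orderOf z₁ = 2 := by
    rw [hz₁, orderOf_injective f hf]
    exact (CfsgLib.TwoGroups.SemiDihedral.orderOf_eq_two_iff _).2 (Or.inl rfl)
  have hfus := CfsgLib.TwoGroups.SemiDihedral.fourFused_of_no_index_two hf hfS (simple_no_index_two hna)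
  have h6 := CfsgLib.TwoGroups.SemiDihedral.quat_six hf hfS hfus 0
  set Q := (CfsgLib.TwoGroups.SemiDihedral.eight (2 * (0 : ZMod (2 ^ (m + 3))) + 1)).map f with hQdef
  have hN : normalizer (Q : Set G) ≤ centralizer ({z₁} : Set G) := by
    intro g hg
    have hzQ : z₁ ∈ Q := mem_map_of_mem f (CfsgLib.TwoGroups.SemiDihedral.rot_mem_lev.2 (by
      rw [pow_two, mul_assoc, CfsgLib.TwoGroups.SemiDihedral.two_mul_h, mul_zero]))
    obtain ⟨w, hw, hwz⟩ := mem_map.1 ((mem_normalizer_iff.1 hg z₁).1 hzQ)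
    have hw2 : orderOf w = 2 := by
      rw [← orderOf_injective f hf, hwz]
      exact (orderOf_conj g z₁).trans hz1o
    rcases (CfsgLib.TwoGroups.SemiDihedral.orderOf_eq_two_iff w).1 hw2 with rfl | ⟨c, rfl⟩
    · refine mem_centralizer_singleton_iff.2 ?_
      rw [← hz₁, eq_mul_inv_iff_mul_eq] at hwz
      exact hwz.symm
    · exfalso
      have h1 := CfsgLib.TwoGroups.SemiDihedral.ref_mem_lev.1 hw
      have h4 : (CfsgLib.TwoGroups.SemiDihedral.h m) = (2 : ZMod (2 ^ (m + 3))) ^ (m + 2) := by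
        show ((2 ^ (m + 3 - 1) : ℕ) : ZMod (2 ^ (m + 3))) = _
        push_cast; rfl
      refine CfsgLib.TwoGroups.SemiDihedral.h_ne (m := m) ?_
      have h5 : CfsgLib.TwoGroups.SemiDihedral.h m * (2 * c - (2 * 0 + 1)) = 0 := by
        rw [h4]
        linear_combination ((2 : ZMod (2 ^ (m + 3))) ^ m) * h1
      linear_combination -h5 + c * (CfsgLib.TwoGroups.SemiDihedral.two_mul_h (m := m))
  have hp2 : IsPGroup 2 (normalizer (Q : Set G)) := (hC z₁ hz1o).to_le hN
  obtain ⟨i, hi⟩ := IsPGroup.iff_card.1 hp2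
  have h3 : 6 ∣ 2 ^ i := hi ▸ h6 ▸ Subgroup.relIndex_dvd_card _ _
  exact absurd (Nat.prime_three.dvd_of_dvd_pow ((show 3 ∣ 6 by norm_num).trans h3)) (by norm_num)

theorem simple_dihedral (hna : ¬ IsMulCommutative G) (hC : CIT G) {S : Sylow 2 G} {k : ℕ} (hk : 2 ≤ k)
    (e : (S : Subgroup G) ≃* DihedralGroup k) : IsPSLTwoCIT G := by
  classical
  obtain ⟨n, f, hn, -, hf, hfS⟩ := CfsgLib.TwoGroups.Dihedral.exists_model (S := S) hk e
  set t := f (DihedralGroup.r (CfsgLib.TwoGroups.half n)) with htdef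
  have ht : orderOf t = 2 := CfsgLib.TwoGroups.Dihedral.orderOf_half hf hn
  have htS : t ∈ (S : Subgroup G) := hfS ▸ ⟨_, rfl⟩
  have htc : ∀ s ∈ (S : Subgroup G), s * t = t * s := by
    rw [← hfS]
    rintro _ ⟨u, rfl⟩
    rw [htdef, ← map_mul, ← map_mul]
    congr 1
    rcases u with i | i
    · rw [DihedralGroup.r_mul_r, DihedralGroup.r_mul_r, add_comm]
    · rw [DihedralGroup.sr_mul_r, DihedralGroup.r_mul_sr, sub_eq_add_neg, CfsgLib.TwoGroups.neg_half hn]
  have hO : Cfsg.oddCore (centralizer ({t} : Set G)) = ⊥ := by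
    rw [eq_bot_iff_forall]
    intro x hx
    refine Subtype.ext (eq_one_of_odd_of_pGroup (hC t ht) x.2 ?_)
    rw [orderOf_coe]
    exact Odd.of_dvd_nat (CfsgLib.ZStar.odd_card_oddCore _) ((Cfsg.oddCore _).orderOf_dvd_natCard hx)
  have eS : (S : Subgroup G) ≃* DihedralGroup (2 ^ n) :=
    ((MonoidHom.ofInjective hf).trans (MulEquiv.subgroupCongr hfS)).symm
  obtain ⟨F, iF, iFt, -, ⟨e'⟩⟩ := Cfsg.Agent.S0508.result S (2 ^ n) (Nat.le_self_pow (by omega) 2) ⟨eS⟩ t ht
    htS htc ⊥ (by rw [hO, Subgroup.map_bot]) (fun h => absurd rfl h)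
    (fun s _ hs => absurd (mem_centralizer_iff.2 fun y hy => by
      rw [SetLike.mem_coe, mem_bot] at hy
      rw [hy, one_mul, mul_one]) hs)
    (fun Y hY hY1 => absurd (le_bot_iff.1 hY) hY1)
  exact isPSLTwoCIT_of_equiv hC e'

/-- A four-group `W` with `C(W) = W` in a simple CIT group. -/
theorem simple_four_selfcentralizing (hna : ¬ IsMulCommutative G) (hC : CIT G) {W : Subgroup G}
    (hW : Cfsg.IsElementaryAbelian 2 W) (hW4 : Nat.card W = 4) (hCW : centralizer (W : Set G) ≤ W) :
    IsPSLTwoCIT G := by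
  classical
  haveI : Fact (Nat.Prime 2) := ⟨Nat.prime_two⟩
  have hWp : IsPGroup 2 W := IsPGroup.of_card (n := 2) (by rw [hW4]; norm_num)
  obtain ⟨S0, hS, hWS⟩ := exists_isSyl (le_top : W ≤ ⊤) hWp
  let S : Sylow 2 G := ⟨S0, hS.2.1, fun {Q} hQ hle => hS.2.2 Q hle le_top hQ⟩
  haveI : Nontrivial S0 := (nontrivial_iff_ne_bot S0).2 fun h => by
    rw [h, le_bot_iff] at hWS
    rw [hWS, card_bot] at hW4
    omega
  haveI := hS.2.1.center_nontrivial
  obtain ⟨n, hn⟩ := (hS.2.1.to_subgroup (center S0)).exists_card_eq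
  have hc1 : 1 < Nat.card (center S0) := Finite.one_lt_card
  obtain ⟨u0, hu0⟩ := exists_prime_orderOf_dvd_card' 2
    (show 2 ∣ Nat.card (center S0) by rw [hn] at hc1 ⊢; exact dvd_pow_self 2 fun h0 => by rw [h0] at hc1; simp at hc1)
  set z : S0 := (u0 : S0) with hzdef
  have hzc : z ∈ center S0 := u0.2
  have hzo : orderOf z = 2 := by rw [hzdef, orderOf_coe, hu0]
  have hzW : (z : G) ∈ W := hCW (mem_centralizer_iff.2 fun w hw =>
    congrArg Subtype.val (mem_center_iff.1 hzc ⟨w, hWS hw⟩))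
  obtain ⟨v, hvW, hv1, hvz⟩ : ∃ v ∈ W, v ≠ 1 ∧ v ≠ (z : G) := by
    by_contra hno
    push Not at hno
    have hle : (W : Set G).ncard ≤ 2 := by
      refine (Set.ncard_le_ncard (t := {1, (z : G)}) (fun w hw => ?_) (Set.toFinite _)).trans
        ((Set.ncard_insert_le _ _).trans (by simp))
      by_cases h1 : w = 1
      · exact Or.inl h1
      · exact Or.inr (hno w hw h1)
    rw [← Nat.card_coe_set_eq] at hle
    change Nat.card W ≤ 2 at hle
    omega
  have hzG : orderOf (z : G) = 2 := by rwa [orderOf_coe]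
  have hv2 : v * v = 1 := sq_of_elementary hW hvW
  have hz2 := involution_sq hzG
  have hgen : ∀ w ∈ W, w = 1 ∨ w = v ∨ w = (z : G) ∨ w = v * z := by
    intro w hw
    by_contra hno
    push Not at hno
    have hvz1 : v * (z : G) ≠ 1 := fun h => hvz (by rw [eq_inv_of_mul_eq_one_left h, involution_inv hzG])
    have hsub : ({1, v, (z : G), v * z, w} : Finset G) ⊆ (Set.toFinite (W : Set G)).toFinset := by
      intro x hx
      simp only [Finset.mem_insert, Finset.mem_singleton] at hx
      rw [Set.Finite.mem_toFinset]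
      rcases hx with rfl | rfl | rfl | rfl | rfl
      exacts [one_mem W, hvW, hzW, mul_mem hvW hzW, hw]
    have hc5 : ({1, v, (z : G), v * z, w} : Finset G).card = 5 := by
      have hz1 := Signalizer.involution_ne_one hzG
      have e1 : v ≠ v * (z : G) := fun h => hz1 (left_eq_mul.1 h)
      have e2 : (z : G) ≠ v * z := fun h => hv1 (right_eq_mul.1 h)
      rw [Finset.card_insert_of_notMem, Finset.card_insert_of_notMem, Finset.card_insert_of_notMem,
        Finset.card_insert_of_notMem, Finset.card_singleton]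
      · simp [Ne.symm hno.2.2.2]
      · simp [e2, Ne.symm hno.2.2.1]
      · simp [hvz, e1, Ne.symm hno.2.1]
      · simp [Ne.symm hv1, Ne.symm hz1, Ne.symm hvz1, Ne.symm hno.1]
    have := Finset.card_le_card hsub
    rw [hc5, ← Set.ncard_eq_toFinset_card, ← Nat.card_coe_set_eq] at this
    change 5 ≤ Nat.card W at this
    omega
  set vS : S0 := ⟨v, hWS hvW⟩ with hvS
  have hcent : centralizer ({vS} : Set S0) = W.subgroupOf S0 := by
    ext s
    rw [mem_centralizer_singleton_iff, mem_subgroupOf]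
    constructor
    · intro h
      refine hCW (mem_centralizer_iff.2 fun w hw => ?_)
      have h1 : Commute (s : G) v := congrArg Subtype.val h
      have h2 : Commute (s : G) (z : G) := congrArg Subtype.val (mem_center_iff.1 hzc s)
      rcases hgen w hw with e | e | e | e <;> rw [e]
      · simp
      · exact h1.eq.symm
      · exact h2.eq.symm
      · exact (h1.mul_right h2).eq.symm
    · exact fun h => Subtype.ext (comm_of_elementary hW h hvW)
  have hc4 : Nat.card (centralizer ({vS} : Set S0)) = 4 := by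
    rw [hcent, Nat.card_congr (subgroupOfEquivOfLe hWS).toEquiv, hW4]
  rcases CfsgLib.TwoGroups.RankTwoTypes.isDihOrQD_of_centralizer_four hS.2.1 hzc hzo
    (show orderOf vS = 2 by rw [hvS, Subgroup.orderOf_mk]; exact orderOf_eq_two_of hv1 hv2)
    (fun h => hvz (congrArg Subtype.val h).symm) hc4 with ⟨m, hm, ⟨e⟩⟩ | hQ
  · exact simple_dihedral (S := S) hna hC hm e
  · exact (simple_semidihedral_false (S := S) hna hC hQ).elim

/-- A pair of parabolics with `q = 2`. -/
theorem simple_pair_two (hna : ¬ IsMulCommutative G) (hC : CIT G) {T W A : Subgroup G} (h : Pair T W A 2) :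
    IsPSLTwoCIT G := by
  have hWel := h.right.maxA.2.1
  have hW4 : Nat.card W = 4 := h.right.card_A
  refine simple_four_selfcentralizing hna hC hWel hW4 ?_
  obtain ⟨w, hw, hw1⟩ := W.bot_or_exists_ne_one.resolve_left (fun h0 => by rw [h0, card_bot] at hW4; omega)
  have hsub : centralizer (W : Set G) ≤ normalizer (W : Set G) := by
    intro c hc
    rw [mem_normalizer_iff]
    intro y
    constructor
    · intro hy
      rwa [← mem_centralizer_iff.1 hc y hy, mul_inv_cancel_right]
    · intro hy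
      have h1 := mem_centralizer_iff.1 (inv_mem hc) _ hy
      rwa [show y = c⁻¹ * (c * y * c⁻¹) * c by group, ← h1, inv_mul_cancel_right]
  have hp : IsPGroup 2 (centralizer (W : Set G)) :=
    (hC w (orderOf_eq_two_of hw1 (sq_of_elementary hWel hw))).to_le
      (centralizer_le (Set.singleton_subset_iff.2 hw))
  refine (le_core hp hsub ?_).trans h.core_left.le
  intro g hg
  rw [mem_normalizer_iff]
  have key : ∀ g ∈ normalizer (W : Set G), ∀ c ∈ centralizer (W : Set G), g * c * g⁻¹ ∈ centralizer (W : Set G) := by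
    intro g hg c hc
    refine mem_centralizer_iff.2 fun y hy => ?_
    have hy' : g⁻¹ * y * g ∈ W := by simpa using (mem_normalizer_iff''.1 hg y).1 hy
    calc y * (g * c * g⁻¹) = g * ((g⁻¹ * y * g) * c) * g⁻¹ := by group
      _ = g * (c * (g⁻¹ * y * g)) * g⁻¹ := by rw [mem_centralizer_iff.1 hc _ hy']
      _ = g * c * g⁻¹ * y := by group
  refine fun c => ⟨key g hg c, fun hc => ?_⟩
  have := key g⁻¹ (inv_mem hg) _ hc
  simpa [mul_assoc] using this

end CfsgLib.CIT
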