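import Cfsg.Agent.Lib.CIT.Torus
import Cfsg.Agent.Lib.CIT.RankTwo
import Cfsg.Agent.Lib.Transfer.ThompsonTransfer

/-!
# Simple CIT groups with two parabolics over fields of four elements: the Sylow subgroup and the incidences
-/

set_option autoImplicit false
set_option linter.all false

namespace CfsgLib.CIT

open Subgroup
open CfsgLib.Signalizer (involution_sq involution_inv orderOf_eq_two_of orderOf_conj)

variable {G : Type*} [Group G] [Finite G]

theorem Pair.centralizer_left (hC : CIT G) {T W A : Subgroup G} {q : ℕ} (h : Pair T W A q) :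
    centralizer (W : Set G) ≤ W := by
  have hWel := h.right.maxA.2.1
  obtain ⟨w, hw, hw1⟩ := W.bot_or_exists_ne_one.resolve_left (fun h0 => by
    have := h.right.card_A
    rw [h0, card_bot] at this
    nlinarith [h.left.one_lt])
  have hsub : centralizer (W : Set G) ≤ normalizer (W : Set G) := by
    intro c hc
    rw [mem_normalizer_iff]
    intro y
    constructor
    · intro hy
      rwa [← mem_centralizer_iff.1 hc y hy, mul_inv_cancel_right]
    · intro hy
      have h1 := mem_centralizer_iff.1 (inv_mem hc) _ hy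
      rwa [show y = c⁻¹ * (c * y * c⁻¹) * c by group, ← h1, inv_mul_cancel_right]
  have hp : IsPGroup 2 (centralizer (W : Set G)) :=
    (hC w (orderOf_eq_two_of hw1 (sq_of_elementary hWel hw))).to_le
      (centralizer_le (Set.singleton_subset_iff.2 hw))
  refine (le_core hp hsub ?_).trans h.core_left.le
  intro g hg
  rw [mem_normalizer_iff]
  have key : ∀ g ∈ normalizer (W : Set G), ∀ c ∈ centralizer (W : Set G), g * c * g⁻¹ ∈ centralizer (W : Set G) := by
    intro g hg c hc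
    refine mem_centralizer_iff.2 fun y hy => ?_
    have hy' : g⁻¹ * y * g ∈ W := by simpa using (mem_normalizer_iff''.1 hg y).1 hy
    calc y * (g * c * g⁻¹) = g * ((g⁻¹ * y * g) * c) * g⁻¹ := by group
      _ = g * (c * (g⁻¹ * y * g)) * g⁻¹ := by rw [mem_centralizer_iff.1 hc _ hy']
      _ = g * c * g⁻¹ * y := by group
  refine fun c => ⟨key g hg c, fun hc => ?_⟩
  have := key g⁻¹ (inv_mem hg) _ hc
  simpa [mul_assoc] using this

theorem Pair.ne_pair {T W A : Subgroup G} {q : ℕ} (h : Pair T W A q) : W ≠ A := by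
  intro e
  have := h.card_inter
  rw [← e, inf_idem, h.right.card_A] at this
  nlinarith [h.left.one_lt]

/-- Elements normalising `T` permute `W` and `A`. -/
theorem Pair.cj_left {T W A : Subgroup G} {q : ℕ} (h : Pair T W A q) {s : G} (hs : cj s T = T) :
    cj s W = W ∨ cj s W = A := by
  have hle : cj s W ≤ T := (cj_mono h.le_T.1).trans hs.le
  rcases h.elementary_le hle (isElementaryAbelian_cj h.right.maxA.2.1) with e | e
  · exact Or.inl (eq_of_le_of_card_ge e (card_cj _ _).ge)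
  · exact Or.inr (eq_of_le_of_card_ge e (by rw [card_cj, h.left.card_A, h.right.card_A]))

/-- With four-element fields `T` is a Sylow subgroup of a simple group. -/
theorem Pair.sylow_of_simple [IsSimpleGroup G] (hna : ¬ IsMulCommutative G) (hC : CIT G) (hL : LocalTI G)
    {T W A : Subgroup G} (h : Pair T W A 4) : IsSyl T ⊤ := by
  classical
  haveI : Fact (Nat.Prime 2) := ⟨Nat.prime_two⟩
  haveI : Fact (Nat.Prime 3) := ⟨Nat.prime_three⟩
  by_contra hns
  have hTp := h.left.syl.2.1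
  have hAel := h.left.maxA.2.1
  have hWel := h.right.maxA.2.1
  have hWT := h.le_T.1
  have hAT := h.le_T.2
  obtain ⟨S, hS, hTS⟩ := exists_isSyl (le_top : T ≤ ⊤) hTp
  obtain ⟨s, hsS, hsT, hsn⟩ := exists_normalizing hS.2.1 (lt_of_le_of_ne hTS fun e => hns (e ▸ hS))
  have houter : ∀ x ∈ S, cj x T = T → x ∉ T → cj x W = A ∧ cj x A = W := by
    intro x hxS hxT hxn
    have hxW : cj x W = A := (h.cj_left hxT).resolve_left fun e => by
      obtain ⟨k, hk⟩ := hS.2.1 ⟨x, hxS⟩
      exact hxn (h.mem_T_of_pow_two (mem_normalizer_iff_cj.2 e) hxT (k := k) (congrArg Subtype.val hk))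
    refine ⟨hxW, ?_⟩
    rcases h.symm.cj_left hxT with e | e
    · exfalso
      have : cj x⁻¹ A = W := by rw [← hxW, cj_inv_cj]
      have h2 : cj x⁻¹ A = A := by conv_lhs => rw [← e, cj_inv_cj]
      exact h.ne_pair (this.symm.trans h2)
    · exact e
  obtain ⟨hsW, hsA⟩ := houter s hsS (mem_normalizer_iff_cj.1 hsn) hsT
  have hs2T : s * s ∈ T := by
    by_contra hno
    have h1 := houter (s * s) (mul_mem hsS hsS) (by rw [cj_mul, mem_normalizer_iff_cj.1 hsn,
      mem_normalizer_iff_cj.1 hsn]) hno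
    rw [cj_mul, hsW, hsA] at h1
    exact h.ne_pair h1.1
  -- an element of odd order acting on `Z`
  obtain ⟨z1, hz1, hz11⟩ := (A ⊓ W).bot_or_exists_ne_one.resolve_left (fun e => by
    have := h.card_inter
    rw [e, card_bot] at this
    omega)
  obtain ⟨z2, hz2, hz21, hz2ne⟩ : ∃ w ∈ A ⊓ W, w ≠ 1 ∧ w ≠ z1 := by
    by_contra hno
    push Not at hno
    have hle : ((A ⊓ W : Subgroup G) : Set G).ncard ≤ 2 := by
      refine (Set.ncard_le_ncard (t := {1, z1}) (fun w hw => ?_) (Set.toFinite _)).trans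
        ((Set.ncard_insert_le _ _).trans (by simp))
      by_cases h1 : w = 1
      · exact Or.inl h1
      · exact Or.inr (hno w hw h1)
    rw [← Nat.card_coe_set_eq] at hle
    change Nat.card (A ⊓ W : Subgroup G) ≤ 2 at hle
    rw [h.card_inter] at hle
    omega
  obtain ⟨d, hd, hdT, hdz⟩ := h.exists_conj_inter hC hz1 hz11 hz2 hz21
  set N0 : Subgroup G := normalizer (W : Set G) ⊓ normalizer (T : Set G) with hN0
  have hdN : d ∈ N0 := mem_inf.2 ⟨hd, mem_normalizer_iff_cj.2 hdT⟩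
  have hdT' : d ∉ T := fun e => hz2ne (by rw [← hdz, h.inter_central hz1.1 hz1.2 e, mul_inv_cancel_right])
  obtain ⟨k, m, hm, hdm⟩ := Nat.exists_eq_two_pow_mul_odd (orderOf_pos d).ne'
  set y := d ^ 2 ^ k with hy
  have hyodd : Odd (orderOf y) := by
    rw [hy, orderOf_pow_of_dvd (pow_ne_zero _ two_ne_zero) (hdm ▸ dvd_mul_right _ _), hdm,
      Nat.mul_div_cancel_left _ (pow_pos two_pos k)]
    exact hm
  have hy1 : y ≠ 1 := fun e => hdT' (h.mem_T_of_pow_two hd hdT e)
  have hyN : y ∈ N0 := pow_mem hdN _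
  have hconjZ : ∀ {x}, x ∈ N0 → ∀ w ∈ A ⊓ W, x * w * x⁻¹ ∈ A ⊓ W := fun {x} hx w hw =>
    mem_inf.2 ⟨(h.normalizer_le hx.1 (mem_normalizer_iff_cj.1 hx.2)).le (conj_mem_cj.2 hw.1),
      (mem_normalizer_iff.1 hx.1 w).1 hw.2⟩
  have hfixT : ∀ {x}, x ∈ N0 → ∀ w ∈ A ⊓ W, w ≠ 1 → x * w * x⁻¹ = w → x ∈ T := by
    intro x hx w hw hw1 he
    rw [← h.centralizer_inter hC hw.1 hw.2 hw1]
    exact mem_inf.2 ⟨hx.1, mem_centralizer_singleton_iff.2 (mul_inv_eq_iff_eq_mul.1 he)⟩
  have hnotT : ∀ {x}, x ∈ zpowers y → x ≠ 1 → x ∉ T := fun {x} hx hx1 e =>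
    hx1 (eq_one_of_odd_of_pGroup hTp e (Odd.of_dvd_nat hyodd (orderOf_dvd_of_mem_zpowers hx)))
  -- `s` normalises `N0`
  have hsN0 : ∀ x ∈ N0, s * x * s⁻¹ ∈ N0 := by
    intro x hx
    have hxA := h.normalizer_le hx.1 (mem_normalizer_iff_cj.1 hx.2)
    refine mem_inf.2 ⟨mem_normalizer_iff_cj.2 ?_, mul_mem (mul_mem hsn hx.2) (inv_mem hsn)⟩
    rw [cj_mul, cj_mul, show cj s⁻¹ W = A by
      conv_lhs => rw [← hsA]
      rw [cj_inv_cj], hxA, hsA]
  -- the conjugates of an element of odd order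
  have hyy : ∀ w ∈ A ⊓ W, w ≠ 1 → ∀ u ∈ A ⊓ W, u ≠ 1 → u = w ∨ u = y * w * y⁻¹ ∨ u = y⁻¹ * w * y := by
    intro w hw hw1 u hu hu1
    by_contra hno
    push Not at hno
    have hy' : y⁻¹ * w * y ∈ A ⊓ W := by
      have := hconjZ (inv_mem hyN) w hw
      rwa [inv_inv] at this
    have hne1 : y * w * y⁻¹ ≠ 1 := fun e => hw1 (conj_eq_one_iff.1 e)
    have hne2 : y⁻¹ * w * y ≠ 1 := fun e => hw1 (by
      have := conj_eq_one_iff.1 (show y⁻¹ * w * y⁻¹⁻¹ = 1 by rwa [inv_inv])
      exact this)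
    have hnw1 : y * w * y⁻¹ ≠ w := fun e => hnotT (mem_zpowers y) hy1 (hfixT hyN w hw hw1 e)
    have hnw2 : y⁻¹ * w * y ≠ w := fun e => hnw1 (by
      conv_lhs => rw [← e]
      group)
    have hne3 : y * w * y⁻¹ ≠ y⁻¹ * w * y := fun e => by
      have h2 : (y * y) * w * (y * y)⁻¹ = w := by
        calc (y * y) * w * (y * y)⁻¹ = y * (y * w * y⁻¹) * y⁻¹ := by group
          _ = w := by rw [e]; group
      refine hnotT (mul_mem (mem_zpowers y) (mem_zpowers y)) (fun e1 => ?_) (hfixT (mul_mem hyN hyN) w hw hw1 h2)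
      have h2 : orderOf y ∣ 2 := orderOf_dvd_of_pow_eq_one (by rwa [pow_two])
      rcases (Nat.dvd_prime Nat.prime_two).1 h2 with h0 | h0
      · exact hy1 (orderOf_eq_one_iff.1 h0)
      · rw [h0] at hyodd; exact absurd hyodd (by decide)
    have hsub : ({1, w, y * w * y⁻¹, y⁻¹ * w * y, u} : Finset G) ⊆
        (Set.toFinite ((A ⊓ W : Subgroup G) : Set G)).toFinset := by
      intro x hx
      simp only [Finset.mem_insert, Finset.mem_singleton] at hx
      rw [Set.Finite.mem_toFinset]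
      rcases hx with rfl | rfl | rfl | rfl | rfl
      exacts [one_mem _, hw, hconjZ hyN w hw, hy', hu]
    have hc5 : ({1, w, y * w * y⁻¹, y⁻¹ * w * y, u} : Finset G).card = 5 := by
      rw [Finset.card_insert_of_notMem, Finset.card_insert_of_notMem, Finset.card_insert_of_notMem,
        Finset.card_insert_of_notMem, Finset.card_singleton]
      · simpa using Ne.symm hno.2.2
      · simp only [Finset.mem_insert, Finset.mem_singleton, not_or]
        exact ⟨hne3, Ne.symm hno.2.1⟩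
      · simp only [Finset.mem_insert, Finset.mem_singleton, not_or]
        exact ⟨Ne.symm hnw1, Ne.symm hnw2, Ne.symm hno.1⟩
      · simp only [Finset.mem_insert, Finset.mem_singleton, not_or]
        exact ⟨Ne.symm hw1, Ne.symm hne1, Ne.symm hne2, Ne.symm hu1⟩
    have := Finset.card_le_card hsub
    rw [hc5, ← Set.ncard_eq_toFinset_card, ← Nat.card_coe_set_eq] at this
    change 5 ≤ Nat.card (A ⊓ W : Subgroup G) at this
    rw [h.card_inter] at this
    omega
  -- an outer involution inverting `y`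
  have hysy := hsN0 y hyN
  have hexp : ∃ e ∈ ({y, y⁻¹} : Set G), e * (s * y * s⁻¹) ∈ T := by
    have hu1 : (s * y * s⁻¹) * z1 * (s * y * s⁻¹)⁻¹ ≠ 1 := fun e => hz11 (conj_eq_one_iff.1 e)
    rcases hyy z1 hz1 hz11 _ (hconjZ hysy z1 hz1) hu1 with e | e | e
    · exfalso
      have h1 := hfixT hysy z1 hz1 hz11 e
      have h2 : y ∈ cj s⁻¹ T := by rw [mem_cj, inv_inv]; exact h1
      rw [mem_normalizer_iff_cj.1 (inv_mem hsn)] at h2
      exact hnotT (mem_zpowers y) hy1 h2
    · refine ⟨y⁻¹, Or.inr rfl, hfixT (mul_mem (inv_mem hyN) hysy) z1 hz1 hz11 ?_⟩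
      calc y⁻¹ * (s * y * s⁻¹) * z1 * (y⁻¹ * (s * y * s⁻¹))⁻¹
          = y⁻¹ * ((s * y * s⁻¹) * z1 * (s * y * s⁻¹)⁻¹) * y := by group
        _ = z1 := by rw [e]; group
    · refine ⟨y, Or.inl rfl, hfixT (mul_mem hyN hysy) z1 hz1 hz11 ?_⟩
      calc y * (s * y * s⁻¹) * z1 * (y * (s * y * s⁻¹))⁻¹
          = y * ((s * y * s⁻¹) * z1 * (s * y * s⁻¹)⁻¹) * y⁻¹ := by group
        _ = z1 := by rw [e]; group
  obtain ⟨e, he, heT⟩ := hexp
  have heN : e ∈ N0 := by
    rcases he with rfl | rfl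
    exacts [hyN, inv_mem hyN]
  have heodd : Odd (orderOf e) := by
    rcases he with rfl | rfl
    exacts [hyodd, by rwa [orderOf_inv]]
  have he1 : e ≠ 1 := by
    rcases he with rfl | rfl
    exacts [hy1, inv_ne_one.2 hy1]
  obtain ⟨r, hr, hre⟩ := hC.exists_conj_coset hTp heodd he1 heN.2 heT
  set s' := r⁻¹ * s with hs'
  have hs'S : s' ∈ S := mul_mem (inv_mem (hTS hr)) hsS
  have hs'T : s' ∉ T := fun e0 => hsT (by
    have := mul_mem hr e0
    rwa [hs', mul_inv_cancel_left] at this)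
  have hs'n : cj s' T = T := mem_normalizer_iff_cj.1 (mul_mem (inv_mem (le_normalizer hr)) hsn)
  have hs'y : s' * y * s'⁻¹ = e⁻¹ := by
    rw [hs', show r⁻¹ * s * y * (r⁻¹ * s)⁻¹ = r⁻¹ * (s * y * s⁻¹) * r by group, hre]; group
  obtain ⟨hsW', hsA'⟩ := houter s' hs'S hs'n hs'T
  have hs'2 : s' * s' ∈ T := by
    by_contra hno
    have h1 := houter (s' * s') (mul_mem hs'S hs'S) (by rw [cj_mul, hs'n, hs'n]) hno
    rw [cj_mul, hsW', hsA'] at h1
    exact h.ne_pair h1.1
  have hcomm2 : y * (s' * s') = s' * s' * y := by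
    have h1 : s' * s' * y * (s' * s')⁻¹ = y := by
      rw [show s' * s' * y * (s' * s')⁻¹ = s' * (s' * y * s'⁻¹) * s'⁻¹ by group, hs'y]
      rcases he with e0 | e0 <;> rw [e0] at hs'y ⊢
      · rw [show s' * y⁻¹ * s'⁻¹ = (s' * y * s'⁻¹)⁻¹ by group, hs'y, inv_inv]
      · rw [inv_inv] at hs'y ⊢
        exact hs'y
    exact (mul_inv_eq_iff_eq_mul.1 h1).symm
  have hsq : s' * s' = 1 := hC.eq_one_of_mem hyodd hy1 hTp hs'2 hcomm2
  have hinv : s' * y * s'⁻¹ = y⁻¹ := by
    rcases he with e0 | e0 <;> rw [e0] at hs'y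
    · exact hs'y
    · exfalso
      rw [inv_inv] at hs'y
      exact hs'T (by
        rw [hC.eq_one_of_mem hyodd hy1 hS.2.1 hs'S (mul_inv_eq_iff_eq_mul.1 hs'y).symm]
        exact one_mem _)
  clear hysy hs'y he heT hre heodd he1 heN hcomm2
  have hsinv : s'⁻¹ = s' := inv_eq_of_mul_eq_one_right hsq
  have hconjs : ∀ w ∈ A ⊓ W, s' * w * s' ∈ A ⊓ W := fun w hw => by
    have h1 : s' * w * s'⁻¹ ∈ cj s' (A ⊓ W) := conj_mem_cj.2 hw
    rw [hsinv] at h1
    have h2 : cj s' (A ⊓ W) = W ⊓ A := by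
      rw [cj, Subgroup.map_inf _ _ _ (MulAut.conj s').injective]
      exact congrArg₂ (· ⊓ ·) hsA' hsW'
    rw [h2, inf_comm] at h1
    exact h1
  -- the fixed point of `s'` on `Z`
  obtain ⟨w0, hw0, hw01, hw0ne⟩ : ∃ w ∈ A ⊓ W, w ≠ 1 ∧ s' * w * s' ≠ w := by
    by_contra hno
    push Not at hno
    have h1 := hno z1 hz1 hz11
    have hyz : y * z1 * y⁻¹ ∈ A ⊓ W := hconjZ hyN z1 hz1
    have h2 := hno _ hyz (fun e0 => hz11 (conj_eq_one_iff.1 e0))
    have h5 : s' * (y * z1 * y⁻¹) * s' = y⁻¹ * z1 * y := by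
      calc s' * (y * z1 * y⁻¹) * s'
          = (s' * y * s'⁻¹) * (s' * z1 * s'⁻¹) * (s' * y * s'⁻¹)⁻¹ * (s' * s') := by group
        _ = y⁻¹ * z1 * y := by rw [hsq, mul_one, hinv, inv_inv, hsinv, h1]
    have h3 : (y * y) * z1 * (y * y)⁻¹ = z1 := by
      calc (y * y) * z1 * (y * y)⁻¹ = y * (y * z1 * y⁻¹) * y⁻¹ := by group
        _ = y * (y⁻¹ * z1 * y) * y⁻¹ := by rw [← h5, h2]
        _ = z1 := by group
    refine hnotT (mul_mem (mem_zpowers y) (mem_zpowers y)) (fun e1 => ?_)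
      (hfixT (mul_mem hyN hyN) z1 hz1 hz11 h3)
    have h4 : orderOf y ∣ 2 := orderOf_dvd_of_pow_eq_one (by rwa [pow_two])
    rcases (Nat.dvd_prime Nat.prime_two).1 h4 with h0 | h0
    · exact hy1 (orderOf_eq_one_iff.1 h0)
    · rw [h0] at hyodd; exact absurd hyodd (by decide)
  set z0 := w0 * (s' * w0 * s') with hz0
  have hw0s := hconjs w0 hw0
  have hz0Z : z0 ∈ A ⊓ W := mul_mem hw0 hw0s
  have hz01 : z0 ≠ 1 := fun e0 => hw0ne (by
    rw [eq_inv_of_mul_eq_one_right e0, inv_eq_of_mul_eq_one_right (sq_of_elementary hWel hw0.2)])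
  have hss : ∀ x : G, s' * (s' * x * s') * s' = x := fun x => by
    calc s' * (s' * x * s') * s' = (s' * s') * x * (s' * s') := by group
      _ = x := by rw [hsq, one_mul, mul_one]
  have hsm : ∀ a b : G, s' * (a * b) * s' = (s' * a * s') * (s' * b * s') := fun a b => by
    calc s' * (a * b) * s' = s' * a * (s' * s') * b * s' := by rw [hsq]; group
      _ = _ := by group
  have hz0s : s' * z0 * s' = z0 := by
    rw [hz0, hsm, hss, comm_of_elementary hWel hw0s.2 hw0.2]
  have hfix : ∀ w ∈ A ⊓ W, w ≠ 1 → s' * w * s' = w → w = z0 := by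
    intro w hw hw1 hsw
    by_contra hne
    -- `Z` has four elements, so `s'` would fix `w0`
    have hne0 : w0 ≠ w := fun e0 => hw0ne (e0 ▸ hsw)
    have hne0' : w0 ≠ z0 := fun e0 => hw0ne (e0 ▸ hz0s)
    have hww : w0 = w * z0 := by
      by_contra hno
      have hwz : w * z0 ∈ A ⊓ W := mul_mem hw hz0Z
      have hwz1 : w * z0 ≠ 1 := fun e0 => hne (by
        rw [eq_inv_of_mul_eq_one_left e0, inv_eq_of_mul_eq_one_right (sq_of_elementary hWel hz0Z.2)])
      have hsub : ({1, w, z0, w * z0, w0} : Finset G) ⊆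
          (Set.toFinite ((A ⊓ W : Subgroup G) : Set G)).toFinset := by
        intro x hx
        simp only [Finset.mem_insert, Finset.mem_singleton] at hx
        rw [Set.Finite.mem_toFinset]
        rcases hx with rfl | rfl | rfl | rfl | rfl
        exacts [one_mem _, hw, hz0Z, hwz, hw0]
      have hc5 : ({1, w, z0, w * z0, w0} : Finset G).card = 5 := by
        rw [Finset.card_insert_of_notMem, Finset.card_insert_of_notMem, Finset.card_insert_of_notMem,
          Finset.card_insert_of_notMem, Finset.card_singleton]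
        · simpa using Ne.symm hno
        · simp only [Finset.mem_insert, Finset.mem_singleton, not_or]
          exact ⟨fun e0 => hw1 (right_eq_mul.1 e0), Ne.symm hne0'⟩
        · simp only [Finset.mem_insert, Finset.mem_singleton, not_or]
          exact ⟨hne, fun e0 => hz01 (left_eq_mul.1 e0), Ne.symm hne0⟩
        · simp only [Finset.mem_insert, Finset.mem_singleton, not_or]
          exact ⟨Ne.symm hw1, Ne.symm hz01, Ne.symm hwz1, Ne.symm hw01⟩
      have := Finset.card_le_card hsub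
      rw [hc5, ← Set.ncard_eq_toFinset_card, ← Nat.card_coe_set_eq] at this
      change 5 ≤ Nat.card (A ⊓ W : Subgroup G) at this
      rw [h.card_inter] at this
      omega
    exact hw0ne (by rw [hww, hsm, hsw, hz0s])
  -- the Sylow subgroup above `T`
  set S1 := T ⊔ zpowers s' with hS1
  have hS1S : S1 ≤ S := sup_le hTS (zpowers_le.2 hs'S)
  have hS1mem : ∀ x ∈ S1, x ∈ T ∨ ∃ t ∈ T, x = t * s' := by
    intro x hx
    rw [hS1, ← SetLike.mem_coe, coe_mul_of_right_le_normalizer_left _ _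
      (zpowers_le.2 (mem_normalizer_iff_cj.2 hs'n) : zpowers s' ≤ normalizer (T : Set G))] at hx
    obtain ⟨t, ht, b, hb, rfl⟩ := hx
    obtain ⟨i, rfl⟩ := mem_zpowers_iff.1 hb
    rcases Int.even_or_odd i with ⟨j, rfl⟩ | ⟨j, rfl⟩
    · left
      show t * s' ^ (j + j) ∈ T
      rw [← two_mul, zpow_mul, zpow_two, hsq, one_zpow, mul_one]; exact ht
    · right
      exact ⟨t, ht, by show t * s' ^ (2 * j + 1) = t * s'; rw [zpow_add, zpow_mul, zpow_two, hsq, one_zpow,
        one_mul, zpow_one]⟩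
  have helem : ∀ B : Subgroup G, B ≤ S1 → Cfsg.IsElementaryAbelian 2 B → 16 ≤ Nat.card B → B ≤ T := by
    intro B hB hBel hBc b hb
    by_contra hbT
    obtain ⟨t, ht, hbt⟩ := (hS1mem b (hB hb)).resolve_left hbT
    have hbn : cj b T = T := by
      rw [hbt, cj_mul, hs'n, mem_normalizer_iff_cj.1 (le_normalizer ht)]
    obtain ⟨hbW, hbA⟩ := houter b (hS1S (hB hb)) hbn hbT
    have hBT : B ⊓ T ≤ A ⊓ W := by
      rintro c ⟨hcB, hcT⟩
      have hcb : b * c * b⁻¹ = c := by rw [comm_of_elementary hBel hb hcB, mul_inv_cancel_right]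
      rcases h.involution_mem hcT (sq_of_elementary hBel hcB) with h1 | h1
      · refine ⟨?_, h1⟩
        rw [← hbW, ← hcb]
        exact conj_mem_cj.2 h1
      · refine ⟨h1, ?_⟩
        rw [← hbA, ← hcb]
        exact conj_mem_cj.2 h1
    have hle : B ≤ (B ⊓ T) ⊔ zpowers b := by
      intro c hc
      by_cases hcT : c ∈ T
      · exact mem_sup_left ⟨hc, hcT⟩
      · obtain ⟨t', ht', hct⟩ := (hS1mem c (hB hc)).resolve_left hcT
        have hcb : c * b⁻¹ ∈ T := by
          rw [hct, hbt, show t' * s' * (t * s')⁻¹ = t' * t⁻¹ by group]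
          exact mul_mem ht' (inv_mem ht)
        rw [show c = c * b⁻¹ * b by group]
        exact mul_mem_sup (mem_inf.2 ⟨mul_mem hc (inv_mem hb), hcb⟩) (mem_zpowers b)
    have hBTel : Cfsg.IsElementaryAbelian 2 (B ⊓ T : Subgroup G) := isElementaryAbelian_le hBel inf_le_left
    have h1 := Nat.le_of_dvd Nat.card_pos (card_dvd_of_le hle)
    have h2 := Nat.le_of_dvd Nat.card_pos (card_dvd_of_le hBT)
    rw [h.card_inter] at h2
    have hbo : Nat.card (zpowers b) ≤ 2 := by
      rw [Nat.card_zpowers]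
      exact Nat.le_of_dvd two_pos (orderOf_dvd_of_pow_eq_one (hBel.2 b hb))
    have h3 : Nat.card ((B ⊓ T) ⊔ zpowers b : Subgroup G) ≤
        Nat.card (B ⊓ T : Subgroup G) * Nat.card (zpowers b) := by
      rw [← SetLike.coe_sort_coe, coe_mul_of_right_le_normalizer_left _ _ (zpowers_le.2 (mem_normalizer_iff_cj.2 (by
        refine eq_of_le_of_card_ge ?_ (card_cj _ _).ge
        rintro _ ⟨c, hc, rfl⟩
        show b * c * b⁻¹ ∈ B ⊓ T
        rw [comm_of_elementary hBel hb hc.1, mul_inv_cancel_right]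
        exact hc)))]
      exact Set.natCard_mul_le
    have h4 := Nat.mul_le_mul h2 hbo
    omega
  have hSS1 : S = S1 := by
    refine eq_of_normalizer_inf_le hS.2.1 hS1S fun g hg => ?_
    have hgS1 : cj g S1 = S1 := mem_normalizer_iff_cj.1 hg.2
    have hgW : cj g W ≤ T := helem _ ((cj_mono (hWT.trans le_sup_left)).trans hgS1.le)
      (isElementaryAbelian_cj hWel) (by rw [card_cj, h.right.card_A]; norm_num)
    have hgA : cj g A ≤ T := helem _ ((cj_mono (hAT.trans le_sup_left)).trans hgS1.le)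
      (isElementaryAbelian_cj hAel) (by rw [card_cj, h.left.card_A]; norm_num)
    have hgT : cj g T = T := by
      refine eq_of_le_of_card_ge ?_ (card_cj _ _).ge
      rintro _ ⟨t, ht, rfl⟩
      obtain ⟨a, ha, w, hw, rfl⟩ := h.decomp ht
      rw [map_mul]
      exact mul_mem (hgA ⟨a, ha, rfl⟩) (hgW ⟨w, hw, rfl⟩)
    by_contra hgS
    have hgT' : g ∉ T := fun e0 => hgS (mem_sup_left e0)
    obtain ⟨hgW', hgA'⟩ := houter g hg.1 hgT hgT'
    have hgs : g * s' ∈ T := by
      by_contra hno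
      have h1 := houter (g * s') (mul_mem hg.1 hs'S) (by rw [cj_mul, hs'n, hgT]) hno
      rw [cj_mul, hsW', hgA'] at h1
      exact h.ne_pair h1.1
    exact hgS (by
      rw [show g = g * s' * s' by rw [mul_assoc, hsq, mul_one]]
      exact mul_mem (mem_sup_left hgs) (mem_sup_right (mem_zpowers s')))
  -- Thompson transfer: `s'` is fused into `T`
  have hidx : T.relIndex S = 2 := by
    rw [relIndex, index_eq_two_iff]
    refine ⟨⟨s', hs'S⟩, fun b => ?_⟩
    simp only [mem_subgroupOf, coe_mul]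
    rcases hS1mem b (hSS1.le b.2) with hb | ⟨t, ht, hb⟩
    · refine Or.inr ⟨hb, fun h1 => hs'T ?_⟩
      have := mul_mem (inv_mem hb) h1
      rwa [inv_mul_cancel_left] at this
    · refine Or.inl ⟨by rw [hb, mul_assoc, hsq, mul_one]; exact ht, fun h1 => hs'T ?_⟩
      rw [hb] at h1
      have := mul_mem (inv_mem ht) h1
      rwa [inv_mul_cancel_left] at this
  have hs'o : orderOf s' = 2 := orderOf_eq_two_of (fun e0 => hs'T (e0 ▸ one_mem _)) hsq
  obtain ⟨g, hg⟩ := (CfsgLib.Transfer.thompson_transfer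
    (⟨S, hS.2.1, fun {Q} hQ hle => hS.2.2 Q hle le_top hQ⟩ : Sylow 2 G) T hidx hs'o).resolve_left (by
      rintro ⟨M, -, hM, -⟩
      exact simple_no_index_two hna M hM)
  -- all involutions of `T` are conjugate to `z0`
  have hallconj : ∀ t ∈ T, t * t = 1 → t ≠ 1 → ∃ g : G, g * z0 * g⁻¹ = t := by
    intro t ht ht2 ht1
    rcases h.involution_mem ht ht2 with h1 | h1
    · obtain ⟨x, -, hx⟩ := h.left.trans z0 (by rw [h.zcore_left]; exact hz0Z.2) hz01 t
        (by rw [h.zcore_left]; exact h1) ht1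
      exact ⟨x, hx⟩
    · obtain ⟨x, -, hx⟩ := h.right.trans z0 (by rw [h.symm.zcore_left]; exact hz0Z.1) hz01 t
        (by rw [h.symm.zcore_left]; exact h1) ht1
      exact ⟨x, hx⟩
  obtain ⟨g', hg'⟩ := hallconj _ hg (by
    rw [show g * s' * g⁻¹ * (g * s' * g⁻¹) = g * (s' * s') * g⁻¹ by group, hsq]; group)
    (fun e0 => hs'T (by rw [conj_eq_one_iff.1 e0]; exact one_mem _))
  set k := g⁻¹ * g' with hk
  have hks : k * z0 * k⁻¹ = s' := by
    rw [hk, show g⁻¹ * g' * z0 * (g⁻¹ * g')⁻¹ = g⁻¹ * (g' * z0 * g'⁻¹) * g by group, hg']; group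
  have hCz0 : centralizer ({z0} : Set G) = S := by
    refine hS.2.2 _ (fun x hx => mem_centralizer_singleton_iff.2 ?_) le_top
      (hC z0 (orderOf_eq_two_of hz01 (sq_of_elementary hWel hz0Z.2)))
    rcases hS1mem x (hSS1.le hx) with hx' | ⟨t, ht, rfl⟩
    · exact h.inter_central hz0Z.1 hz0Z.2 hx'
    · have h1 : s' * z0 = z0 * s' := by
        calc s' * z0 = s' * z0 * (s' * s') := by rw [hsq, mul_one]
          _ = (s' * z0 * s') * s' := by group
          _ = z0 * s' := by rw [hz0s]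
      rw [mul_assoc, h1, ← mul_assoc, h.inter_central hz0Z.1 hz0Z.2 ht, mul_assoc]
  -- elements of `T` commuting with `s'`
  have hCT : ∀ r ∈ T, s' * r * s' = r → r ∈ A ⊓ W := by
    intro r hr hrs
    have hr2 : r * r ∈ A ⊓ W := by
      have h1 := h.left.sq_mem r hr
      have h2 := h.right.sq_mem r hr
      rw [h.core_left] at h1
      rw [h.core_right] at h2
      exact ⟨h2, h1⟩
    have hr21 : r * r = 1 := by
      by_contra hne
      have hrz : r * r = z0 := hfix _ hr2 hne (by rw [hsm, hrs])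
      have hrk : k⁻¹ * r * k ∈ S := by
        rw [← hCz0, mem_centralizer_singleton_iff]
        have h1 : r * s' = s' * r := by
          calc r * s' = (s' * r * s') * s' := by rw [hrs]
            _ = s' * r * (s' * s') := by group
            _ = s' * r := by rw [hsq, mul_one]
        calc k⁻¹ * r * k * z0 = k⁻¹ * (r * (k * z0 * k⁻¹)) * k := by group
          _ = k⁻¹ * ((k * z0 * k⁻¹) * r) * k := by rw [hks, h1]
          _ = z0 * (k⁻¹ * r * k) := by group
      have hzk : k⁻¹ * z0 * k ∈ T := by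
        rw [← hrz, show k⁻¹ * (r * r) * k = (k⁻¹ * r * k) * (k⁻¹ * r * k) by group]
        rcases hS1mem _ (hSS1.le hrk) with h1 | ⟨t, ht, h1⟩
        · exact mul_mem h1 h1
        · rw [h1, show t * s' * (t * s') = t * (s' * t * s') by group]
          refine mul_mem ht ?_
          have := (conj_mem_cj (g := s')).2 ht
          rwa [hs'n, hsinv] at this
      have hzk2 : k⁻¹ * z0 * k * (k⁻¹ * z0 * k) = 1 := by
        rw [show k⁻¹ * z0 * k * (k⁻¹ * z0 * k) = k⁻¹ * (z0 * z0) * k by group,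
          sq_of_elementary hWel hz0Z.2]; group
      obtain ⟨B, hBel, hBc, hBz, hBin⟩ : ∃ B : Subgroup G, Cfsg.IsElementaryAbelian 2 B ∧ Nat.card B = 16 ∧
          z0 ∈ B ∧ k⁻¹ * z0 * k ∈ B := by
        rcases h.involution_mem hzk hzk2 with h1 | h1
        · exact ⟨W, hWel, by rw [h.right.card_A]; norm_num, hz0Z.2, h1⟩
        · exact ⟨A, hAel, by rw [h.left.card_A]; norm_num, hz0Z.1, h1⟩
      have hz0B : z0 ∈ cj k B := mem_cj.2 hBin
      have hBS : cj k B ≤ S1 := by
        rw [← hSS1, ← hCz0]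
        exact fun c hc => mem_centralizer_singleton_iff.2 (comm_of_elementary (isElementaryAbelian_cj hBel) hc hz0B)
      have hBT := helem _ hBS (isElementaryAbelian_cj hBel) (by rw [card_cj, hBc])
      exact hs'T (hBT (hks ▸ conj_mem_cj.2 hBz))
    rcases h.involution_mem hr hr21 with h1 | h1
    · refine ⟨?_, h1⟩
      rw [← hsW', ← hrs]
      have := (conj_mem_cj (g := s')).2 h1
      rwa [hsinv] at this
    · refine ⟨h1, ?_⟩
      rw [← hsA', ← hrs]
      have := (conj_mem_cj (g := s')).2 h1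
      rwa [hsinv] at this
  -- a forbidden one
  obtain ⟨w, hw, hwA⟩ : ∃ w ∈ W, w ∉ A := SetLike.not_le_iff_exists.1 fun hle =>
    h.ne_pair (eq_of_le_of_card_ge hle (by rw [h.left.card_A, h.right.card_A]))
  set v := s' * w * s' with hv
  have hvA : v ∈ A := by
    rw [← hsW']
    have := (conj_mem_cj (g := s')).2 hw
    rwa [hsinv] at this
  have hvW : v ∉ W := fun e0 => hwA (by
    have h1 := (hconjs v ⟨hvA, e0⟩).1
    rwa [hv, hss] at h1)
  have hwvT : w * v ∈ T := mul_mem (hWT hw) (hAT hvA)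
  have hw2 := sq_of_elementary hWel hw
  have hv2 := sq_of_elementary hAel hvA
  set c := w * v * (w * v) with hc
  have hcZ : c ∈ A ⊓ W := by
    have h1 := h.left.sq_mem _ hwvT
    have h2 := h.right.sq_mem _ hwvT
    rw [h.core_left] at h1
    rw [h.core_right] at h2
    exact ⟨h2, h1⟩
  have hvw : v * w = w * v * c := by
    calc v * w = (w * v)⁻¹ := by
          rw [mul_inv_rev, inv_eq_of_mul_eq_one_right hv2, inv_eq_of_mul_eq_one_right hw2]
      _ = w * v * (w * v * (w * v))⁻¹ := by group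
      _ = w * v * c := by rw [← hc, inv_eq_of_mul_eq_one_right (sq_of_elementary hWel hcZ.2)]
  have hc1 : c ≠ 1 := fun e0 => hwA (h.fix_mem (hAT hvA) hvW hw (by rw [hvw, e0, mul_one]))
  have hswv : s' * (w * v) * s' = v * w := by rw [hsm, ← hv, hv, hss]
  have hsc : s' * c * s' = c := by
    rw [hc, hsm, hswv, hvw, show w * v * c * (w * v * c) = w * v * (c * (w * v)) * c by group,
      ← h.inter_central hcZ.1 hcZ.2 hwvT, show w * v * (w * v * c) * c = (w * v * (w * v)) * (c * c) by group,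
      sq_of_elementary hWel hcZ.2, mul_one]
  have hcz0 := hfix c hcZ hc1 hsc
  have hfinal := hCT (w * v * w0) (mul_mem hwvT (hWT hw0.2)) (by
    rw [hsm, hswv, hvw, hcz0, hz0, mul_assoc (w * v), mul_assoc w0,
      sq_of_elementary hWel hw0s.2, mul_one])
  refine hvW ?_
  have h1 := mul_mem (mul_mem hw hfinal.2) hw0.2
  rwa [show w * (w * v * w0) * w0 = (w * w) * v * (w0 * w0) by group, hw2,
    sq_of_elementary hWel hw0.2, one_mul, mul_one] at h1

end CfsgLib.CIT
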