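import Cfsg.Agent.Lib.CIT.SimpleTI
import Cfsg.Agent.Lib.CIT.CN
import Cfsg.Agent.Lib.CIT.SuzukiRecog.General
import Cfsg.Agent.Lib.Core.FPFComplement
import Cfsg.Agent.Lib.Components.Subnormal
import Cfsg.Agent.S0033
import Cfsg.Agent.S0035
import Cfsg.Agent.S0042
import Cfsg.Agent.S0215

/-!
# Groups with a Frobenius system on their maximal solvable subgroups

`Sys F`: `F` attaches to each maximal solvable `M` a subgroup `F M` normalised by `M`, containing the centralisers
of its nontrivial elements, meeting its conjugates outside `M` trivially, and nontrivial unless `M` is abelian.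
A nonsolvable such group is simple and a CN group; it is `SL(2, 2ⁿ)` or a Suzuki group.
-/

set_option autoImplicit false
set_option linter.all false

namespace CfsgLib.CIT.FrobSystem

open Subgroup
open scoped commutatorElement Pointwise
open CfsgLib.Signalizer (involution_sq involution_inv orderOf_eq_two_of orderOf_conj)

universe u

/-- Maximal solvable subgroups. -/
def MaxSolv {G : Type*} [Group G] (M : Subgroup G) : Prop :=
  Group.IsSolvable M ∧ ∀ M' : Subgroup G, M < M' → ¬ Group.IsSolvable M'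

/-- The hypothesis. -/
structure Sys {G : Type*} [Group G] (F : Subgroup G → Subgroup G) : Prop where
  le : ∀ {M}, MaxSolv M → F M ≤ M
  norm : ∀ {M}, MaxSolv M → M ≤ normalizer (F M : Set G)
  fpf : ∀ {M}, MaxSolv M → ∀ a ∈ M, a ∉ F M → ∀ x ∈ F M, x * a = a * x → x = 1
  ti : ∀ {M}, MaxSolv M → ∀ g : G, g ∉ M → ∀ x ∈ F M, g⁻¹ * x * g ∈ F M → x = 1
  nontriv : ∀ {M}, MaxSolv M → F M ≠ ⊥ ∨ IsMulCommutative M

variable {G : Type u} [Group G] [Finite G] {F : Subgroup G → Subgroup G}

theorem exists_maxSolv (X : Subgroup G) (hX : Group.IsSolvable X) : ∃ M, MaxSolv M ∧ X ≤ M := by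
  obtain ⟨M, hle, hM⟩ := Finite.exists_le_maximal (p := fun S : Subgroup G => Group.IsSolvable S) hX
  exact ⟨M, ⟨hM.1, fun M' hlt hs => hlt.not_ge (hM.2 hs hlt.le)⟩, hle⟩

theorem exists_maxSolv_mem (x : G) : ∃ M : Subgroup G, MaxSolv M ∧ x ∈ M := by
  obtain ⟨M, hM, hle⟩ := exists_maxSolv (zpowers x) inferInstance
  exact ⟨M, hM, hle (mem_zpowers x)⟩

theorem solvable_of_le {X Y : Subgroup G} (h : X ≤ Y) (hY : Group.IsSolvable Y) : Group.IsSolvable X := by
  haveI := hY
  exact Group.isSolvable_of_isSolvable_injective (inclusion_injective h)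

omit [Finite G] in
theorem Sys.cl (h : Sys F) {M : Subgroup G} (hM : MaxSolv M) {x : G} (hx : x ∈ F M) (hx1 : x ≠ 1) :
    centralizer ({x} : Set G) ≤ F M := by
  intro g hg
  rw [mem_centralizer_singleton_iff] at hg
  have hgM : g ∈ M := by
    by_contra hno
    exact hx1 (h.ti hM g hno x hx (by rw [mul_assoc, ← hg, inv_mul_cancel_left]; exact hx))
  by_contra hgF
  exact hx1 (h.fpf hM g hgM hgF x hx hg.symm)

omit [Finite G] in
theorem Sys.conj_mem (h : Sys F) {M : Subgroup G} (hM : MaxSolv M) {m x : G} (hm : m ∈ M) (hx : x ∈ F M) :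
    m * x * m⁻¹ ∈ F M :=
  (mem_normalizer_iff.1 (h.norm hM hm) x).1 hx

/-- The hypothesis passes to normal subgroups. -/
theorem Sys.restrict (h : Sys F) (N : Subgroup G) [hN : N.Normal] :
    ∃ F' : Subgroup N → Subgroup N, Sys F' ∧
      ∀ M', MaxSolv M' → ∃ M, MaxSolv M ∧ M' = M.subgroupOf N ∧ F' M' = (F M).subgroupOf N := by
  classical
  have hex : ∀ M' : Subgroup N, MaxSolv M' → ∃ M, MaxSolv M ∧ M' = M.subgroupOf N := by
    intro M' hM'
    haveI := hM'.1
    obtain ⟨M, hM, hle⟩ := exists_maxSolv (M'.map N.subtype)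
      (Group.isSolvable_of_surjective (f := (equivMapOfInjective M' _ N.subtype_injective).toMonoidHom)
        (equivMapOfInjective M' _ N.subtype_injective).surjective)
    refine ⟨M, hM, ?_⟩
    rcases (map_le_iff_le_comap.1 hle : M' ≤ M.subgroupOf N).eq_or_lt with e | e
    · exact e
    · haveI := hM.1
      refine absurd ?_ (hM'.2 _ e)
      exact Group.isSolvable_of_isSolvable_injective
        (f := ((N.subtype.comp (M.subgroupOf N).subtype).codRestrict M fun x => x.2))
        (fun a b e => Subtype.ext (Subtype.ext (congrArg Subtype.val e :)))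
  let F' : Subgroup N → Subgroup N := fun M' =>
    if hM' : MaxSolv M' then (F (hex M' hM').choose).subgroupOf N else ⊥
  have hF' : ∀ M', MaxSolv M' → ∃ M, MaxSolv M ∧ M' = M.subgroupOf N ∧ F' M' = (F M).subgroupOf N := by
    intro M' hM'
    exact ⟨_, (hex M' hM').choose_spec.1, (hex M' hM').choose_spec.2, dif_pos hM'⟩
  refine ⟨F', ⟨?_, ?_, ?_, ?_, ?_⟩, hF'⟩
  · intro M' hM'
    obtain ⟨M, hM, rfl, e⟩ := hF' M' hM'
    rw [e]
    exact fun x hx => h.le hM hx
  · intro M' hM' m hm
    obtain ⟨M, hM, rfl, e⟩ := hF' M' hM'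
    rw [e, mem_normalizer_iff]
    intro x
    rw [mem_subgroupOf, mem_subgroupOf]
    exact mem_normalizer_iff.1 (h.norm hM hm) (x : G)
  · intro M' hM' a ha haF x hx hxa
    obtain ⟨M, hM, rfl, e⟩ := hF' M' hM'
    rw [e] at haF hx
    exact Subtype.ext (h.fpf hM (a : G) ha haF (x : G) hx (congrArg Subtype.val hxa :))
  · intro M' hM' g hg x hx hgx
    obtain ⟨M, hM, rfl, e⟩ := hF' M' hM'
    rw [e] at hx hgx
    exact Subtype.ext (h.ti hM (g : G) hg (x : G) hx hgx)
  · intro M' hM'
    obtain ⟨M, hM, rfl, e⟩ := hF' M' hM'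
    rcases h.nontriv hM with hne | hab
    · by_contra hcon
      push Not at hcon
      obtain ⟨h0, hnc⟩ := hcon
      rw [e] at h0
      obtain ⟨f, hf, hf1⟩ := (F M).bot_or_exists_ne_one.resolve_left hne
      refine hnc ⟨⟨fun a b => ?_⟩⟩
      suffices ha1 : ∀ c : M.subgroupOf N, c = 1 by rw [ha1 a, ha1 b]
      intro c
      have hc : ((c : N) : G) ∈ M := c.2
      have hcomm : ((c : N) : G) * f * ((c : N) : G)⁻¹ * f⁻¹ = 1 := by
        have hmemN : ((c : N) : G) * f * ((c : N) : G)⁻¹ * f⁻¹ ∈ N := by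
          rw [mul_assoc, mul_assoc]
          refine mul_mem (c : N).2 ?_
          rw [← mul_assoc]
          exact hN.conj_mem _ (inv_mem (c : N).2) f
        have hmem : (⟨_, hmemN⟩ : N) ∈ (F M).subgroupOf N := mul_mem (h.conj_mem hM hc hf) (inv_mem hf)
        rw [h0, mem_bot] at hmem
        exact congrArg Subtype.val hmem
      have hcF : ((c : N) : G) ∈ F M := by
        refine h.cl hM hf hf1 (mem_centralizer_singleton_iff.2 ?_)
        exact mul_inv_eq_iff_eq_mul.1 (mul_inv_eq_one.1 hcomm)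
      have : (c : N) ∈ (F M).subgroupOf N := hcF
      rw [h0, mem_bot] at this
      exact Subtype.ext this
    · exact Or.inr ⟨⟨fun a b => Subtype.ext (Subtype.ext
        (congrArg Subtype.val (hab.is_comm.comm ⟨((a : N) : G), a.2⟩ ⟨((b : N) : G), b.2⟩) :))⟩⟩

omit [Finite G] in
theorem closure_prime_powers (g : G) (hg : IsOfFinOrder g) (H : Subgroup G)
    (h : ∀ y ∈ zpowers g, IsPrimePow (orderOf y) → y ∈ H) : g ∈ H := by
  have key : ∀ n, ∀ y ∈ zpowers g, orderOf y = n → y ∈ H := by
    intro n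
    induction n using Nat.strong_induction_on with
    | _ n ih =>
      intro y hy hn
      have hn0 : 0 < n := hn ▸ (IsOfFinOrder.orderOf_pos (by
        obtain ⟨k, rfl⟩ := mem_zpowers_iff.1 hy; exact hg.zpow))
      by_cases h1 : n = 1
      · rw [h1, orderOf_eq_one_iff] at hn; rw [hn]; exact one_mem H
      by_cases hpp : IsPrimePow n
      · exact h y hy (hn ▸ hpp)
      obtain ⟨p, hp, hpd⟩ := Nat.exists_prime_and_dvd h1
      set a := p ^ n.factorization p with ha
      set b := n / p ^ n.factorization p with hb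
      have hab : a * b = n := Nat.ordProj_mul_ordCompl_eq_self n p
      have hcop : a.Coprime b := (Nat.coprime_ordCompl hp hn0.ne').pow_left _
      have hk : n.factorization p ≠ 0 := (hp.factorization_pos_of_dvd hn0.ne' hpd).ne'
      have ha1 : 1 < a := Nat.one_lt_pow hk hp.one_lt
      have hb0 : 0 < b := Nat.pos_of_ne_zero fun e => by rw [e, mul_zero] at hab; omega
      have hb1 : b ≠ 1 := fun e => hpp (by rw [← hab, e, mul_one, ha]; exact hp.isPrimePow.pow hk)
      have hya : y ^ a ∈ H := ih (orderOf (y ^ a)) (by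
        rw [orderOf_pow_of_dvd (by omega) (hn ▸ Dvd.intro b hab), hn]
        exact Nat.div_lt_self hn0 ha1) _ (pow_mem hy a) rfl
      have hyb : y ^ b ∈ H := ih (orderOf (y ^ b)) (by
        rw [orderOf_pow_of_dvd (by omega) (hn ▸ Dvd.intro_left a hab), hn]
        exact Nat.div_lt_self hn0 (by omega)) _ (pow_mem hy b) rfl
      have hbz : (1 : ℤ) = a * a.gcdA b + b * a.gcdB b := by
        rw [← Nat.gcd_eq_gcd_ab, hcop]; rfl
      rw [show y = (y ^ a) ^ a.gcdA b * (y ^ b) ^ a.gcdB b by
        rw [← zpow_natCast, ← zpow_natCast, ← zpow_mul, ← zpow_mul, ← zpow_add, ← hbz, zpow_one]]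
      exact mul_mem (zpow_mem hya _) (zpow_mem hyb _)
  exact key _ g (mem_zpowers g) rfl

/-- Burnside's transfer. -/
theorem exists_complement {p : ℕ} [Fact p.Prime] (P : Sylow p G)
    (h : normalizer (P : Set G) ≤ centralizer (P : Set G)) :
    ∃ N : Subgroup G, N.Normal ∧ IsComplement' N (P : Subgroup G) :=
  ⟨_, MonoidHom.normal_ker _, MonoidHom.ker_transferSylow_isComplement' P h⟩

theorem conj_commute_of_abelian {Y : Subgroup G} (hY : IsMulCommutative Y) {a b : G} (ha : a ∈ Y) (hb : b ∈ Y) :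
    a * b = b * a :=
  congrArg Subtype.val (hY.is_comm.comm ⟨a, ha⟩ ⟨b, hb⟩)

theorem sup_zpowers_solvable {P : Subgroup G} [Group.IsSolvable P] {g : G} (hg : g ∈ normalizer (P : Set G)) :
    Group.IsSolvable (P ⊔ zpowers g : Subgroup G) :=
  CfsgLib.Components.isSolvable_sup (zpowers_le.2 hg) inferInstance inferInstance

/-- If all solvable subgroups are abelian the group is solvable. -/
theorem solvable_of_all_abelian (G : Type u) [Group G] [Finite G]
    (h : ∀ X : Subgroup G, Group.IsSolvable X → IsMulCommutative X) : Group.IsSolvable G := by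
  classical
  by_cases h1 : Nat.card G = 1
  · haveI := (Nat.card_eq_one_iff_unique.1 h1).1
    infer_instance
  obtain ⟨p, hp, hpd⟩ := Nat.exists_prime_and_dvd h1
  haveI := Fact.mk hp
  let P : Sylow p G := default
  have hPs : Group.IsSolvable (P : Subgroup G) := by
    haveI : Group.IsNilpotent (P : Subgroup G) := P.isPGroup'.isNilpotent
    infer_instance
  have hNC : normalizer (P : Set G) ≤ centralizer (P : Set G) := by
    intro g hg
    rw [mem_centralizer_iff]
    intro x hx
    haveI := hPs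
    exact conj_commute_of_abelian (h _ (sup_zpowers_solvable hg)) (mem_sup_left hx)
      (mem_sup_right (mem_zpowers g))
  obtain ⟨N, hN, hc⟩ := exists_complement P hNC
  haveI := hN
  have hlt : Nat.card N < Nat.card G := by
    rw [← hc.card_mul]
    refine lt_mul_of_one_lt_right Nat.card_pos ?_
    haveI : Nontrivial (P : Subgroup G) := (nontrivial_iff_ne_bot _).2 (P.ne_bot_of_dvd_card hpd)
    exact Finite.one_lt_card
  haveI : Group.IsSolvable N := solvable_of_all_abelian N fun X hX => by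
    haveI := hX
    have h2 := h (X.map N.subtype) (Group.isSolvable_of_surjective
      (f := (equivMapOfInjective X _ N.subtype_injective).toMonoidHom)
      (equivMapOfInjective X _ N.subtype_injective).surjective)
    exact ⟨⟨fun a b => Subtype.ext (Subtype.ext
      (conj_commute_of_abelian h2 (mem_map_of_mem _ a.2) (mem_map_of_mem _ b.2)))⟩⟩
  haveI : Group.IsSolvable (G ⧸ N) := by
    haveI : Group.IsNilpotent (G ⧸ N) := IsPGroup.isNilpotent (p := p) (by
      obtain ⟨k, hk⟩ := IsPGroup.iff_card.1 P.isPGroup'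
      refine IsPGroup.of_card (n := k) ?_
      rw [← index_eq_card, ← hk]
      exact hc.symm.card_left ▸ rfl)
    infer_instance
  exact Group.isSolvable_of_ker_le_range N.subtype (QuotientGroup.mk' N)
    (by rw [QuotientGroup.ker_mk', range_subtype])
termination_by Nat.card G
decreasing_by exact hlt

/-- A nonsolvable group with a system has some element in some `F M`. -/
theorem Sys.exists_mem (h : Sys F) (hns : ¬ Group.IsSolvable G) : ∃ M, MaxSolv M ∧ F M ≠ ⊥ := by
  by_contra hno
  push Not at hno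
  refine hns (solvable_of_all_abelian G fun X hX => ?_)
  obtain ⟨M, hM, hle⟩ := exists_maxSolv X hX
  have hab := (h.nontriv hM).resolve_left (not_not.2 (hno M hM))
  exact ⟨⟨fun a b => Subtype.ext (conj_commute_of_abelian hab (hle a.2) (hle b.2))⟩⟩

/-- No nontrivial abelian normal subgroups. -/
theorem Sys.abelian_normal_eq_bot (h : Sys F) (hns : ¬ Group.IsSolvable G) {N : Subgroup G} [hN : N.Normal]
    [IsMulCommutative N] : N = ⊥ := by
  by_contra hNb
  haveI : Group.IsSolvable N := by
    letI : CommGroup N := { (inferInstance : Group N) with mul_comm := fun a b => mul_comm' a b }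
    infer_instance
  obtain ⟨M, hM, hne⟩ := h.exists_mem hns
  have hNM : N ≤ M := by
    by_contra hno
    refine hM.2 (N ⊔ M) (lt_of_le_not_ge le_sup_right fun e => hno (le_sup_left.trans e)) ?_
    exact CfsgLib.Components.isSolvable_sup (by rw [normalizer_eq_top (H := N)]; exact le_top) inferInstance hM.1
  -- `N` meets `F M`, hence lies in it
  obtain ⟨x, hxN, hxF, hx1⟩ : ∃ x, x ∈ N ∧ x ∈ F M ∧ x ≠ 1 := by
    by_contra hno
    push Not at hno
    obtain ⟨f, hf, hf1⟩ := (F M).bot_or_exists_ne_one.resolve_left hne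
    obtain ⟨n, hn, hn1⟩ := N.bot_or_exists_ne_one.resolve_left hNb
    refine hn1 (hno n hn (h.cl hM hf hf1 (mem_centralizer_singleton_iff.2 ?_)))
    have hc : n * f * n⁻¹ * f⁻¹ = 1 := hno _ (by
      rw [show n * f * n⁻¹ * f⁻¹ = n * (f * n⁻¹ * f⁻¹) by group]
      exact mul_mem hn (hN.conj_mem _ (inv_mem hn) f)) (mul_mem (h.conj_mem hM (hNM hn) hf) (inv_mem hf))
    exact mul_inv_eq_iff_eq_mul.1 (mul_inv_eq_one.1 hc)
  have hall : ∀ g : G, g ∈ M := by
    intro g
    by_contra hg
    exact hx1 (h.ti hM g hg x hxF (by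
      have h1 : g⁻¹ * x * g ∈ N := by simpa using hN.conj_mem x hxN g⁻¹
      exact h.cl hM hxF hx1 (mem_centralizer_singleton_iff.2
        (congrArg Subtype.val (mul_comm' (⟨_, h1⟩ : N) ⟨x, hxN⟩)))))
  haveI := hM.1
  exact hns (Group.isSolvable_of_surjective (f := M.subtype) fun g => ⟨⟨g, hall g⟩, rfl⟩)

/-- No nontrivial solvable normal subgroups. -/
theorem Sys.solvable_normal_eq_bot (h : Sys F) (hns : ¬ Group.IsSolvable G) {N : Subgroup G} [hN : N.Normal]
    [hNs : Group.IsSolvable N] : N = ⊥ := by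
  obtain ⟨n, hn⟩ := hNs.solvable
  have key : ∀ k, derivedSeries N k = ⊥ → N = ⊥ := by
    intro k
    induction k with
    | zero =>
      intro hk
      rw [derivedSeries_zero] at hk
      refine (eq_bot_iff_forall _).2 fun x hx => ?_
      exact congrArg Subtype.val ((eq_bot_iff_forall _).1 hk (⟨x, hx⟩ : N) (mem_top _))
    | succ k ih =>
      intro hk
      set D := (derivedSeries N k).map N.subtype with hD
      haveI : D.Normal := inferInstance
      haveI : IsMulCommutative D := by
        refine ⟨⟨?_⟩⟩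
        rintro ⟨_, a, ha, rfl⟩ ⟨_, b, hb, rfl⟩
        have := hk ▸ (derivedSeries_succ N k ▸ commutator_mem_commutator ha hb :
          ⁅a, b⁆ ∈ derivedSeries N (k + 1))
        exact Subtype.ext (congrArg Subtype.val (commutatorElement_eq_one_iff_commute.1 (mem_bot.1 this)).eq :)
      have h0 : D = ⊥ := h.abelian_normal_eq_bot hns
      rw [hD, map_eq_bot_iff_of_injective _ N.subtype_injective] at h0
      exact ih h0
  exact key n hn

omit [Finite G] in
theorem solvable_of_top (h : Group.IsSolvable (⊤ : Subgroup G)) : Group.IsSolvable G := by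
  haveI := h
  exact Group.isSolvable_of_surjective (f := (topEquiv (G := G)).toMonoidHom) (topEquiv (G := G)).surjective

theorem cyclic_eq_of_card {P A B : Subgroup G} [IsCyclic P] (hA : A ≤ P) (hB : B ≤ P)
    (hAB : Nat.card A = Nat.card B) : A = B := by
  classical
  haveI := Fintype.ofFinite P
  set S := Finset.univ.filter fun a : P => a ^ Nat.card A = 1 with hS
  have hS' : S.card ≤ Nat.card A := IsCyclic.card_pow_eq_one_le Nat.card_pos
  have key : ∀ C : Subgroup G, C ≤ P → Nat.card C = Nat.card A →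
      (Finset.univ.filter fun a : P => (a : G) ∈ C) = S := by
    intro C hC hCA
    refine Finset.eq_of_subset_of_card_le (fun a ha => ?_) (hS'.trans (le_of_eq ?_))
    · rw [Finset.mem_filter] at ha
      rw [hS, Finset.mem_filter]
      refine ⟨Finset.mem_univ _, Subtype.ext ?_⟩
      rw [coe_pow, coe_one, ← hCA]
      exact congrArg Subtype.val (pow_card_eq_one' (x := (⟨(a : G), ha.2⟩ : C)))
    · rw [← hCA, ← Nat.card_congr (subgroupOfEquivOfLe hC).toEquiv, Nat.card_eq_fintype_card]
      exact (Fintype.card_of_subtype _ (fun a => by simp [mem_subgroupOf]))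
  refine le_antisymm (fun x hx => ?_) fun x hx => ?_
  · have h1 := (key A hA rfl).trans (key B hB hAB.symm).symm
    have : (⟨x, hA hx⟩ : P) ∈ (Finset.univ.filter fun a : P => (a : G) ∈ B) := h1 ▸ by simp [hx]
    simpa using this
  · have h1 := (key B hB hAB.symm).trans (key A hA rfl).symm
    have : (⟨x, hB hx⟩ : P) ∈ (Finset.univ.filter fun a : P => (a : G) ∈ A) := h1 ▸ by simp [hx]
    simpa using this

section simple

variable [IsSimpleGroup G] (h : Sys F) (hns : ¬ Group.IsSolvable G)
include h hns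

omit h in
theorem normal_bot_or {N : Subgroup G} (hN : N.Normal) : N = ⊥ ∨ ¬ Group.IsSolvable N := by
  rcases hN.eq_bot_or_eq_top with e | rfl
  · exact Or.inl e
  · exact Or.inr fun hs => hns (solvable_of_top hs)

/-- Each `M` with `F M ≠ ⊥` is strictly larger than `F M`. -/
theorem Sys.exists_outside {M : Subgroup G} (hM : MaxSolv M) (hne : F M ≠ ⊥) : ∃ a ∈ M, a ∉ F M := by
  by_contra hno
  push Not at hno
  have hFM : F M = M := le_antisymm (h.le hM) hno
  have hMt : M ≠ ⊤ := fun e => hns (solvable_of_top (e ▸ hM.1))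
  have hFC : Cfsg.IsFrobeniusComplement M := by
    refine ⟨hFM ▸ hne, hMt, fun g hg => eq_bot_iff.2 fun x hx => mem_bot.2 ?_⟩
    obtain ⟨hx1, hx2⟩ := mem_inf.1 hx
    rw [mem_pointwise_smul_iff_inv_smul_mem] at hx2
    exact h.ti hM g hg x (hno x hx1) (hno _ (by simpa [MulAut.smul_def, mul_assoc] using hx2))
  obtain ⟨N, hNk, hN, hnil⟩ := Cfsg.Agent.S0042.result M hFC
  obtain ⟨N', hNk', -, hc⟩ := Cfsg.Agent.S0035.result M hFC
  obtain rfl : N' = N := SetLike.coe_injective (hNk'.trans hNk.symm)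
  rcases normal_bot_or hns hN with e | e
  · subst e
    exact hMt (isComplement'_bot_left.1 hc)
  · exact e (haveI := hnil; inferInstance)

/-- The kernels are nilpotent. -/
theorem Sys.isNilpotent {M : Subgroup G} (hM : MaxSolv M) (hne : F M ≠ ⊥) : Group.IsNilpotent (F M) := by
  obtain ⟨a, haM, haF⟩ := h.exists_outside hns hM hne
  have hdisj : ∀ i : ℕ, a ^ i ∈ F M → a ^ i = 1 := fun i hi =>
    h.fpf hM a haM haF _ hi ((Commute.pow_self a i).eq)
  have ha1 : orderOf a ≠ 1 := fun e => haF (by rw [orderOf_eq_one_iff.1 e]; exact one_mem _)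
  obtain ⟨r, hr, hrd⟩ := Nat.exists_prime_and_dvd ha1
  set b := a ^ (orderOf a / r) with hb
  have hbo : orderOf b = r := orderOf_pow_orderOf_div (orderOf_pos a).ne' hrd
  have hb1 : b ≠ 1 := fun e => hr.ne_one (by rw [← hbo, e, orderOf_one])
  have hbM : b ∈ M := pow_mem haM _
  have hbF : b ∉ F M := fun e => hb1 (hdisj _ e)
  let φ : MulAut (F M) := normalizerMonoidHom (F M) ⟨b, h.norm hM hbM⟩
  have happ : ∀ x : F M, ((φ x : F M) : G) = b * x * b⁻¹ := fun x => rfl
  have hfix : MonoidHom.FixedPointFree (φ : F M →* F M) := by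
    intro x hx
    have hx' : b * (x : G) * b⁻¹ = x := (happ x).symm.trans (congrArg Subtype.val hx)
    exact Subtype.ext (h.fpf hM b hbM hbF x x.2 (mul_inv_eq_iff_eq_mul.1 hx').symm)
  have hord : orderOf φ = r := by
    haveI := Fact.mk hr
    refine orderOf_eq_prime ?_ ?_
    · rw [← map_pow, show (⟨b, h.norm hM hbM⟩ : normalizer (F M : Set G)) ^ r = 1 from
        Subtype.ext (by rw [SubmonoidClass.coe_pow, ← hbo, pow_orderOf_eq_one]; rfl), map_one]
    · intro e
      obtain ⟨x, hx, hx1⟩ := (F M).bot_or_exists_ne_one.resolve_left hne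
      exact hx1 (congrArg Subtype.val (hfix ⟨x, hx⟩ (by show φ ⟨x, hx⟩ = _; rw [e]; rfl)))
  exact Cfsg.Agent.S0033.result φ hfix r hr hord

/-- Every nontrivial element lies in some kernel. -/
theorem Sys.covered (x : G) (hx : x ≠ 1) : ∃ M, MaxSolv M ∧ x ∈ F M := by
  classical
  by_contra hno
  let Out : G → Prop := fun y => y ≠ 1 ∧ ∀ M, MaxSolv M → y ∉ F M
  have hOut : Out x := ⟨hx, fun M hM hm => hno ⟨M, hM, hm⟩⟩
  have hclosed : ∀ y z : G, Out y → z ≠ 1 → z * y = y * z → Out z := fun y z hy hz hc =>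
    ⟨hz, fun M hM hzM => hy.2 M hM (h.cl hM hzM hz (mem_centralizer_singleton_iff.2 hc.symm))⟩
  -- the least prime order of such elements
  have hex : ∃ q, q.Prime ∧ ∃ y, Out y ∧ orderOf y = q := by
    obtain ⟨r, hr, hrd⟩ := Nat.exists_prime_and_dvd (fun e => hx (orderOf_eq_one_iff.1 e))
    refine ⟨r, hr, x ^ (orderOf x / r), hclosed x _ hOut ?_ (Commute.pow_self x _).eq,
      orderOf_pow_orderOf_div (orderOf_pos x).ne' hrd⟩
    intro e
    have := orderOf_pow_orderOf_div (orderOf_pos x).ne' hrd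
    rw [e, orderOf_one] at this
    exact hr.ne_one this.symm
  obtain ⟨hq, y, hy, hyq⟩ := Nat.find_spec hex
  set q := Nat.find hex with hqdef
  have hmin : ∀ {s : ℕ}, s.Prime → ∀ {z}, Out z → orderOf z = s → q ≤ s := fun {s} hs {z} hz hzs =>
    Nat.find_min' hex ⟨hs, z, hz, hzs⟩
  haveI := Fact.mk hq
  obtain ⟨P, hP⟩ := (IsPGroup.of_card (n := 1) (by rw [Nat.card_zpowers, hyq, pow_one]) :
    IsPGroup q (zpowers y)).exists_le_sylow
  have hyP : y ∈ (P : Subgroup G) := hP (mem_zpowers y)
  haveI hPnt : Nontrivial (P : Subgroup G) :=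
    (nontrivial_iff_ne_bot _).2 fun e => hy.1 (mem_bot.1 (e ▸ hyP))
  have hPout : ∀ z ∈ (P : Subgroup G), z ≠ 1 → Out z := by
    refine fun z hz hz1 => ⟨hz1, fun M hM hzM => ?_⟩
    haveI := P.isPGroup'.center_nontrivial
    obtain ⟨⟨c, hc⟩, hc1⟩ := exists_ne (1 : center (P : Subgroup G))
    have hc1' : (c : G) ≠ 1 := fun e => hc1 (Subtype.ext (Subtype.ext e))
    have hcc : ∀ w ∈ (P : Subgroup G), w * (c : G) = (c : G) * w := fun w hw =>
      congrArg Subtype.val (mem_center_iff.1 hc ⟨w, hw⟩)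
    have hcM := h.cl hM hzM hz1 (mem_centralizer_singleton_iff.2 (hcc z hz).symm)
    exact hy.2 M hM (h.cl hM hcM hc1' (mem_centralizer_singleton_iff.2 (hcc y hyP)))
  haveI hPn : Group.IsNilpotent (P : Subgroup G) := P.isPGroup'.isNilpotent
  haveI hPs : Group.IsSolvable (P : Subgroup G) := inferInstance
  -- a solvable group containing the Sylow subgroup acts freely on a kernel or is abelian
  have hfree : ∀ Y : Subgroup G, (P : Subgroup G) ≤ Y → Y ≤ normalizer ((P : Subgroup G) : Set G) →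
      Group.IsSolvable Y → IsMulCommutative Y ∨ ∃ K : Subgroup G, K ≠ ⊥ ∧ Y ≤ normalizer (K : Set G) ∧
        ∀ a ∈ Y, a ≠ 1 → K ⊓ centralizer {a} = ⊥ := by
    intro Y hPY hYn hY
    obtain ⟨A, hA, hYA⟩ := exists_maxSolv Y hY
    by_cases hab : IsMulCommutative A
    · exact Or.inl ⟨⟨fun a b => Subtype.ext (conj_commute_of_abelian hab (hYA a.2) (hYA b.2))⟩⟩
    refine Or.inr ⟨F A, (h.nontriv hA).resolve_right hab, hYA.trans (h.norm hA), fun a ha ha1 => ?_⟩
    have haF : a ∉ F A := by
      intro haF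
      refine hy.2 A hA (h.cl hA haF ha1 (mem_centralizer_singleton_iff.2 ?_))
      have h1 : a * y * a⁻¹ * y⁻¹ ∈ (P : Subgroup G) :=
        mul_mem ((mem_normalizer_iff.1 (hYn ha) y).1 hyP) (inv_mem hyP)
      have h2 : a * y * a⁻¹ * y⁻¹ ∈ F A := by
        rw [show a * y * a⁻¹ * y⁻¹ = a * (y * a⁻¹ * y⁻¹) by group]
        exact mul_mem haF (h.conj_mem hA (hYA (hPY hyP)) (inv_mem haF))
      have h3 : a * y * a⁻¹ * y⁻¹ = 1 := by
        by_contra hne
        exact (hPout _ h1 hne).2 A hA h2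
      exact (mul_inv_eq_iff_eq_mul.1 (mul_inv_eq_one.1 h3)).symm
    refine eq_bot_iff.2 fun k hk => mem_bot.2 ?_
    obtain ⟨hk1, hk2⟩ := mem_inf.1 hk
    exact h.fpf hA a (hYA ha) haF k hk1 (mem_centralizer_singleton_iff.1 hk2)
  -- the Sylow subgroup is abelian
  have hPc : IsMulCommutative (P : Subgroup G) := by
    rcases hfree _ le_rfl le_normalizer hPs with e | ⟨K, hK, hPK, hf⟩
    · exact e
    by_cases hq2 : q = 2
    · exfalso
      haveI h2fact : Fact (Nat.Prime 2) := ⟨Nat.prime_two⟩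
      have hy2 : orderOf y = 2 := hyq.trans hq2
      have hP2 : IsPGroup 2 (P : Subgroup G) := hq2 ▸ P.isPGroup'
      obtain ⟨N, hN, hNodd, hNc⟩ := Cfsg.Agent.S0215.result
        (⟨(P : Subgroup G), hP2, fun {Q} hQ hle => P.is_maximal' (hq2 ▸ hQ) hle⟩ : Sylow 2 G) y hy2 hyP
        (fun g hg => by
          have e := CfsgLib.Core.FPF.subgroup_order_prime_unique hPK hf hK le_rfl Nat.prime_two hP2
            (zpowers_le.2 hg) (zpowers_le.2 hyP) (by rw [Nat.card_zpowers, orderOf_conj, hy2])
            (by rw [Nat.card_zpowers, hy2])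
          have hmem : g * y * g⁻¹ ∈ zpowers y := e ▸ mem_zpowers (g * y * g⁻¹)
          obtain ⟨i, hi⟩ := mem_zpowers_iff.1 hmem
          rw [← zpow_mod_orderOf, hy2] at hi
          rcases Int.emod_two_eq i with e2 | e2
          · rw [show ((2 : ℕ) : ℤ) = 2 from rfl, e2, zpow_zero] at hi
            exact absurd hi.symm (Signalizer.involution_ne_one ((orderOf_conj g y).trans hy2))
          · rw [show ((2 : ℕ) : ℤ) = 2 from rfl, e2, zpow_one] at hi
            exact hi.symm)
      have hNb : N = ⊥ := by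
        rcases hN.eq_bot_or_eq_top with e | e
        · exact e
        · exfalso
          rw [e, card_top] at hNodd
          exact hNodd.not_two_dvd_nat (hy2 ▸ orderOf_dvd_natCard y)
      have hyZ : y ∈ center G := mem_center_iff.2 fun g => by
        have h1 := mem_bot.1 (hNb ▸ hNc g)
        calc g * y = (y * g * y⁻¹ * g⁻¹)⁻¹ * y * g := by group
          _ = y * g := by rw [h1, inv_one, one_mul]
      rcases normal_bot_or hns (inferInstance : (center G).Normal) with e | e
      · exact hy.1 (mem_bot.1 (e ▸ hyZ))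
      · refine e ?_
        letI : CommGroup (center G) := { (inferInstance : Group (center G)) with
          mul_comm := fun a b => Subtype.ext (mem_center_iff.1 b.2 a) }
        infer_instance
    · rcases CfsgLib.Core.FPF.sylow_cyclic_or_quaternion hPK hf hK (default : Sylow q (P : Subgroup G)) with
        hc | ⟨e, -⟩
      · haveI : IsCyclic (⊤ : Subgroup (P : Subgroup G)) := by
          have e : (⊤ : Subgroup (P : Subgroup G)) = (default : Sylow q (P : Subgroup G)) :=
            (default : Sylow q (P : Subgroup G)).is_maximal' (P.isPGroup'.of_equiv topEquiv.symm) le_top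
          rw [e]
          exact hc
        haveI : IsCyclic (P : Subgroup G) := isCyclic_of_surjective (topEquiv (G := (P : Subgroup G)))
          topEquiv.surjective
        exact IsCyclic.isMulCommutative
      · exact absurd e hq2
  haveI := hPc
  -- the normaliser centralises
  have hNC : normalizer (P : Set G) ≤ centralizer (P : Set G) := by
    intro g hg
    refine closure_prime_powers g (isOfFinOrder_of_finite g) _ fun a ha hpp => ?_
    have han : a ∈ normalizer ((P : Subgroup G) : Set G) := zpowers_le.2 hg ha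
    obtain ⟨s, j, hs, hj, hsj⟩ := hpp
    rw [← Nat.prime_iff] at hs
    haveI := Fact.mk hs
    set Y := (P : Subgroup G) ⊔ zpowers a with hY
    have hYn : Y ≤ normalizer ((P : Subgroup G) : Set G) := sup_le le_normalizer (zpowers_le.2 han)
    rcases hfree Y le_sup_left hYn (sup_zpowers_solvable han) with hab | ⟨K, hK, hYK, hf⟩
    · exact mem_centralizer_iff.2 fun w hw =>
        conj_commute_of_abelian hab (mem_sup_left hw) (mem_sup_right (mem_zpowers a))
    haveI hcyc : IsCyclic (P : Subgroup G) :=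
      CfsgLib.Core.FPF.isCyclic_of_isMulCommutative hYK hf hK (le_sup_left : (P : Subgroup G) ≤ Y)
    by_cases hsq : s = q
    · subst hsq
      have hmem : a ∈ (P : Subgroup G) := by
        have h1 : IsPGroup q (zpowers a) := IsPGroup.of_card (n := j) (by rw [Nat.card_zpowers, hsj])
        have h2 : IsPGroup q ((P : Subgroup G) ⊔ zpowers a : Subgroup G) :=
          P.isPGroup'.to_sup_of_normal_left' h1 (zpowers_le.2 han)
        exact P.is_maximal' h2 le_sup_left ▸ mem_sup_right (mem_zpowers a)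
      exact mem_centralizer_iff.2 fun w hw => conj_commute_of_abelian hPc hw hmem
    -- an element of order `s` centralises the element `y`
    set a1 := a ^ (orderOf a / s) with ha1def
    have hsd : s ∣ orderOf a := hsj ▸ dvd_pow_self s hj.ne'
    have ha1 : orderOf a1 = s := orderOf_pow_orderOf_div (orderOf_pos a).ne' hsd
    have ha1n : a1 ∈ normalizer (zpowers y : Set G) := by
      have hn : a1 ∈ normalizer ((P : Subgroup G) : Set G) := pow_mem han _
      rw [mem_normalizer_iff_cj]
      have hle : cj a1 (zpowers y) ≤ (P : Subgroup G) := fun w hw => by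
        rw [mem_cj] at hw
        have := (mem_normalizer_iff.1 hn _).1 (hP hw)
        simpa [mul_assoc] using this
      exact cyclic_eq_of_card hle hP (card_cj _ _)
    have hcomm := CfsgLib.Core.FPF.commute_of_prime_orders hYK hf hK
      (show a1 ∈ Y from pow_mem (mem_sup_right (mem_zpowers a)) _) (show y ∈ Y from mem_sup_left hyP)
      (by rw [ha1]; exact hs) (by rw [hyq]; exact hq) ha1n
    have hge := hmin hs (hclosed y a1 hy (fun e => hs.ne_one (by rw [← ha1, e, orderOf_one])) hcomm.eq) ha1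
    -- the image in the automorphism group is trivial
    set φ := normalizerMonoidHom (P : Subgroup G) ⟨a, han⟩ with hφ
    have h1 : orderOf φ ∣ s ^ j := by
      refine (orderOf_map_dvd _ _).trans ?_
      rw [← orderOf_coe, hsj]
    have h2 : orderOf φ ∣ Nat.card (MulAut (P : Subgroup G)) := orderOf_dvd_natCard _
    obtain ⟨e, he⟩ := IsPGroup.iff_card.1 P.isPGroup'
    rw [IsCyclic.card_mulAut, he] at h2
    have h3 : orderOf φ = 1 := by
      obtain ⟨i, -, hi⟩ := (Nat.dvd_prime_pow hs).1 h1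
      rw [hi]
      rcases Nat.eq_zero_or_pos i with rfl | hipos
      · rw [pow_zero]
      exfalso
      have hsd' : s ∣ Nat.totient (q ^ e) := (dvd_pow_self s hipos.ne').trans (hi ▸ h2)
      rcases Nat.eq_zero_or_pos e with rfl | hepos
      · simp at hsd'; exact hs.ne_one hsd'
      rw [Nat.totient_prime_pow hq hepos] at hsd'
      rcases hs.dvd_mul.1 hsd' with hd | hd
      · exact hsq ((Nat.prime_dvd_prime_iff_eq hs hq).1 (hs.dvd_of_dvd_pow hd))
      · have := Nat.le_of_dvd (by have := hq.two_le; omega) hd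
        omega
    rw [orderOf_eq_one_iff] at h3
    refine mem_centralizer_iff.2 fun w hw => ?_
    have h4 := congrArg Subtype.val (DFunLike.congr_fun h3 ⟨w, hw⟩)
    exact (mul_inv_eq_iff_eq_mul.1 (h4 : a * w * a⁻¹ = w)).symm
  obtain ⟨N, hN, hc⟩ := exists_complement P hNC
  rcases hN.eq_bot_or_eq_top with rfl | rfl
  · have := isComplement'_bot_left.1 hc
    rw [this] at hPs
    exact hns (solvable_of_top hPs)
  · exact (nontrivial_iff_ne_bot _).1 hPnt (isComplement'_top_left.1 hc)

/-- A simple group with a system is a CN group. -/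
theorem Sys.isCN : Cfsg.IsCNGroup G := by
  intro g hg
  obtain ⟨M, hM, hgM⟩ := h.covered hns g hg
  haveI := h.isNilpotent hns hM fun e => hg (mem_bot.1 (e ▸ hgM))
  exact Group.nilpotent_of_mulEquiv (subgroupOfEquivOfLe (h.cl hM hgM hg))

theorem Sys.cit : CIT G ∧ 2 ∣ Nat.card G :=
  cn_simple (fun hc => hns (haveI := hc; IsSimpleGroup.comm_iff_isSolvable.1 fun a b => mul_comm' a b)) (h.isCN hns)

/-- The kernel of an involution. -/
theorem Sys.embedded {M : Subgroup G} (hM : MaxSolv M) {z : G} (hz : orderOf z = 2) (hzF : z ∈ F M) :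
    IsPGroup 2 (F M) ∧ IsSyl (F M) ⊤ ∧ ∃ hE : Embedded M (F M), 2 ≤ hE.invCount ∧
      ∃ s t : G, s ∈ M ∧ t ∈ M ∧ orderOf s = 2 ∧ orderOf t = 2 ∧ s ≠ t ∧ s * t = t * s := by
  classical
  obtain ⟨hC, -⟩ := h.cit hns
  haveI : Fact (Nat.Prime 2) := ⟨Nat.prime_two⟩
  have hz1 : z ≠ 1 := Signalizer.involution_ne_one hz
  have hne : F M ≠ ⊥ := fun e => hz1 (mem_bot.1 (e ▸ hzF))
  haveI hnil := h.isNilpotent hns hM hne
  have hP : IsPGroup 2 (F M) := by
    intro x
    by_contra hno
    obtain ⟨m, hm, hm1⟩ := exists_odd_power (x : G) fun k hk => hno ⟨k, Subtype.ext (by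
      rw [coe_pow, coe_one, ← hk, pow_orderOf_eq_one])⟩
    have hcop : Nat.Coprime (orderOf (x ^ m)) (orderOf (⟨z, hzF⟩ : F M)) := by
      rw [← orderOf_coe, coe_pow, Subgroup.orderOf_mk, hz]; exact Nat.coprime_two_right.2 hm
    have hc' := congrArg Subtype.val (CfsgLib.OddLocal.commute_of_coprime_orderOf hnil hcop).eq
    exact hz1 (hC.eq_one hm hm1 (r := z) (k := 1) (by rw [hz, pow_one]) (by simpa using hc'))
  -- two-elements of `M` lie in the kernel
  have htwo : ∀ t ∈ M, (∃ k : ℕ, orderOf t = 2 ^ k) → t ∈ F M := by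
    intro t ht htk
    obtain ⟨k, hk⟩ := htk
    haveI : Nontrivial (F M ⊔ zpowers t : Subgroup G) :=
      ⟨⟨⟨z, mem_sup_left hzF⟩, 1, fun e => hz1 (congrArg Subtype.val e)⟩⟩
    have hpp : IsPGroup 2 (F M ⊔ zpowers t : Subgroup G) :=
      hP.to_sup_of_normal_left' (IsPGroup.of_card (n := k) (by rw [Nat.card_zpowers, hk]))
        (zpowers_le.2 (h.norm hM ht))
    haveI := hpp.center_nontrivial
    obtain ⟨⟨c, hc⟩, hc1⟩ := exists_ne (1 : center (F M ⊔ zpowers t : Subgroup G))
    have hc1' : (c : G) ≠ 1 := fun e => hc1 (Subtype.ext (Subtype.ext e))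
    have hcc : ∀ w ∈ F M ⊔ zpowers t, w * (c : G) = (c : G) * w := fun w hw =>
      congrArg Subtype.val (mem_center_iff.1 hc ⟨w, hw⟩)
    have hcF := h.cl hM hzF hz1 (mem_centralizer_singleton_iff.2 (hcc z (mem_sup_left hzF)).symm)
    exact h.cl hM hcF hc1' (mem_centralizer_singleton_iff.2 (hcc t (mem_sup_right (mem_zpowers t))))
  have hSyl : IsSyl (F M) ⊤ := by
    refine ⟨le_top, hP, fun R hR _ hR2 => ?_⟩
    by_contra hne'
    obtain ⟨y, hyR, hyn, hyF⟩ : ∃ y ∈ R, y ∈ normalizer (F M : Set G) ∧ y ∉ F M := by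
      by_contra hno
      push Not at hno
      exact hne' (eq_of_normalizer_inf_le hR2 hR fun y hy => hno y hy.1 hy.2)
    have hyM : y ∈ M := by
      by_contra hyM
      exact hz1 (h.ti hM y hyM z hzF ((mem_normalizer_iff''.1 hyn z).1 hzF))
    exact hyF (htwo y hyM (orderOf_two_pow_of_mem hR2 hyR))
  have hMt : M ≠ ⊤ := fun e => hns (solvable_of_top (e ▸ hM.1))
  have hse : Cfsg.IsStronglyEmbedded M := by
    refine ⟨hMt, even_iff_two_dvd.2 (hz ▸ Subgroup.orderOf_dvd_natCard M (h.le hM hzF)), fun g hg => ?_⟩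
    rw [Nat.odd_iff]
    by_contra heven
    obtain ⟨⟨i, hi12⟩, hi'⟩ := exists_prime_orderOf_dvd_card' 2
      (show 2 ∣ Nat.card ↥(M ⊓ M.map (MulAut.conj g).toMonoidHom) by omega)
    rw [Subgroup.orderOf_mk] at hi'
    obtain ⟨hi1, hi2⟩ := mem_inf.1 hi12
    have hi3 : g⁻¹ * i * g ∈ M := mem_cj.1 hi2
    refine Signalizer.involution_ne_one hi' (h.ti hM g hg i (htwo i hi1 ⟨1, by rw [hi', pow_one]⟩)
      (htwo _ hi3 ⟨1, ?_⟩))
    rw [show g⁻¹ * i * g = g⁻¹ * i * g⁻¹⁻¹ by rw [inv_inv], orderOf_conj, hi', pow_one]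
  have hE : Embedded M (F M) := ⟨hse, h.le hM, h.norm hM, fun t ht h2 => htwo t ht ⟨1, by rw [h2, pow_one]⟩,
    fun x hx hx1 => h.cl hM hx hx1, fun g hg x hx => h.ti hM g hg x hx⟩
  -- two commuting involutions
  obtain ⟨u0, hu0⟩ : ∃ u0 : center (F M), orderOf u0 = 2 := by
    haveI : Nontrivial (F M) := (nontrivial_iff_ne_bot _).2 hne
    haveI := hP.center_nontrivial
    obtain ⟨n, hn⟩ := (hP.to_subgroup (center (F M))).exists_card_eq
    refine exists_prime_orderOf_dvd_card' 2 ?_
    have hc1 : 1 < Nat.card (center (F M)) := Finite.one_lt_card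
    rw [hn] at hc1 ⊢
    exact dvd_pow_self 2 fun h0 => by rw [h0] at hc1; simp at hc1
  set u : G := ((u0 : F M) : G) with hu_def
  have hu : orderOf u = 2 := by rw [hu_def, orderOf_coe, orderOf_coe, hu0]
  have huF : u ∈ F M := (u0 : F M).2
  obtain ⟨a, haM, haF⟩ := h.exists_outside hns hM hne
  have hv : orderOf (a * u * a⁻¹) = 2 := (orderOf_conj a u).trans hu
  have hvF : a * u * a⁻¹ ∈ F M := h.conj_mem hM haM huF
  have huv : u ≠ a * u * a⁻¹ := fun e =>
    Signalizer.involution_ne_one hu (h.fpf hM a haM haF u huF (eq_mul_inv_iff_mul_eq.1 e))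
  have hcomm : u * (a * u * a⁻¹) = a * u * a⁻¹ * u :=
    (congrArg Subtype.val (mem_center_iff.1 u0.2 ⟨_, hvF⟩)).symm
  refine ⟨hP, hSyl, hE, ?_, u, _, h.le hM huF, h.le hM hvF, hu, hv, huv, hcomm⟩
  haveI : Nontrivial {t : G // orderOf t = 2 ∧ t ∈ M} :=
    ⟨⟨⟨u, hu, h.le hM huF⟩, ⟨_, hv, h.le hM hvF⟩, fun e => huv (congrArg Subtype.val e)⟩⟩
  exact Finite.one_lt_card

theorem Sys.exists_embedded : ∃ (M : Subgroup G) (z : G), MaxSolv M ∧ orderOf z = 2 ∧ z ∈ F M := by
  haveI : Fact (Nat.Prime 2) := ⟨Nat.prime_two⟩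
  obtain ⟨z, hz⟩ := exists_prime_orderOf_dvd_card' 2 (h.cit hns).2
  obtain ⟨M, hM, hzF⟩ := h.covered hns z (Signalizer.involution_ne_one hz)
  exact ⟨M, z, hM, hz, hzF⟩

end simple

end CfsgLib.CIT.FrobSystem
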