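import Cfsg.Agent.Lib.CIT.FrobeniusSystem

/-!
# The classification of the groups with a Frobenius system
-/

set_option autoImplicit false
set_option linter.all false

namespace CfsgLib.CIT.FrobSystem

open Subgroup
open scoped commutatorElement Pointwise
open CfsgLib.Signalizer (involution_sq involution_inv orderOf_eq_two_of orderOf_conj)

universe u

/-- Odd degree and a 2-group as point kernel: `SL(2, 2ⁿ)` or a Suzuki group. -/
theorem classify_two_kernel {G : Type u} [Group G] [Finite G] [IsSimpleGroup G] {M H : Subgroup G}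
    (h : Embedded M H) (hi : 2 ≤ h.invCount) (hP : IsPGroup 2 H)
    (hcomm : ∃ s t : G, s ∈ M ∧ t ∈ M ∧ orderOf s = 2 ∧ orderOf t = 2 ∧ s ≠ t ∧ s * t = t * s)
    (hfaith : FaithfulSMul G (G ⧸ M)) :
    (∃ (K : Type) (_ : Field K) (_ : Fintype K), (∃ n : ℕ, 2 ≤ n ∧ Fintype.card K = 2 ^ n) ∧
        Nonempty (G ≃* Matrix.SpecialLinearGroup (Fin 2) K)) ∨
      Cfsg.Lie.IsoSuzuki G := by
  classical
  haveI : Fintype (G ⧸ M) := Fintype.ofFinite _
  have hZ := h.isZassenhaus hi hcomm hfaith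
  obtain ⟨g, hg⟩ : ∃ g : G, g ∉ M := by
    by_contra hno
    push Not at hno
    exact h.se.1 (eq_top_iff.2 fun g _ => hno g)
  have hgo : ((1 : G) : G ⧸ M) ≠ (g : G ⧸ M) := fun e => hg (by simpa using (QuotientGroup.eq.1 e))
  set o : G ⧸ M := ((1 : G) : G ⧸ M) with ho
  have hd : Nat.card ↥(MulAction.stabilizer G o ⊓ MulAction.stabilizer G (g : G ⧸ M) : Subgroup G) = h.invCount :=
    h.card_two hgo
  have hodd : Odd (Nat.card ↥(MulAction.stabilizer G o ⊓ MulAction.stabilizer G (g : G ⧸ M) : Subgroup G)) := by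
    rw [Nat.odd_iff]
    by_contra heven
    haveI : Fact (Nat.Prime 2) := ⟨Nat.prime_two⟩
    obtain ⟨⟨d, hd'⟩, hdo⟩ := exists_prime_orderOf_dvd_card' 2
      (show 2 ∣ Nat.card ↥(MulAction.stabilizer G o ⊓ MulAction.stabilizer G (g : G ⧸ M) : Subgroup G) by omega)
    rw [Subgroup.orderOf_mk] at hdo
    have := h.odd_of_two hgo (h.mem_two.1 hd').1 (h.mem_two.1 hd').2
    rw [hdo] at this
    exact absurd this (by decide)
  have hKa : h.ker o ≤ MulAction.stabilizer G o := fun a ha =>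
    MulAction.mem_stabilizer_iff.2 (h.fix_of_inH (h.mem_ker.1 ha))
  have hKc : Nat.card (h.ker o) + 1 = Fintype.card (G ⧸ M) := by
    rw [h.card_ker, ← Nat.card_eq_fintype_card, h.card_points hi]
  have hKfix : ∀ u ∈ h.ker o, u ≠ 1 → ∀ c : G ⧸ M, u • c = c → c = o := fun u hu hu1 c hc => by
    by_contra hne
    exact hu1 (h.semireg (h.mem_ker.1 hu) hc (Ne.symm hne))
  have hKP : IsPGroup 2 (h.ker o) := isPGroup_cj hP
  by_cases hab : ∀ x ∈ h.ker o, ∀ y ∈ h.ker o, x * y = y * x
  swap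
  · push Not at hab
    obtain ⟨x, hx, y, hy, hxy⟩ := hab
    obtain ⟨m, K⟩ := CfsgLib.PGroups.SuzukiZass.exists_kern_of_two hZ hgo hKa hKc hKfix hKP
      ⟨⟨x, hx⟩, ⟨y, hy⟩, fun e => hxy (congrArg Subtype.val e)⟩
    exact Or.inr (CfsgLib.CIT.SuzukiRecog.isoSuzuki_of_kern K)
  left
  obtain ⟨-, hge⟩ := CfsgLib.Perm.zass_abelian_kernel_simple _ G (G ⧸ M) hZ o (g : G ⧸ M) hgo rfl hodd (h.ker o)
    hKa hKc hKfix hab
  have hdvd := CfsgLib.Perm.zass_card_two_stab_dvd hZ hgo
  -- `|H|` is even, so the two-point stabiliser is the largest possible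
  obtain ⟨t, ht, htM⟩ := (Nat.card_pos_iff.1 (show 0 < h.invCount by omega)).1
  have hHeven : 2 ∣ Nat.card H := ht ▸ Subgroup.orderOf_dvd_natCard _ (h.involution_mem t htM ht)
  rw [← hKc, h.card_ker] at hge hdvd
  have hcard : Nat.card ↥(MulAction.stabilizer G o ⊓ MulAction.stabilizer G (g : G ⧸ M) : Subgroup G) + 1 =
      Nat.card H := by
    obtain ⟨k, hk⟩ := hdvd
    have hH2 : 2 ≤ Nat.card H := Nat.le_of_dvd Nat.card_pos hHeven
    rw [hd] at hge hk ⊢
    rw [hd] at hodd
    obtain ⟨c, hc⟩ := hodd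
    rcases k with _ | _ | _ | k
    · omega
    · omega
    · exfalso; omega
    · exfalso
      have := Nat.mul_le_mul_left h.invCount (show 3 ≤ k + 1 + 1 + 1 by omega)
      omega
  obtain ⟨h3, -⟩ := CfsgLib.Perm.zass_sharply_three hZ hgo (by rw [← hKc, h.card_ker]; omega)
  haveI := hfaith
  set P := (MulAction.toPermHom G (G ⧸ M)).range with hPdef
  have h3' : MulAction.IsMultiplyPretransitive P (G ⧸ M) 3 := ⟨fun s t => by
    obtain ⟨a, ha⟩ := h3.exists_smul_eq s t
    refine ⟨⟨MulAction.toPermHom G (G ⧸ M) a, a, rfl⟩, Function.Embedding.ext fun i => ?_⟩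
    exact DFunLike.congr_fun ha i⟩
  have hfix : ∀ (a : P) (x y z : G ⧸ M), x ≠ y → x ≠ z → y ≠ z → a • x = x → a • y = y → a • z = z → a = 1 := by
    rintro ⟨_, a, rfl⟩ x y z hxy hxz hyz hx hy hz
    have ha : a = 1 := hZ.2.2.1 a x y z hxy hyz hxz hx hy hz
    exact Subtype.ext (by subst ha; exact map_one _)
  have hodd' : Odd (Fintype.card (G ⧸ M)) := by
    rw [← hKc, h.card_ker]
    obtain ⟨c, hc⟩ := hHeven
    exact ⟨c, by omega⟩
  obtain ⟨j, hj, hcardα, F, iF, iFt, hF, ⟨e⟩⟩ := CfsgLib.Perm.SharplyThreeOdd.exists_iso_sl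
    (CfsgLib.Char.Exceptional.zass_three_le hZ) hodd' P h3' hfix
  refine ⟨F, iF, iFt, ⟨j, ?_, hF⟩, ⟨(MonoidHom.ofInjective MulAction.toPerm_injective).trans e⟩⟩
  rw [← hKc, h.card_ker] at hcardα
  rcases j with _ | _ | j
  · omega
  · exfalso; rw [pow_one] at hcardα; rw [hd] at hcard; omega
  · omega

variable {G : Type u} [Group G] [Finite G] {F : Subgroup G → Subgroup G}

omit [Finite G] in
theorem simple_faithful [IsSimpleGroup G] {M : Subgroup G} (hM : M ≠ ⊤) : FaithfulSMul G (G ⧸ M) := by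
  refine ⟨fun {a b} hab => ?_⟩
  have hK : M.normalCore = ⊥ := by
    rcases (inferInstance : M.normalCore.Normal).eq_bot_or_eq_top with e | e
    · exact e
    · exact absurd (top_le_iff.1 (e ▸ normalCore_le M)) hM
  have hmem : b⁻¹ * a ∈ M.normalCore := by
    rw [normalCore_eq_ker, MonoidHom.mem_ker]
    ext p
    simp [mul_smul, hab p]
  rw [hK, mem_bot, inv_mul_eq_one] at hmem
  exact hmem.symm

/-- The simple case. -/
theorem Sys.classify_simple [IsSimpleGroup G] (h : Sys F) (hns : ¬ Group.IsSolvable G) :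
    (∃ (K : Type) (_ : Field K) (_ : Fintype K), (∃ n : ℕ, 2 ≤ n ∧ Fintype.card K = 2 ^ n) ∧
        Nonempty (G ≃* Matrix.SpecialLinearGroup (Fin 2) K)) ∨
      Cfsg.Lie.IsoSuzuki G := by
  obtain ⟨M, z, hM, hz, hzF⟩ := h.exists_embedded hns
  obtain ⟨hP, -, hE, hi, hcomm⟩ := h.embedded hns hM hz hzF
  exact classify_two_kernel hE hi hP hcomm (simple_faithful hE.se.1)

/-- A subgroup normalised by a group with trivial solvable normal subgroups and containing a covered element has
trivial centraliser in it. -/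
theorem Sys.centralizer_eq_bot (h : Sys F) (L : Subgroup G) [L.Normal] (hLns : ¬ Group.IsSolvable L)
    (hns : ¬ Group.IsSolvable G) : centralizer (L : Set G) = ⊥ := by
  obtain ⟨F', hF', hcomp⟩ := h.restrict L
  obtain ⟨M', hM', hne⟩ := hF'.exists_mem hLns
  obtain ⟨M, hM, -, e⟩ := hcomp M' hM'
  obtain ⟨x, hx, hx1⟩ := (F' M').bot_or_exists_ne_one.resolve_left hne
  rw [e, mem_subgroupOf] at hx
  have hle : centralizer (L : Set G) ≤ M := fun c hc => h.le hM (h.cl hM hx (fun e => hx1 (Subtype.ext e))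
    (mem_centralizer_singleton_iff.2 (mem_centralizer_iff.1 hc (x : G) x.2).symm))
  haveI := solvable_of_le hle hM.1
  exact h.solvable_normal_eq_bot hns

/-- A nonsolvable group with a system is simple. -/
theorem Sys.isSimpleGroup (h : Sys F) (hns : ¬ Group.IsSolvable G) : IsSimpleGroup G := by
  classical
  haveI : Nontrivial G := by
    by_contra hno
    rw [not_nontrivial_iff_subsingleton] at hno
    exact hns inferInstance
  obtain ⟨L, hLn, hLb, hLmin⟩ := CfsgLib.Components.exists_minimal_normal (G := G)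
  haveI := hLn
  have hLns : ¬ Group.IsSolvable L := fun hs => hLb (haveI := hs; h.solvable_normal_eq_bot hns)
  have hCL := h.centralizer_eq_bot L hLns hns
  obtain ⟨F', hF', hcomp⟩ := h.restrict L
  -- `L` is simple
  haveI hLs : IsSimpleGroup L := by
    haveI : Nontrivial L := (nontrivial_iff_ne_bot L).2 hLb
    obtain ⟨K, hKn, hKb, hKmin⟩ := CfsgLib.Components.exists_minimal_normal (G := L)
    haveI := hKn
    have hKns : ¬ Group.IsSolvable K := fun hs => hKb (haveI := hs; hF'.solvable_normal_eq_bot hLns)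
    have hCK := hF'.centralizer_eq_bot K hKns hLns
    -- `K` is normal in the whole group
    have hKG : (K.map L.subtype).Normal := by
      refine ⟨fun x hx g => ?_⟩
      obtain ⟨k, hk, rfl⟩ := hx
      let c : L →* L := ((MulAut.conjNormal g : MulAut L) : L →* L)
      have hsurj : Function.Surjective c := (MulAut.conjNormal g : MulAut L).surjective
      haveI : (K.map c).Normal := hKn.map c hsurj
      by_cases hKc : K.map c ⊓ K = ⊥
      · exfalso
        have hcomm : ∀ a ∈ K.map c, ∀ b ∈ K, a * b = b * a := fun a ha b hb => by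
          have h1 : a * b * a⁻¹ * b⁻¹ ∈ K.map c ⊓ K := by
            refine mem_inf.2 ⟨?_, mul_mem (hKn.conj_mem b hb a) (inv_mem hb)⟩
            rw [show a * b * a⁻¹ * b⁻¹ = a * (b * a⁻¹ * b⁻¹) by group]
            exact mul_mem ha (Subgroup.Normal.conj_mem inferInstance _ (inv_mem ha) b)
          rw [hKc, mem_bot] at h1
          exact mul_inv_eq_iff_eq_mul.1 (mul_inv_eq_one.1 h1)
        obtain ⟨b, hb, hb1⟩ := K.bot_or_exists_ne_one.resolve_left hKb
        have : c b ∈ centralizer (K : Set L) := mem_centralizer_iff.2 fun a ha =>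
          (hcomm (c b) (mem_map_of_mem c hb) a ha).symm
        rw [hCK, mem_bot] at this
        exact hb1 ((MulAut.conjNormal g : MulAut L).injective (this.trans (map_one _).symm))
      · have hle : K.map c ≤ K := by
          rcases hKmin (K.map c ⊓ K) inferInstance inf_le_right with e | e
          · exact absurd e hKc
          · have hKle : K ≤ K.map c := inf_eq_right.1 e
            have hcard : Nat.card (K.map c) = Nat.card K :=
              (Nat.card_congr (K.equivMapOfInjective c (MulAut.conjNormal g : MulAut L).injective).toEquiv).symm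
            exact (eq_of_le_of_card_ge hKle hcard.le).ge
        exact ⟨c k, hle (mem_map_of_mem c hk), MulAut.conjNormal_apply g k⟩
    have hKL : K = ⊤ := by
      have h1 : K.map L.subtype = L := (hLmin _ hKG (map_subtype_le K)).resolve_left
        (fun e => hKb ((map_eq_bot_iff_of_injective _ L.subtype_injective).1 e))
      exact map_injective L.subtype_injective (h1.trans (by rw [← MonoidHom.range_eq_map, range_subtype]))
    refine ⟨fun N hN => ?_⟩
    by_contra hcon
    push Not at hcon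
    exact hcon.2 (((hKmin N hN (hKL ▸ le_top)).resolve_left hcon.1).trans hKL)
  -- the kernel of an involution of `L`
  obtain ⟨M', z, hM', hz, hzF⟩ := hF'.exists_embedded hLns
  obtain ⟨hP, hSyl, hE, hi, -⟩ := hF'.embedded hLns hM' hz hzF
  obtain ⟨M, hM, rfl, hFeq⟩ := hcomp M' hM'
  rw [hFeq] at hzF
  have hzG : (z : G) ∈ F M := hzF
  have hzne : (z : G) ≠ 1 := fun e => Signalizer.involution_ne_one hz (Subtype.ext e)
  set S := (F M).subgroupOf L with hS
  rw [hFeq] at hP hSyl
  -- an element of odd order of `M ∩ L` outside the kernel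
  obtain ⟨τ, hτM, hτF⟩ := hF'.exists_outside hLns hM' (fun e => Signalizer.involution_ne_one hz
    (mem_bot.1 (e ▸ (hFeq.symm ▸ hzF))))
  rw [hFeq, mem_subgroupOf] at hτF
  have hτM' : (τ : G) ∈ M := hτM
  -- the kernel lies in `L`
  have hFL : F M ≤ L := by
    intro f hf
    let ψ : S → S := fun v => ⟨τ * v * τ⁻¹ * (v : L)⁻¹,
      mul_mem (show τ * v * τ⁻¹ ∈ S from h.conj_mem hM hτM' v.2) (inv_mem v.2)⟩
    have hinj : Function.Injective ψ := by
      intro v w e
      have e' : τ * v * τ⁻¹ * (v : L)⁻¹ = τ * w * τ⁻¹ * (w : L)⁻¹ := congrArg Subtype.val e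
      have hfx : ((w : L)⁻¹ * v) * τ = τ * ((w : L)⁻¹ * v) := by
        calc ((w : L)⁻¹ * v) * τ = (w : L)⁻¹ * (τ * w * τ⁻¹ * (w : L)⁻¹)⁻¹ * ((τ * v * τ⁻¹ * (v : L)⁻¹)) * v * τ := by
              rw [e']; group
          _ = τ * ((w : L)⁻¹ * v) := by group
      have h1 := h.fpf hM (τ : G) hτM' hτF _ (show (((w : L)⁻¹ * v : L) : G) ∈ F M from mul_mem (inv_mem w.2) v.2)
        (congrArg Subtype.val hfx :)
      exact Subtype.ext (inv_mul_eq_one.1 (Subtype.ext h1 : (w : L)⁻¹ * v = 1)).symm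
    have hsL : (τ : G) * f * (τ : G)⁻¹ * f⁻¹ ∈ L := by
      rw [mul_assoc, mul_assoc]
      refine mul_mem τ.2 ?_
      rw [← mul_assoc]
      exact hLn.conj_mem _ (inv_mem τ.2) f
    obtain ⟨v, hv⟩ := (Finite.injective_iff_surjective.1 hinj)
      ⟨⟨_, hsL⟩, mul_mem (h.conj_mem hM hτM' hf) (inv_mem hf)⟩
    have hv' : (τ : G) * ((v : L) : G) * (τ : G)⁻¹ * ((v : L) : G)⁻¹ = (τ : G) * f * (τ : G)⁻¹ * f⁻¹ :=
      congrArg (fun r : S => ((r : L) : G)) hv
    set w : G := ((v : L) : G)⁻¹ * f with hw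
    have hw1 : w = 1 := by
      refine h.fpf hM (τ : G) hτM' hτF w (mul_mem (inv_mem v.2) hf) ?_
      calc w * τ = ((v : L) : G)⁻¹ * ((τ : G) * f * (τ : G)⁻¹ * f⁻¹)⁻¹ * ((τ : G) * f) := by rw [hw]; group
        _ = τ * w := by rw [← hv', hw]; group
    rw [hw, inv_mul_eq_one] at hw1
    exact hw1 ▸ (v : L).2
  -- `M` lies in `L`
  obtain ⟨u0, hu0⟩ : ∃ u0 : center S, orderOf u0 = 2 := by
    haveI : Fact (Nat.Prime 2) := ⟨Nat.prime_two⟩
    haveI : Nontrivial S := ⟨⟨⟨z, hzF⟩, 1, fun e => Signalizer.involution_ne_one hz (congrArg Subtype.val e)⟩⟩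
    haveI := hP.center_nontrivial
    obtain ⟨n, hn⟩ := (hP.to_subgroup (center S)).exists_card_eq
    refine exists_prime_orderOf_dvd_card' 2 ?_
    have hc1 : 1 < Nat.card (center S) := Finite.one_lt_card
    rw [hn] at hc1 ⊢
    exact dvd_pow_self 2 fun h0 => by rw [h0] at hc1; simp at hc1
  set u : L := ((u0 : S) : L) with hu_def
  have hu : orderOf u = 2 := by rw [hu_def, orderOf_coe, orderOf_coe, hu0]
  have huF : (u : G) ∈ F M := (u0 : S).2
  have hu1 : (u : G) ≠ 1 := fun e => Signalizer.involution_ne_one hu (Subtype.ext e)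
  have hML : M ≤ L := by
    intro m hm
    set a : L := ⟨m * u * m⁻¹, hLn.conj_mem _ u.2 m⟩ with ha
    have haM : a ∈ M.subgroupOf L := h.le hM (h.conj_mem hM hm huF)
    have hao : orderOf a = 2 := by
      rw [← orderOf_coe, show (a : G) = m * u * m⁻¹ from rfl, orderOf_conj, orderOf_coe, hu]
    have huM : u ∈ M.subgroupOf L := h.le hM huF
    obtain ⟨l, hl⟩ : ∃ l : L, l ∉ M.subgroupOf L := by
      by_contra hno
      push Not at hno
      exact hE.se.1 (eq_top_iff.2 fun l _ => hno l)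
    have hne : ((1 : L) : L ⧸ M.subgroupOf L) ≠ (l : L ⧸ M.subgroupOf L) :=
      fun e => hl (by simpa using QuotientGroup.eq.1 e)
    obtain ⟨d, hd, -, hda⟩ := TwoGroups.SE.exists_conj_fixing hE.se hne hu
      ((TwoGroups.SE.smul_mk_eq_iff u 1).2 (by simpa using huM)) hao
      ((TwoGroups.SE.smul_mk_eq_iff a 1).2 (by simpa using haM))
    have hda' : (d : G) * u * (d : G)⁻¹ = m * u * m⁻¹ := congrArg Subtype.val hda
    have hc : m⁻¹ * d ∈ centralizer ({(u : G)} : Set G) := mem_centralizer_singleton_iff.2 (by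
      calc m⁻¹ * (d : G) * u = m⁻¹ * ((d : G) * u * (d : G)⁻¹) * d := by group
        _ = u * (m⁻¹ * d) := by rw [hda']; group)
    have h1 : m⁻¹ * (d : G) ∈ L := hFL (h.cl hM huF hu1 hc)
    have h2 := mul_mem d.2 (inv_mem h1)
    simpa using h2
  -- Frattini
  have htop : ∀ g : G, g ∈ L := by
    intro g
    let c : L →* L := ((MulAut.conjNormal g : MulAut L) : L →* L)
    have hc : Function.Injective c := (MulAut.conjNormal g : MulAut L).injective
    have hSyl' : IsSyl (S.map c) ⊤ := by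
      refine ⟨le_top, hP.map c, fun R hle _ hR => ?_⟩
      refine (eq_of_le_of_card_ge hle ?_).symm
      obtain ⟨T, hT, hRT⟩ := exists_isSyl (le_top : R ≤ ⊤) hR
      rw [← Nat.card_congr (S.equivMapOfInjective c hc).toEquiv, hSyl.card_eq hT]
      exact card_le_of_le hRT
    obtain ⟨l, -, hl⟩ := hSyl.exists_conj hSyl'
    have hcu : c u ∈ cj l S := hl ▸ mem_map_of_mem c (u0 : S).2
    rw [mem_cj, hS, mem_subgroupOf] at hcu
    have hcu' : (l : G)⁻¹ * (g * u * g⁻¹) * l ∈ F M := hcu
    have hmem : g⁻¹ * (l : G) ∈ M := by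
      by_contra hno
      have h3 := h.ti hM ((g⁻¹ * (l : G))) hno (u : G) huF (by
        simpa [mul_assoc] using hcu')
      exact hu1 h3
    have h4 := mul_mem l.2 (inv_mem (hML hmem))
    simpa using h4
  have hLtop : L = ⊤ := eq_top_iff.2 fun g _ => htop g
  subst hLtop
  exact (topEquiv (G := G)).isSimpleGroup_congr.1 hLs

end CfsgLib.CIT.FrobSystem
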