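import Cfsg.Agent.Lib.CIT.Natural

/-!
# Local subgroups of a CIT group: the quotient by the 2-core acting on its central involutions
-/

set_option autoImplicit false
set_option linter.all false

namespace CfsgLib.CIT

open Subgroup
open CfsgLib.Signalizer (involution_sq involution_inv orderOf_eq_two_of orderOf_conj)

variable {G : Type*} [Group G]

/-- A lift of odd order of a nontrivial element of odd order, up to passing to a power. -/
theorem exists_odd_lift [Finite G] {H : Type*} [Group H] (f : G →* H) (hf : Function.Surjective f) {q : H}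
    (hq : Odd (orderOf q)) (hq1 : q ≠ 1) :
    ∃ x : G, Odd (orderOf x) ∧ f x ≠ 1 ∧ ∃ n : ℕ, f x = q ^ n := by
  obtain ⟨x, rfl⟩ := hf q
  obtain ⟨e, m, hm, he⟩ := Nat.exists_eq_two_pow_mul_odd (orderOf_pos x).ne'
  have h1 : orderOf (x ^ 2 ^ e) = m := by
    rw [orderOf_pow_of_dvd (pow_ne_zero _ two_ne_zero) (he ▸ dvd_mul_right _ _), he,
      Nat.mul_div_cancel_left _ (pow_pos two_pos e)]
  refine ⟨x ^ 2 ^ e, h1 ▸ hm, fun h => hq1 ?_, 2 ^ e, map_pow f x _⟩
  rw [map_pow] at h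
  have h2 : orderOf (f x) ∣ 2 ^ e := orderOf_dvd_of_pow_eq_one h
  exact orderOf_eq_one_iff.1 (Nat.eq_one_of_dvd_coprimes (Nat.Coprime.pow_left e (Nat.coprime_two_left.2 hq)) h2 dvd_rfl)

/-- `r ↦ [x, r]` is a bijection of a normalised 2-subgroup. -/
theorem CIT.exists_comm_eq [Finite G] (hC : CIT G) {R : Subgroup G} (hR : IsPGroup 2 R) {x : G}
    (hx : Odd (orderOf x)) (hx1 : x ≠ 1) (hn : x ∈ normalizer (R : Set G)) {c : G} (hc : c ∈ R) :
    ∃ r ∈ R, x * r * x⁻¹ * r⁻¹ = c := by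
  have hmem : ∀ r ∈ R, x * r * x⁻¹ * r⁻¹ ∈ R := fun r hr =>
    mul_mem ((mem_normalizer_iff.1 hn r).1 hr) (inv_mem hr)
  have hinj : Function.Injective (fun r : R => (⟨x * r * x⁻¹ * (r : G)⁻¹, hmem r r.2⟩ : R)) := by
    intro r s h
    have h' : x * r * x⁻¹ * (r : G)⁻¹ = x * s * x⁻¹ * (s : G)⁻¹ := congrArg Subtype.val h
    have hcomm : x * ((s : G)⁻¹ * r) = (s : G)⁻¹ * r * x := by
      calc x * ((s : G)⁻¹ * r) = (x * s * x⁻¹)⁻¹ * (x * r * x⁻¹ * (r : G)⁻¹) * r * x := by group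
        _ = (x * s * x⁻¹)⁻¹ * (x * s * x⁻¹ * (s : G)⁻¹) * r * x := by rw [h']
        _ = (s : G)⁻¹ * r * x := by group
    have := hC.eq_one_of_mem hx hx1 hR (mul_mem (inv_mem s.2) r.2) hcomm
    exact Subtype.ext (inv_mul_eq_one.1 this).symm
  obtain ⟨r, hr⟩ := (Finite.injective_iff_surjective.1 hinj) ⟨c, hc⟩
  exact ⟨r, r.2, congrArg Subtype.val hr⟩

/-- An element of odd order fixing a coset of a normalised 2-subgroup fixes an element of it. -/
theorem CIT.exists_commute_coset [Finite G] (hC : CIT G) {R : Subgroup G} (hR : IsPGroup 2 R) {x y : G}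
    (hx : Odd (orderOf x)) (hx1 : x ≠ 1) (hn : x ∈ normalizer (R : Set G)) (h : y⁻¹ * (x * y * x⁻¹) ∈ R) :
    ∃ r ∈ R, x * (y * r) = y * r * x := by
  obtain ⟨r, hr, he⟩ := hC.exists_comm_eq hR hx hx1 hn (inv_mem h)
  refine ⟨r, hr, ?_⟩
  calc x * (y * r) = y * (y⁻¹ * (x * y * x⁻¹)) * (x * r * x⁻¹ * r⁻¹) * r * x := by group
    _ = y * r * x := by rw [he]; group

/-- The coset of `x⁻¹` modulo a normalised 2-subgroup consists of conjugates of `x⁻¹`. -/
theorem CIT.exists_conj_coset [Finite G] (hC : CIT G) {R : Subgroup G} (hR : IsPGroup 2 R) {x z : G}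
    (hx : Odd (orderOf x)) (hx1 : x ≠ 1) (hn : x ∈ normalizer (R : Set G)) (h : x * z ∈ R) :
    ∃ r ∈ R, z = r * x⁻¹ * r⁻¹ := by
  obtain ⟨r, hr, he⟩ := hC.exists_comm_eq hR hx hx1 hn h
  refine ⟨r, hr, mul_left_cancel (a := x) ?_⟩
  rw [← he]
  group

/-- The involutions, and the identity, in the centre of the 2-core. -/
def zcore (X : Subgroup G) : Subgroup G where
  carrier := {w | w ∈ core X ∧ w * w = 1 ∧ ∀ r ∈ core X, r * w = w * r}
  one_mem' := ⟨one_mem _, mul_one 1, fun r _ => by rw [mul_one, one_mul]⟩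
  mul_mem' := fun {a b} ha hb => ⟨mul_mem ha.1 hb.1, by
    rw [show a * b * (a * b) = a * (b * a) * b by group, ha.2.2 b hb.1,
      show a * (a * b) * b = (a * a) * (b * b) by group, ha.2.1, hb.2.1, one_mul],
    fun r hr => by rw [← mul_assoc, ha.2.2 r hr, mul_assoc, hb.2.2 r hr, mul_assoc]⟩
  inv_mem' := fun {a} ha => ⟨inv_mem ha.1, by rw [← mul_inv_rev, ha.2.1, inv_one],
    fun r hr => (Commute.inv_right (ha.2.2 r hr : Commute r a)).eq⟩

theorem mem_zcore {X : Subgroup G} {w : G} :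
    w ∈ zcore X ↔ w ∈ core X ∧ w * w = 1 ∧ ∀ r ∈ core X, r * w = w * r := Iff.rfl

theorem zcore_le (X : Subgroup G) : zcore X ≤ core X := fun w hw => hw.1

theorem zcore_sq {X : Subgroup G} {w : G} (hw : w ∈ zcore X) : w * w = 1 := hw.2.1

theorem zcore_comm {X : Subgroup G} {a b : G} (ha : a ∈ zcore X) (hb : b ∈ zcore X) : a * b = b * a :=
  hb.2.2 a ha.1

theorem zcore_elementary (X : Subgroup G) : Cfsg.IsElementaryAbelian 2 (zcore X) :=
  ⟨⟨⟨fun a b => Subtype.ext (zcore_comm a.2 b.2)⟩⟩, fun a ha => by rw [pow_two]; exact zcore_sq ha⟩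

variable [Finite G]

theorem zcore_normalized (X : Subgroup G) : X ≤ normalizer (zcore X : Set G) := by
  have key : ∀ x ∈ X, ∀ w ∈ zcore X, x * w * x⁻¹ ∈ zcore X := by
    intro x hx w hw
    have hn := mem_normalizer_iff.1 (core_normalized X hx)
    refine ⟨(hn w).1 hw.1, by rw [show x * w * x⁻¹ * (x * w * x⁻¹) = x * (w * w) * x⁻¹ by group, hw.2.1]; group,
      fun r hr => ?_⟩
    have hr' : x⁻¹ * r * x ∈ core X := (hn _).2 (by rwa [show x * (x⁻¹ * r * x) * x⁻¹ = r by group])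
    calc r * (x * w * x⁻¹) = x * ((x⁻¹ * r * x) * w) * x⁻¹ := by group
      _ = x * (w * (x⁻¹ * r * x)) * x⁻¹ := by rw [hw.2.2 _ hr']
      _ = _ := by group
  intro x hx
  rw [mem_normalizer_iff]
  refine fun w => ⟨key x hx w, fun hw => ?_⟩
  have := key x⁻¹ (inv_mem hx) _ hw
  simpa [mul_assoc] using this

theorem zcore_ne_bot {X : Subgroup G} (h : core X ≠ ⊥) : zcore X ≠ ⊥ := by
  haveI : Fact (Nat.Prime 2) := ⟨Nat.prime_two⟩
  haveI : Nontrivial (core X) := (nontrivial_iff_ne_bot _).2 h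
  haveI := (isPGroup_core X).center_nontrivial
  obtain ⟨n, hn⟩ := ((isPGroup_core X).to_subgroup (center (core X))).exists_card_eq
  have h1 : 1 < Nat.card (center (core X)) := Finite.one_lt_card
  obtain ⟨w, hw⟩ := exists_prime_orderOf_dvd_card' 2
    (show 2 ∣ Nat.card (center (core X)) by
      rw [hn] at h1 ⊢; exact dvd_pow_self 2 fun h0 => by rw [h0] at h1; simp at h1)
  have hw' : orderOf ((w : core X) : G) = 2 := by rw [orderOf_coe, orderOf_coe, hw]
  intro hbot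
  refine Signalizer.involution_ne_one hw' (mem_bot.1 (hbot ▸ ?_))
  exact ⟨(w : core X).2, involution_sq hw', fun r hr => congrArg Subtype.val (mem_center_iff.1 w.2 ⟨r, hr⟩)⟩

theorem mem_core_iff {X : Subgroup G} (x : X) : (x : G) ∈ core X ↔ x ∈ Cfsg.pCore 2 X :=
  mem_map_iff_mem (f := X.subtype) Subtype.val_injective

/-- The action of `X` on `zcore X`. -/
def act (X : Subgroup G) : X →* MulAut (zcore X) :=
  (zcore X).normalizerMonoidHom.comp (inclusion (zcore_normalized X))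

theorem act_apply {X : Subgroup G} (x : X) (w : zcore X) :
    ((act X x w : zcore X) : G) = (x : G) * w * (x : G)⁻¹ := rfl

theorem act_eq_self_iff {X : Subgroup G} (x : X) (w : zcore X) :
    act X x w = w ↔ (x : G) * w = w * (x : G) := by
  rw [Subtype.ext_iff, act_apply, mul_inv_eq_iff_eq_mul]

theorem act_core (X : Subgroup G) : Cfsg.pCore 2 X ≤ (act X).ker := by
  intro x hx
  rw [MonoidHom.mem_ker]
  refine MulEquiv.ext fun w => ?_
  rw [MulAut.one_apply, act_eq_self_iff]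
  exact w.2.2.2 _ ((mem_core_iff x).2 hx)

/-- The action of `X` modulo its 2-core. -/
def qact (X : Subgroup G) : X ⧸ Cfsg.pCore 2 X →* MulAut (zcore X) :=
  QuotientGroup.lift _ (act X) (act_core X)

theorem qact_mk {X : Subgroup G} (x : X) : qact X (x : X ⧸ Cfsg.pCore 2 X) = act X x := rfl

theorem qact_oddFpf (hC : CIT G) (X : Subgroup G) : OddFpf (qact X) := by
  intro q hq hq1 w hw
  obtain ⟨x, hx, hx1, n, hn⟩ := exists_odd_lift (QuotientGroup.mk' (Cfsg.pCore 2 X))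
    (QuotientGroup.mk'_surjective _) hq hq1
  have h1 : qact X (QuotientGroup.mk' _ x) w = w := hn ▸ map_pow_fix (qact X) hw n
  rw [QuotientGroup.mk'_apply, qact_mk, act_eq_self_iff] at h1
  refine Subtype.ext (hC.eq_one_of_mem (x := (x : G)) (by rwa [orderOf_coe]) (fun h0 => hx1 ?_) (isPGroup_core X)
    w.2.1 h1)
  rw [show x = 1 from Subtype.ext h0, map_one]

theorem qact_injective (hC : CIT G) {X : Subgroup G} (hX : core X ≠ ⊥) : Function.Injective (qact X) := by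
  obtain ⟨w, hw, hw1⟩ := (zcore X).bot_or_exists_ne_one.resolve_left (zcore_ne_bot hX)
  have hker : IsPGroup 2 (act X).ker := by
    intro k
    have hk : ((k : X) : G) * w = w * ((k : X) : G) :=
      (act_eq_self_iff (k : X) ⟨w, hw⟩).1 (by rw [k.2, MulAut.one_apply])
    obtain ⟨j, hj⟩ := hC _ (orderOf_eq_two_of hw1 (zcore_sq hw))
      ⟨((k : X) : G), mem_centralizer_singleton_iff.2 hk⟩
    exact ⟨j, Subtype.ext (Subtype.ext (by simpa using congrArg Subtype.val hj))⟩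
  rw [injective_iff_map_eq_one]
  intro q hq
  induction q using QuotientGroup.induction_on with
  | H x =>
    rw [qact_mk] at hq
    exact (QuotientGroup.eq_one_iff x).2 (CfsgLib.Core.le_pCore hker hq)

theorem CIT.quotient (hC : CIT G) (X : Subgroup G) : CIT (X ⧸ Cfsg.pCore 2 X) := by
  intro y hy z
  by_contra hno
  obtain ⟨m, hm, hm1⟩ := exists_odd_power (z : X ⧸ Cfsg.pCore 2 X) fun k hk => hno ⟨k, Subtype.ext (by
    rw [coe_pow, coe_one, ← hk, pow_orderOf_eq_one])⟩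
  obtain ⟨x, hx, hx1, n, hn⟩ := exists_odd_lift (QuotientGroup.mk' (Cfsg.pCore 2 X))
    (QuotientGroup.mk'_surjective _) hm hm1
  have hcy : QuotientGroup.mk' (Cfsg.pCore 2 X) x * y = y * QuotientGroup.mk' (Cfsg.pCore 2 X) x := by
    rw [hn, ← pow_mul]
    exact (Commute.pow_left (mem_centralizer_singleton_iff.1 z.2 : Commute (z : X ⧸ Cfsg.pCore 2 X) y) _).eq
  obtain ⟨y0, rfl⟩ := QuotientGroup.mk_surjective y
  have h1 : y0⁻¹ * (x * y0 * x⁻¹) ∈ Cfsg.pCore 2 X := by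
    rw [← QuotientGroup.eq_one_iff]
    rw [QuotientGroup.mk'_apply] at hcy
    rw [QuotientGroup.mk_mul, QuotientGroup.mk_mul, QuotientGroup.mk_mul, QuotientGroup.mk_inv,
      QuotientGroup.mk_inv, hcy, mul_inv_cancel_right, inv_mul_cancel]
  obtain ⟨r, hr, hcr⟩ := hC.exists_commute_coset (isPGroup_core X) (x := (x : G)) (y := (y0 : G))
    (by rwa [orderOf_coe]) (fun h0 => hx1 (by rw [show x = 1 from Subtype.ext h0, map_one]))
    (core_normalized X x.2) (by simpa using (mem_core_iff _).2 h1)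
  have hrX := core_le X hr
  set u : X := y0 * ⟨r, hrX⟩ with hu
  have hur : (u : X ⧸ Cfsg.pCore 2 X) = (y0 : X ⧸ Cfsg.pCore 2 X) := by
    rw [hu, QuotientGroup.mk_mul, (QuotientGroup.eq_one_iff _).2 ((mem_core_iff ⟨r, hrX⟩).1 hr), mul_one]
  have hu2 : u * u ∈ Cfsg.pCore 2 X := by
    rw [← QuotientGroup.eq_one_iff, QuotientGroup.mk_mul, hur, involution_sq hy]
  obtain ⟨k, hk⟩ := (CfsgLib.Core.isPGroup_pCore 2 X) ⟨u * u, hu2⟩
  have hk' : u ^ 2 ^ (k + 1) = 1 := by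
    rw [pow_succ', pow_mul, pow_two]
    exact congrArg Subtype.val hk
  obtain ⟨j, -, hj⟩ := (Nat.dvd_prime_pow Nat.prime_two).1 (orderOf_dvd_of_pow_eq_one hk')
  have hu1 : (u : G) = 1 := hC.eq_one (x := (x : G)) (by rwa [orderOf_coe])
    (fun h0 => hx1 (by rw [show x = 1 from Subtype.ext h0, map_one])) (k := j) (by rwa [orderOf_coe]) hcr
  rw [show u = 1 from Subtype.ext hu1, QuotientGroup.mk_one] at hur
  rw [← hur, orderOf_one] at hy
  norm_num at hy

theorem quotient_core (X : Subgroup G) (P : Subgroup (X ⧸ Cfsg.pCore 2 X)) (hn : P.Normal) (hP : IsPGroup 2 P) :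
    P = ⊥ := by
  haveI := hn
  exact le_bot_iff.1 ((CfsgLib.Core.le_pCore hP).trans (CfsgLib.Core.pCore_quotient_pCore 2 X).le)

/-- The image of a subgroup modulo the 2-core. -/
def qimg (X T : Subgroup G) : Subgroup (X ⧸ Cfsg.pCore 2 X) :=
  (T.subgroupOf X).map (QuotientGroup.mk' _)

theorem mk_mem_qimg {X T : Subgroup G} (hc : core X ≤ T) (x : X) :
    (x : X ⧸ Cfsg.pCore 2 X) ∈ qimg X T ↔ (x : G) ∈ T := by
  constructor
  · rintro ⟨t, ht, htx⟩
    have h1 : (t⁻¹ * x : X) ∈ Cfsg.pCore 2 X := QuotientGroup.eq.1 htx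
    have h2 : ((t⁻¹ * x : X) : G) ∈ T := hc ((mem_core_iff _).2 h1)
    simpa using mul_mem (show (t : G) ∈ T from ht) h2
  · exact fun h => ⟨x, h, rfl⟩

theorem IsSyl.qimg {X T : Subgroup G} (hT : IsSyl T X) : IsSyl (qimg X T) ⊤ := by
  refine ⟨le_top, (hT.2.1.comap_of_injective X.subtype Subtype.val_injective).map _, fun P hTP _ hP => ?_⟩
  have h1 : IsPGroup 2 (P.comap (QuotientGroup.mk' (Cfsg.pCore 2 X))) := hP.comap_of_ker_isPGroup _ (by
    rw [QuotientGroup.ker_mk']; exact CfsgLib.Core.isPGroup_pCore 2 X)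
  have h2 := hT.2.2 ((P.comap (QuotientGroup.mk' (Cfsg.pCore 2 X))).map X.subtype)
    (fun t ht => ⟨⟨t, hT.1 ht⟩, hTP ⟨⟨t, hT.1 ht⟩, ht, rfl⟩, rfl⟩) (map_subtype_le _) (h1.map _)
  refine le_antisymm (fun q hq => ?_) hTP
  obtain ⟨x, rfl⟩ := QuotientGroup.mk_surjective q
  rw [mk_mem_qimg (core_le_syl hT)]
  exact h2.le ⟨x, hq, rfl⟩

theorem qimg_ne {X T T' : Subgroup G} (hT : IsSyl T X) (hT' : IsSyl T' X) (hne : T ≠ T') :
    qimg X T ≠ qimg X T' := by
  intro h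
  refine hne (le_antisymm (fun t ht => ?_) fun t ht => ?_)
  · exact (mk_mem_qimg (core_le_syl hT') ⟨t, hT.1 ht⟩).1 (h ▸ (mk_mem_qimg (core_le_syl hT) ⟨t, hT.1 ht⟩).2 ht)
  · exact (mk_mem_qimg (core_le_syl hT) ⟨t, hT'.1 ht⟩).1 (h ▸ (mk_mem_qimg (core_le_syl hT') ⟨t, hT'.1 ht⟩).2 ht)

theorem exists_qimg {X : Subgroup G} {Q : Subgroup (X ⧸ Cfsg.pCore 2 X)} (hQ : IsSyl Q ⊤) :
    ∃ T, IsSyl T X ∧ CIT.qimg X T = Q := by
  have h1 : IsPGroup 2 (Q.comap (QuotientGroup.mk' (Cfsg.pCore 2 X))) := hQ.2.1.comap_of_ker_isPGroup _ (by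
    rw [QuotientGroup.ker_mk']; exact CfsgLib.Core.isPGroup_pCore 2 X)
  obtain ⟨T, hT, hle⟩ := exists_isSyl (map_subtype_le (Q.comap (QuotientGroup.mk' (Cfsg.pCore 2 X)))) (h1.map _)
  refine ⟨T, hT, hQ.2.2 _ (fun q hq => ?_) le_top hT.qimg.2.1⟩
  obtain ⟨x, rfl⟩ := QuotientGroup.mk_surjective q
  exact (mk_mem_qimg (core_le_syl hT) x).2 (hle ⟨x, hq, rfl⟩)

theorem Branching.quotient {X : Subgroup G} (hb : Branching X) :
    Branching (⊤ : Subgroup (X ⧸ Cfsg.pCore 2 X)) := by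
  intro Q hQ
  obtain ⟨T, hT, rfl⟩ := exists_qimg hQ
  obtain ⟨T', hT', hne⟩ := hb.exists_ne hT
  exact branching_of_two hT.qimg hT'.qimg (qimg_ne hT hT' (Ne.symm hne)) _ hT.qimg

/-- In every local subgroup distinct Sylow 2-subgroups meet in the 2-core. -/
def LocalTI (G : Type*) [Group G] : Prop :=
  ∀ X : Subgroup G, core X ≠ ⊥ → ∀ T T', IsSyl T X → IsSyl T' X → T ≠ T' → T ⊓ T' ≤ core X

theorem inf_le_core_of_tiSylow {X : Subgroup G} (h : TISylow (X ⧸ Cfsg.pCore 2 X)) {T T' : Subgroup G}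
    (hT : IsSyl T X) (hT' : IsSyl T' X) (hne : T ≠ T') : T ⊓ T' ≤ core X := by
  rintro t ⟨ht, ht'⟩
  have h1 : ((⟨t, hT.1 ht⟩ : X) : X ⧸ Cfsg.pCore 2 X) ∈ qimg X T ⊓ qimg X T' :=
    ⟨(mk_mem_qimg (core_le_syl hT) _).2 ht, (mk_mem_qimg (core_le_syl hT') _).2 ht'⟩
  rw [h _ _ hT.qimg hT'.qimg (qimg_ne hT hT' hne), mem_bot, QuotientGroup.eq_one_iff] at h1
  exact (mem_core_iff _).2 h1

theorem tiSylow_quotient (hL : LocalTI G) {X : Subgroup G} (hX : core X ≠ ⊥) :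
    TISylow (X ⧸ Cfsg.pCore 2 X) := by
  intro Q Q' hQ hQ' hne
  obtain ⟨T, hT, rfl⟩ := exists_qimg hQ
  obtain ⟨T', hT', rfl⟩ := exists_qimg hQ'
  refine le_bot_iff.1 fun q hq => ?_
  obtain ⟨x, rfl⟩ := QuotientGroup.mk_surjective q
  rw [mem_bot, QuotientGroup.eq_one_iff, ← mem_core_iff]
  exact hL X hX T T' hT hT' (fun h => hne (h ▸ rfl))
    ⟨(mk_mem_qimg (core_le_syl hT) x).1 hq.1, (mk_mem_qimg (core_le_syl hT') x).1 hq.2⟩

theorem card_quotient_lt {X : Subgroup G} (hX : core X ≠ ⊥) :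
    Nat.card (X ⧸ Cfsg.pCore 2 X) < Nat.card G := by
  have h1 : 1 < Nat.card (Cfsg.pCore 2 X) := by
    refine Finite.one_lt_card_iff_nontrivial.2 ((nontrivial_iff_ne_bot _).2 fun h => hX ?_)
    rw [core, h]
    exact map_bot _
  have h2 := card_eq_card_quotient_mul_card_subgroup (Cfsg.pCore 2 X)
  have h3 : Nat.card X ≤ Nat.card G := Nat.le_of_dvd Nat.card_pos (card_subgroup_dvd_card X)
  have h4 : 0 < Nat.card (X ⧸ Cfsg.pCore 2 X) := Nat.card_pos
  nlinarith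

end CfsgLib.CIT
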