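import Cfsg.Agent.Lib.CIT.StrongEmb

/-!
# A CIT group with TI Sylow 2-subgroups on a module with an offender: `SL₂(q)` on its natural module
-/

set_option autoImplicit false
set_option linter.all false

namespace CfsgLib.CIT

open Subgroup
open CfsgLib.Signalizer (involution_sq involution_inv orderOf_eq_two_of orderOf_conj)

variable {Y : Type*} [Group Y]

/-- Distinct Sylow 2-subgroups meet trivially. -/
def TISylow (Y : Type*) [Group Y] : Prop :=
  ∀ T T' : Subgroup Y, IsSyl T ⊤ → IsSyl T' ⊤ → T ≠ T' → T ⊓ T' = ⊥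

theorem TISylow.le_of_mem [Finite Y] (hTI : TISylow Y) {T P : Subgroup Y} (hT : IsSyl T ⊤) (hP : IsPGroup 2 P)
    {t : Y} (ht1 : t ≠ 1) (htT : t ∈ T) (htP : t ∈ P) : P ≤ T := by
  obtain ⟨T', hT', hle⟩ := exists_isSyl le_top hP
  by_cases e : T' = T
  · exact e ▸ hle
  · exact absurd (mem_bot.1 ((hTI T' T hT' hT e).le ⟨hle htP, htT⟩)) ht1

theorem isSyl_conj_top {T : Subgroup Y} (hT : IsSyl T ⊤) (g : Y) : IsSyl (cj g T) ⊤ := by
  have := hT.cj g
  rwa [show cj g (⊤ : Subgroup Y) = ⊤ from eq_top_iff.2 fun x _ => mem_cj.2 (mem_top _)] at this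

variable [Finite Y]

theorem TISylow.ne_bot (hb : Branching (⊤ : Subgroup Y)) {T : Subgroup Y} (hT : IsSyl T ⊤) : T ≠ ⊥ := by
  intro h
  refine hb T hT fun x _ => mem_normalizer_iff_cj.2 ?_
  rw [h]
  exact map_bot _

theorem TISylow.embedded (hTI : TISylow Y) (hC : CIT Y) (hb : Branching (⊤ : Subgroup Y)) {T : Subgroup Y}
    (hT : IsSyl T ⊤) : Embedded (normalizer (T : Set Y)) T := by
  haveI : Fact (Nat.Prime 2) := ⟨Nat.prime_two⟩
  have hinv : ∀ t ∈ normalizer (T : Set Y), orderOf t = 2 → t ∈ T := by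
    intro t ht ho
    have hsup : IsPGroup 2 (T ⊔ zpowers t : Subgroup Y) :=
      IsPGroup.to_sup_of_normal_left' hT.2.1 (IsPGroup.of_card (n := 1) (by rw [Nat.card_zpowers, ho, pow_one]))
        (zpowers_le.2 ht)
    have := hT.2.2 _ le_sup_left le_top hsup
    exact this ▸ (mem_sup_right (mem_zpowers t) : t ∈ T ⊔ zpowers t)
  have hti : ∀ g : Y, g ∉ normalizer (T : Set Y) → ∀ h ∈ T, g⁻¹ * h * g ∈ T → h = 1 := by
    intro g hg h hh hgh
    by_contra h1
    refine hg (mem_normalizer_iff_cj.2 ?_)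
    have h2 : h ∈ cj g T := mem_cj.2 hgh
    exact le_antisymm (hTI.le_of_mem hT (isPGroup_cj hT.2.1) h1 hh h2)
      (hTI.le_of_mem (isSyl_conj_top hT g) hT.2.1 h1 h2 hh)
  refine ⟨⟨fun h => hb T hT (le_top.trans (ge_of_eq h)), ?_, ?_⟩, le_normalizer, le_rfl, hinv, ?_, hti⟩
  · haveI : Nontrivial T := (nontrivial_iff_ne_bot T).2 (TISylow.ne_bot hb hT)
    obtain ⟨n, hn⟩ := hT.2.1.exists_card_eq
    have : 1 < Nat.card T := Finite.one_lt_card
    refine (even_iff_two_dvd.2 (dvd_trans ?_ (card_dvd_of_le (le_normalizer (H := T)))))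
    rw [hn] at this ⊢
    exact dvd_pow_self 2 (fun h0 => by rw [h0, pow_zero] at this; omega)
  · intro g hg
    rw [Nat.odd_iff]
    by_contra heven
    obtain ⟨⟨t, ht12⟩, ht⟩ := exists_prime_orderOf_dvd_card' 2
      (show 2 ∣ Nat.card ↥(normalizer (T : Set Y) ⊓ (normalizer (T : Set Y)).map (MulAut.conj g).toMonoidHom) by omega)
    have ho : orderOf t = 2 := by rwa [Subgroup.orderOf_mk] at ht
    have ht1 := ht12.1
    have ht2 := ht12.2
    have hg2 : g⁻¹ * t * g ∈ T := hinv _ (mem_cj.1 ht2) (by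
      rw [show g⁻¹ * t * g = g⁻¹ * t * g⁻¹⁻¹ by group, orderOf_conj, ho])
    exact Signalizer.involution_ne_one ho (hti g hg t (hinv t ht1 ho) hg2)
  · intro h hh h1
    obtain ⟨k, hk⟩ := orderOf_two_pow_of_mem hT.2.1 hh
    exact hTI.le_of_mem hT (hC.centralizer_pGroup hk h1) h1 hh (mem_centralizer_singleton_iff.2 rfl)

/-- Two involutions in different Sylow subgroups generate a nontrivial element of odd order. -/
theorem TISylow.exists_odd (hTI : TISylow Y) {T : Subgroup Y} (hT : IsSyl T ⊤) {a b : Y} (ha : orderOf a = 2)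
    (hb : orderOf b = 2) (haT : a ∈ T) (hbT : b ∉ T) : ∃ m : ℕ, Odd (orderOf ((a * b) ^ m)) ∧ (a * b) ^ m ≠ 1 := by
  refine exists_odd_power _ fun k hk => ?_
  -- otherwise `a`, `b` lie in a common 2-subgroup
  have hfin : IsPGroup 2 (closure ({a, b} : Set Y)) := by
    intro x
    obtain ⟨j, hj⟩ | ⟨j, hj⟩ : (∃ j : ℤ, (x : Y) = (a * b) ^ j) ∨ ∃ j : ℤ, (x : Y) = (a * b) ^ j * a := by
      obtain ⟨j, h | h⟩ := (Signalizer.mem_closure_pair_iff ha hb).1 x.2
      · exact Or.inl ⟨j, h⟩
      · exact Or.inr ⟨j, h⟩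
    · refine ⟨k, Subtype.ext ?_⟩
      rw [coe_pow, coe_one, hj, ← zpow_natCast, ← zpow_mul, mul_comm, zpow_mul, zpow_natCast, ← hk,
        pow_orderOf_eq_one, one_zpow]
    · refine ⟨1, Subtype.ext ?_⟩
      rw [coe_pow, coe_one, pow_one, pow_two, hj]
      have h1 : a * (a * b) ^ j * a⁻¹ = (a * b) ^ (-j) := by
        have := Signalizer.conj_zpow_of_inverts (t := a) (x := a * b) (by
          rw [involution_inv ha, mul_inv_rev, involution_inv ha, involution_inv hb, ← mul_assoc, involution_sq ha,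
            one_mul]) j
        simpa using this
      calc (a * b) ^ j * a * ((a * b) ^ j * a) = (a * b) ^ j * (a * (a * b) ^ j * a⁻¹) * (a * a) := by group
        _ = 1 := by rw [h1, involution_sq ha, ← zpow_add, add_neg_cancel, zpow_zero, mul_one]
  exact hbT (hTI.le_of_mem hT hfin (Signalizer.involution_ne_one ha) haT (subset_closure (Set.mem_insert a _))
    (subset_closure (Set.mem_insert_of_mem a rfl)))

section Module

variable {V : Type*} [Group V] (φ : Y →* MulAut V)

/-- The points fixed by all of `A`. -/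
def fixAll (A : Subgroup Y) : Subgroup V := ⨅ a ∈ A, fixSub φ a

omit [Finite Y] in
theorem mem_fixAll {A : Subgroup Y} {v : V} : v ∈ fixAll φ A ↔ ∀ a ∈ A, φ a v = v := by
  simp [fixAll, mem_iInf, mem_fixSub]

omit [Finite Y] in
theorem comm_of_two (hV2 : ∀ v : V, v * v = 1) (a b : V) : a * b = b * a := by
  have : ∀ v : V, v⁻¹ = v := fun v => inv_eq_of_mul_eq_one_right (hV2 v)
  rw [← this (a * b), mul_inv_rev, this, this]

omit [Finite Y] in
theorem isPGroup_of_two (hV2 : ∀ v : V, v * v = 1) : IsPGroup 2 V :=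
  fun v => ⟨1, by rw [pow_one, pow_two]; exact hV2 v⟩

theorem fix_sq_le [Finite V] (hTI : TISylow Y) (hb : Branching (⊤ : Subgroup Y)) (hf : OddFpf φ) {T : Subgroup Y}
    (hT : IsSyl T ⊤) {a : Y} (ha : orderOf a = 2) (haT : a ∈ T) :
    Nat.card (fixSub φ a) * Nat.card (fixSub φ a) ≤ Nat.card V := by
  obtain ⟨T', hT', hne⟩ := hb.exists_ne hT
  obtain ⟨g, -, rfl⟩ := hT.exists_conj hT'
  have hb' : g * a * g⁻¹ ∉ T := fun hmem => hne (le_antisymm
    (hTI.le_of_mem hT (isPGroup_cj hT.2.1) (Signalizer.involution_ne_one ((orderOf_conj g a).trans ha)) hmem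
      (conj_mem_cj.2 haT))
    (hTI.le_of_mem hT' hT.2.1 (Signalizer.involution_ne_one ((orderOf_conj g a).trans ha)) (conj_mem_cj.2 haT) hmem))
  obtain ⟨m, hm, hm1⟩ := hTI.exists_odd hT ha ((orderOf_conj g a).trans ha) haT hb'
  have hinf : fixSub φ a ⊓ fixSub φ (g * a * g⁻¹) = ⊥ := by
    refine le_bot_iff.1 fun v hv => mem_bot.2 ?_
    have h1 : φ (a * (g * a * g⁻¹)) v = v := by rw [apply_mul, hv.2, hv.1]
    refine hf _ hm hm1 v ?_
    clear hm hm1
    induction m with
    | zero => simp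
    | succ m ih => rw [pow_succ, apply_mul, h1, ih]
  have h2 := card_mul_card_le _ _ hinf
  rwa [← map_fixSub_conj, ← Nat.card_congr ((fixSub φ a).equivMapOfInjective _ (φ g).injective).toEquiv] at h2

omit [Finite Y] in
theorem card_ge_of_free {V' : Type*} [Finite V'] (D : Subgroup Y) (f : Y → V') (v0 : V')
    (h0 : ∀ d ∈ D, f d ≠ v0) (hinj : ∀ d ∈ D, ∀ e ∈ D, f d = f e → d = e) : Nat.card D + 1 ≤ Nat.card V' := by
  classical
  haveI : Finite D := Finite.of_injective (fun d : D => f d) fun d e h => Subtype.ext (hinj d d.2 e e.2 h)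
  rw [← Finite.card_option]
  refine Nat.card_le_card_of_injective (fun o : Option D => o.elim v0 fun d => f d) ?_
  rintro (_ | d) (_ | e) h <;> simp at h ⊢
  · exact h0 e e.2 h.symm
  · exact h0 d d.2 h
  · exact Subtype.ext (hinj d d.2 e e.2 h)

omit [Finite Y] in
theorem map_pow_fix {y : Y} {v : V} (h : φ y v = v) (k : ℕ) : φ (y ^ k) v = v := by
  induction k with
  | zero => simp
  | succ k ih => rw [pow_succ, apply_mul, h, ih]

/-- The conclusion: the natural module of `SL₂(q)`. -/
structure IsNatural (φ : Y →* MulAut V) (T : Subgroup Y) : Prop where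
  elem : ∀ t ∈ T, t * t = 1
  card_V : Nat.card V = Nat.card T ^ 2
  fix_eq : ∀ a ∈ T, a ≠ 1 → fixSub φ a = fixAll φ T
  card_fix : Nat.card (fixAll φ T) = Nat.card T
  card_Y : Nat.card Y = (Nat.card T + 1) * Nat.card T * (Nat.card T - 1)
  three : ∃ x : Y, orderOf x = 3 ∧ x ∉ normalizer (T : Set Y)

theorem natural [Finite V] [Nontrivial V] (hC : CIT Y) (hTI : TISylow Y) (hb : Branching (⊤ : Subgroup Y))
    (hV2 : ∀ v : V, v * v = 1) (hf : OddFpf φ) (hker : Function.Injective φ)
    {T A : Subgroup Y} (hT : IsSyl T ⊤) (hAT : A ≤ T) (hA2 : ∀ a ∈ A, a * a = 1) (hA1 : A ≠ ⊥)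
    (hoff : Nat.card V ≤ Nat.card A * Nat.card (fixAll φ A)) : IsNatural φ T ∧ A = T := by
  classical
  haveI : Fact (Nat.Prime 2) := ⟨Nat.prime_two⟩
  haveI : Fact (Nat.Prime 3) := ⟨Nat.prime_three⟩
  have hcomm := comm_of_two hV2
  have hVp := isPGroup_of_two hV2
  have hE := hTI.embedded hC hb hT
  have hofA : ∀ a ∈ A, a ≠ 1 → orderOf a = 2 := fun a ha ha1 => orderOf_eq_two_of ha1 (hA2 a ha)
  haveI : Nontrivial A := (nontrivial_iff_ne_bot A).2 hA1
  obtain ⟨⟨a0, ha0⟩, ha01'⟩ := exists_ne (1 : A)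
  have ha01 : a0 ≠ 1 := fun e => ha01' (Subtype.ext e)
  have hCa : ∀ a ∈ A, a ≠ 1 → Nat.card (fixSub φ a) ≤ Nat.card A := by
    intro a ha ha1
    have h1 := fix_sq_le φ hTI hb hf hT (hofA a ha ha1) (hAT ha)
    have h2 : Nat.card (fixAll φ A) ≤ Nat.card (fixSub φ a) :=
      Nat.le_of_dvd Nat.card_pos (card_dvd_of_le fun v hv => (mem_fixAll φ).1 hv a ha)
    exact Nat.le_of_mul_le_mul_right (h1.trans (hoff.trans (Nat.mul_le_mul_left _ h2))) Nat.card_pos
  have hVA : Nat.card V ≤ Nat.card A * Nat.card A := by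
    refine hoff.trans (Nat.mul_le_mul_left _ (le_trans ?_ (hCa a0 ha0 ha01)))
    exact Nat.le_of_dvd Nat.card_pos (card_dvd_of_le fun v hv => (mem_fixAll φ).1 hv a0 ha0)
  set i := hE.invCount with hi_def
  have hi_eq : i = Nat.card {t : Y // orderOf t = 2 ∧ t ∈ T} :=
    Nat.card_congr (Equiv.subtypeEquivRight fun t =>
      ⟨fun h => ⟨h.1, hE.involution_mem t h.2 h.1⟩, fun h => ⟨h.1, le_normalizer h.2⟩⟩)
  have hi1 : 1 ≤ i := by
    rw [hi_eq]
    haveI : Nonempty {t : Y // orderOf t = 2 ∧ t ∈ T} := ⟨⟨a0, hofA a0 ha0 ha01, hAT ha0⟩⟩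
    exact Nat.card_pos
  rcases eq_or_lt_of_le hi1 with hi | hi
  · -- one involution: `S₃` on a four-group
    rw [hi_eq, eq_comm, Nat.card_eq_one_iff_unique] at hi
    have huniq : ∀ t ∈ T, orderOf t = 2 → t = a0 := fun t ht ho =>
      congrArg Subtype.val (hi.1.elim ⟨t, ho, ht⟩ ⟨a0, hofA a0 ha0 ha01, hAT ha0⟩)
    have hAeq : A = zpowers a0 := le_antisymm (fun a ha => by
      by_cases ha1 : a = 1
      · exact ha1 ▸ one_mem _
      · exact huniq a (hAT ha) (hofA a ha ha1) ▸ mem_zpowers a0) (zpowers_le.2 ha0)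
    have hA2c : Nat.card A = 2 := by rw [hAeq, Nat.card_zpowers, hofA a0 ha0 ha01]
    obtain ⟨T', hT', hne⟩ := hb.exists_ne hT
    obtain ⟨g, -, rfl⟩ := hT.exists_conj hT'
    have hb' : g * a0 * g⁻¹ ∉ T := fun hmem => hne (le_antisymm
      (hTI.le_of_mem hT (isPGroup_cj hT.2.1) (Signalizer.involution_ne_one ((orderOf_conj g a0).trans (hofA a0 ha0 ha01)))
        hmem (conj_mem_cj.2 (hAT ha0)))
      (hTI.le_of_mem hT' hT.2.1 (Signalizer.involution_ne_one ((orderOf_conj g a0).trans (hofA a0 ha0 ha01)))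
        (conj_mem_cj.2 (hAT ha0)) hmem))
    obtain ⟨m, hm, hm1⟩ := hTI.exists_odd hT (hofA a0 ha0 ha01) ((orderOf_conj g a0).trans (hofA a0 ha0 ha01)) (hAT ha0) hb'
    set y := (a0 * (g * a0 * g⁻¹)) ^ m
    obtain ⟨v, hv⟩ := exists_ne (1 : V)
    have hyv : φ y v ≠ v := fun e => hv (hf y hm hm1 v e)
    obtain ⟨n, hn⟩ := hVp.exists_card_eq
    have h3 : 3 ≤ Nat.card V := by
      haveI := Fintype.ofFinite V
      rw [Nat.card_eq_fintype_card]
      exact Fintype.two_lt_card_iff.2 ⟨1, v, φ y v, Ne.symm hv,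
        fun e => hv ((φ y).injective (by rw [← e, map_one])), fun e => hyv e.symm⟩
    rw [hA2c] at hVA
    have hn2 : Nat.card V = 4 := by
      rw [hn] at h3 hVA ⊢
      have : n ≤ 2 := by
        by_contra hcon
        have := Nat.pow_le_pow_right two_pos (show 3 ≤ n by omega)
        omega
      interval_cases n <;> first | rfl | (norm_num at h3) | (norm_num at hVA) | skip
    let ψ : Y →* Equiv.Perm {v : V // v ≠ 1} :=
      { toFun := fun y => (φ y).toEquiv.subtypeEquiv (fun v => by simp)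
        map_one' := by ext; simp
        map_mul' := fun y z => by ext v; simp }
    have hψ : Function.Injective ψ := by
      intro y z e
      refine hker (MulEquiv.ext fun w => ?_)
      by_cases hw : w = 1
      · simp [hw]
      · exact congrArg Subtype.val (congrArg (fun σ : Equiv.Perm {v : V // v ≠ 1} => σ ⟨w, hw⟩) e)
    haveI := Fintype.ofFinite V
    have h6 : Nat.card Y ∣ 6 := by
      have := card_dvd_of_injective ψ hψ
      rwa [Nat.card_perm, show Nat.card {v : V // v ≠ 1} = 3 by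
        rw [Nat.card_eq_fintype_card, Fintype.card_subtype_compl]
        simp [← Nat.card_eq_fintype_card, hn2]] at this
    obtain ⟨k, hk⟩ := hT.2.1.exists_card_eq
    have hTdvd : Nat.card T ∣ Nat.card Y := card_subgroup_dvd_card T
    have hTA : A = T := by
      refine eq_of_le_of_card_ge hAT ?_
      rw [hA2c, hk]
      have h2 : 2 ^ k ∣ 6 := hk ▸ hTdvd.trans h6
      by_contra hcon
      have : 2 ≤ k := by
        by_contra hk2
        interval_cases k <;> simp at hcon
      exact absurd ((pow_dvd_pow 2 this).trans h2) (by norm_num)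
    have hTc : Nat.card T = 2 := hTA ▸ hA2c
    have hodd_dvd : orderOf y ∣ Nat.card Y := orderOf_dvd_natCard y
    have hy3 : orderOf y = 3 := by
      have h1 : orderOf y ∣ 6 := hodd_dvd.trans h6
      have h2 : orderOf y ≠ 1 := fun e => hm1 (orderOf_eq_one_iff.1 e)
      have h3 : orderOf y ≤ 6 := Nat.le_of_dvd (by norm_num) h1
      have h0 : orderOf y ≠ 0 := (orderOf_pos y).ne'
      have h4 : Odd (orderOf y) := hm
      rw [Nat.odd_iff] at h4
      generalize orderOf y = e at h0 h1 h2 h3 h4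
      interval_cases e <;> omega
    have hY : Nat.card Y = 6 := by
      refine Nat.dvd_antisymm h6 ?_
      exact Nat.Coprime.mul_dvd_of_dvd_of_dvd (by norm_num : Nat.Coprime 2 3) (hTc ▸ hTdvd) (hy3 ▸ hodd_dvd)
    have hyN : y ∉ normalizer (T : Set Y) := by
      intro hyn
      -- `T` would be normal
      refine hb T hT ?_
      have hsub : T ⊔ zpowers y ≤ normalizer (T : Set Y) := sup_le le_normalizer (zpowers_le.2 hyn)
      have h23 : 6 ∣ Nat.card (T ⊔ zpowers y : Subgroup Y) :=
        Nat.Coprime.mul_dvd_of_dvd_of_dvd (by norm_num : Nat.Coprime 2 3)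
          (hTc ▸ card_dvd_of_le (le_sup_left (b := zpowers y)))
          (hy3 ▸ Nat.card_zpowers y ▸ card_dvd_of_le (le_sup_right (a := T)))
      have : (T ⊔ zpowers y : Subgroup Y) = ⊤ := eq_top_of_le_card _ (hY ▸ Nat.le_of_dvd Nat.card_pos h23)
      exact this ▸ hsub
    have hfa : fixSub φ a0 = fixAll φ T := by
      refine le_antisymm (fun v hv => (mem_fixAll φ).2 fun t ht => ?_) (fun v hv => (mem_fixAll φ).1 hv a0 (hAT ha0))
      by_cases ht1 : t = 1
      · simp [ht1]
      · exact (huniq t ht (hofA t (hTA.symm ▸ ht) ht1)).symm ▸ hv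
    refine ⟨⟨fun t ht => hA2 t (hTA.symm ▸ ht), by rw [hn2, hTc]; norm_num, fun a ha ha1 => ?_, ?_,
      by rw [hY, hTc], y, hy3, hyN⟩, hTA⟩
    · rw [huniq a ha (hofA a (hTA.symm ▸ ha) ha1), hfa]
    · rw [← hfa, hTc]
      obtain ⟨w, hw1, hw⟩ := exists_fixed_one φ hVp (hofA a0 ha0 ha01)
      refine le_antisymm (hA2c ▸ hCa a0 ha0 ha01) ?_
      haveI : Nontrivial (fixSub φ a0) := ⟨⟨⟨w, hw⟩, 1, fun e => hw1 (congrArg Subtype.val e)⟩⟩
      exact Finite.one_lt_card
  · -- the general case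
    obtain ⟨g, hg⟩ : ∃ g : Y, g ∉ normalizer (T : Set Y) := by
      by_contra hno
      push Not at hno
      exact hb T hT fun x _ => hno x
    set o : Y ⧸ normalizer (T : Set Y) := ((1 : Y) : Y ⧸ normalizer (T : Set Y))
    have hgo : o ≠ (g : Y ⧸ normalizer (T : Set Y)) := fun e => hg (by simpa using (QuotientGroup.eq.1 e))
    have hfixo : ∀ x ∈ normalizer (T : Set Y), x • o = o := fun x hx =>
      (TwoGroups.SE.smul_mk_eq_iff x 1).2 (by simpa using hx)
    have hofo : ∀ x : Y, x • o = o → x ∈ normalizer (T : Set Y) := fun x hx => by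
      simpa using (TwoGroups.SE.smul_mk_eq_iff x 1).1 hx
    set D := hE.two o g with hD_def
    have hDN : ∀ d ∈ D, d ∈ normalizer (T : Set Y) := fun d hd => hofo d (hE.mem_two.1 hd).1
    have hDcard : Nat.card D = i := hE.card_two hgo
    have hDodd : ∀ d ∈ D, Odd (orderOf d) := fun d hd =>
      hE.odd_of_two hgo (hE.mem_two.1 hd).1 (hE.mem_two.1 hd).2
    -- involutions of `T` are central
    obtain ⟨z, hz, hz2, hzc⟩ : ∃ z ∈ T, orderOf z = 2 ∧ ∀ t ∈ T, t * z = z * t := by
      haveI : Nontrivial T := (nontrivial_iff_ne_bot T).2 (TISylow.ne_bot hb hT)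
      haveI := hT.2.1.center_nontrivial
      obtain ⟨n, hn⟩ := (hT.2.1.to_subgroup (center T)).exists_card_eq
      have h1 : 1 < Nat.card (center T) := Finite.one_lt_card
      obtain ⟨w, hw⟩ := exists_prime_orderOf_dvd_card' 2
        (show 2 ∣ Nat.card (center T) by rw [hn] at h1 ⊢; exact dvd_pow_self 2 fun h0 => by rw [h0] at h1; simp at h1)
      exact ⟨_, (w : T).2, by rw [orderOf_coe, orderOf_coe, hw], fun t ht =>
        congrArg Subtype.val (mem_center_iff.1 w.2 ⟨t, ht⟩)⟩
    have hcentral : ∀ a ∈ T, a * a = 1 → ∀ t ∈ T, t * a = a * t := by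
      intro a ha ha2 t ht
      by_cases ha1 : a = 1
      · simp [ha1]
      obtain ⟨d, hdo, -, hdz⟩ := TwoGroups.SE.exists_conj_fixing hE.se hgo hz2 (hfixo z (le_normalizer hz))
        (orderOf_eq_two_of ha1 ha2) (hfixo a (le_normalizer ha))
      have hd := hofo d hdo
      have ht' : d⁻¹ * t * d ∈ T := by
        have := (mem_normalizer_iff''.1 hd t).1 ht
        simpa using this
      rw [← hdz]
      calc t * (d * z * d⁻¹) = d * ((d⁻¹ * t * d) * z) * d⁻¹ := by group
        _ = d * (z * (d⁻¹ * t * d)) * d⁻¹ := by rw [hzc _ ht']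
        _ = d * z * d⁻¹ * t := by group
    let E : Subgroup Y :=
      { carrier := {a | a ∈ T ∧ a * a = 1}
        one_mem' := ⟨one_mem _, mul_one 1⟩
        mul_mem' := fun {a b} ha hb => ⟨mul_mem ha.1 hb.1, by
          rw [show a * b * (a * b) = a * (b * a) * b by group, ← hcentral b hb.1 hb.2 a ha.1,
            show a * (a * b) * b = (a * a) * (b * b) by group, ha.2, hb.2, one_mul]⟩
        inv_mem' := fun {a} ha => ⟨inv_mem ha.1, by rw [← mul_inv_rev, ha.2, inv_one]⟩ }
    have hAE : A ≤ E := fun a ha => ⟨hAT ha, hA2 a ha⟩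
    have hEcard : Nat.card E = i + 1 := by
      rw [hi_eq, ← Finite.card_option]
      refine Nat.card_congr
        { toFun := fun a => if h : (a : Y) = 1 then none else some ⟨a, orderOf_eq_two_of h a.2.2, a.2.1⟩
          invFun := fun o => o.elim 1 fun t => ⟨t, t.2.2, involution_sq t.2.1⟩
          left_inv := fun a => by
            by_cases h : (a : Y) = 1
            · simp [h]; exact Subtype.ext h.symm
            · simp [h]
          right_inv := fun o => by
            rcases o with _ | ⟨t, ht⟩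
            · simp
            · simp [Signalizer.involution_ne_one ht.1] }
    set P0 := fixAll φ E with hP0
    -- `D` acts freely
    have hfree : ∀ d ∈ D, ∀ e ∈ D, ∀ v : V, v ≠ 1 → φ d v = φ e v → d = e := by
      intro d hd e he v hv hde
      by_contra hne
      have hmem : e⁻¹ * d ∈ D := mul_mem (inv_mem he) hd
      refine hv (hf _ (hDodd _ hmem) (fun h => hne (inv_mul_eq_one.1 h).symm) v ?_)
      rw [apply_mul, hde, ← apply_mul, inv_mul_cancel, map_one, MulAut.one_apply]
    have hconjT : ∀ d ∈ D, ∀ t ∈ T, d⁻¹ * t * d ∈ T := fun d hd t ht => by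
      simpa using (mem_normalizer_iff''.1 (hDN d hd) t).1 ht
    have hinvariant : ∀ (K : Subgroup Y), (∀ d ∈ D, ∀ t ∈ K, d⁻¹ * t * d ∈ K) →
        ∀ d ∈ D, ∀ v ∈ fixAll φ K, φ d v ∈ fixAll φ K := by
      intro K hK d hd v hv
      rw [mem_fixAll] at hv ⊢
      intro t ht
      rw [← apply_mul, show t * d = d * (d⁻¹ * t * d) by group, apply_mul, hv _ (hK d hd t ht)]
    have hEinv : ∀ d ∈ D, ∀ t ∈ E, d⁻¹ * t * d ∈ E := fun d hd t ht =>
      ⟨hconjT d hd t ht.1, by rw [show d⁻¹ * t * d * (d⁻¹ * t * d) = d⁻¹ * (t * t) * d by group, ht.2]; group⟩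
    have hP0D := hinvariant E hEinv
    obtain ⟨v0, hv01, hv0⟩ := exists_fixed φ hVp E (hT.2.1.to_le fun a ha => ha.1)
    have hv0P : v0 ∈ P0 := (mem_fixAll φ).2 hv0
    have hP0ge : Nat.card E ≤ Nat.card P0 := by
      rw [hEcard, ← hDcard]
      refine card_ge_of_free D (fun d => if hd : d ∈ D then (⟨φ d v0, hP0D d hd v0 hv0P⟩ : P0) else 1) 1 ?_ ?_
      · intro d hd e
        rw [dif_pos hd] at e
        exact hv01 ((φ d).injective (by rw [map_one]; exact congrArg Subtype.val e))
      · intro d hd e he h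
        rw [dif_pos hd, dif_pos he] at h
        exact hfree d hd e he v0 hv01 (congrArg Subtype.val h)
    haveI hP0n : P0.Normal := ⟨fun n hn g => by rwa [hcomm g n, mul_inv_cancel_right]⟩
    letI : CommGroup V := { (inferInstance : Group V) with mul_comm := hcomm }
    -- invariant subgroups above `P0` are large
    have hquot : ∀ K : Subgroup V, P0 ≤ K → (∀ d ∈ D, ∀ v ∈ P0, φ d v ∈ P0) → (∀ d ∈ D, ∀ v ∈ K, φ d v ∈ K) →
        ∀ v ∈ K, v ∉ P0 → Nat.card P0 * Nat.card E ≤ Nat.card K := by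
      intro K hPK hPD hKD v hv hvP
      rw [← (P0.subgroupOf K).card_mul_index, Nat.card_congr (subgroupOfEquivOfLe hPK).toEquiv]
      refine Nat.mul_le_mul_left _ ?_
      rw [hEcard, ← hDcard, index_eq_card]
      haveI : (P0.subgroupOf K).Normal := inferInstance
      refine card_ge_of_free D (fun d => if hd : d ∈ D then
        ((⟨φ d v, hKD d hd v hv⟩ : K) : K ⧸ P0.subgroupOf K) else 1) 1 ?_ ?_
      · intro d hd e
        rw [dif_pos hd, QuotientGroup.eq_one_iff, mem_subgroupOf] at e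
        refine hvP ?_
        have := hPD d⁻¹ (inv_mem hd) _ e
        rwa [← apply_mul, inv_mul_cancel, map_one, MulAut.one_apply] at this
      · intro d hd e he h
        rw [dif_pos hd, dif_pos he, QuotientGroup.eq, mem_subgroupOf] at h
        have h' : (φ d v)⁻¹ * φ e v ∈ P0 := h
        by_contra hne
        have hwD : d⁻¹ * e ∈ D := mul_mem (inv_mem hd) he
        set w := d⁻¹ * e with hw
        have hwv : v⁻¹ * φ w v ∈ P0 := by
          have := hPD d⁻¹ (inv_mem hd) _ h'
          rwa [map_mul, map_inv, ← apply_mul, ← apply_mul, inv_mul_cancel, map_one, MulAut.one_apply] at this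
        have hwk : ∀ k, v⁻¹ * φ (w ^ k) v ∈ P0 := by
          intro k
          induction k with
          | zero => simp
          | succ k ih =>
            have h1 := hPD w hwD _ ih
            rw [map_mul, map_inv, ← apply_mul, ← pow_succ'] at h1
            have h2 := mul_mem hwv h1
            rwa [show v⁻¹ * φ w v * ((φ w v)⁻¹ * φ (w ^ (k + 1)) v) = v⁻¹ * φ (w ^ (k + 1)) v by group] at h2
        set k := orderOf w with hk
        set s := ∏ j ∈ Finset.range k, φ (w ^ j) v with hs
        have hsfix : φ w s = s := by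
          have h1 : φ w s = ∏ j ∈ Finset.range k, φ (w ^ (j + 1)) v := by
            rw [hs, map_prod]
            exact Finset.prod_congr rfl fun j _ => by rw [← apply_mul, ← pow_succ']
          have h2 := (Finset.prod_range_succ' (fun j => φ (w ^ j) v) k).symm.trans
            (Finset.prod_range_succ (fun j => φ (w ^ j) v) k)
          simp only [pow_zero] at h2
          rw [hk, pow_orderOf_eq_one, map_one, MulAut.one_apply, ← hk] at h2
          rw [h1]
          exact mul_right_cancel h2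
        have hs1 : s = 1 := hf w (hDodd w hwD) (fun h0 => hne (inv_mul_eq_one.1 h0)) s hsfix
        have h3 : (∏ j ∈ Finset.range k, (v⁻¹ * φ (w ^ j) v)) ∈ P0 := prod_mem fun j _ => hwk j
        rw [Finset.prod_mul_distrib, ← hs, hs1, mul_one, Finset.prod_const, Finset.card_range] at h3
        obtain ⟨r, hr⟩ := hDodd w hwD
        rw [show k = 2 * r + 1 from hr, pow_succ, pow_mul, pow_two, hV2, one_pow, one_mul] at h3
        exact hvP (by simpa using inv_mem h3)
    have hP0ne : P0 ≠ ⊤ := by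
      intro h
      refine ha01 (hker (MulEquiv.ext fun v => ?_))
      rw [map_one, MulAut.one_apply]
      exact (mem_fixAll φ).1 (h ▸ mem_top v : v ∈ P0) a0 (hAE ha0)
    obtain ⟨v1, hv1⟩ : ∃ v, v ∉ P0 := by
      by_contra hno
      push Not at hno
      exact hP0ne (eq_top_iff.2 fun v _ => hno v)
    have hVge : Nat.card P0 * Nat.card E ≤ Nat.card V := by
      have := hquot ⊤ le_top hP0D (fun _ _ v _ => mem_top _) v1 (mem_top _) hv1
      rwa [card_top] at this
    have hAE' : A = E := by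
      refine eq_of_le_of_card_ge hAE ?_
      by_contra hlt
      push Not at hlt
      have := Nat.mul_lt_mul_of_lt_of_lt hlt hlt
      have h2 : Nat.card E * Nat.card E ≤ Nat.card V := (Nat.mul_le_mul_right _ hP0ge).trans hVge
      omega
    rw [hAE'] at hVA hCa
    have hP0eq : Nat.card P0 = Nat.card E :=
      le_antisymm (Nat.le_of_mul_le_mul_right (hVge.trans hVA) Nat.card_pos) hP0ge
    have hVeq : Nat.card V = Nat.card E * Nat.card E := le_antisymm hVA (hP0eq ▸ hVge)
    have hfixE : ∀ a ∈ E, a ≠ 1 → fixSub φ a = P0 := fun a ha ha1 =>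
      (eq_of_le_of_card_ge (fun v hv => (mem_fixAll φ).1 hv a ha) (hP0eq ▸ hCa a ha ha1)).symm
    -- `T` centralises the chain
    have hTP0 : ∀ t ∈ T, ∀ v ∈ P0, φ t v ∈ P0 := by
      intro t ht v hv
      rw [hP0, mem_fixAll] at hv ⊢
      intro a ha
      rw [← apply_mul, ← hcentral a ha.1 ha.2 t ht, apply_mul, hv a ha]
    have hbottom : ∀ t ∈ T, ∀ v ∈ P0, φ t v = v := by
      have hle : fixAll φ T ≤ P0 := fun v hv => (mem_fixAll φ).2 fun a ha => (mem_fixAll φ).1 hv a ha.1
      obtain ⟨w, hw1, hw⟩ := exists_fixed φ hVp T hT.2.1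
      have hwT : w ∈ fixAll φ T := (mem_fixAll φ).2 hw
      have hge : Nat.card E ≤ Nat.card (fixAll φ T) := by
        rw [hEcard, ← hDcard]
        refine card_ge_of_free D
          (fun d => if hd : d ∈ D then (⟨φ d w, hinvariant T hconjT d hd w hwT⟩ : fixAll φ T) else 1) 1 ?_ ?_
        · intro d hd e
          rw [dif_pos hd] at e
          exact hw1 ((φ d).injective (by rw [map_one]; exact congrArg Subtype.val e))
        · intro d hd e he h
          rw [dif_pos hd, dif_pos he] at h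
          exact hfree d hd e he w hw1 (congrArg Subtype.val h)
      intro t ht v hv
      exact (mem_fixAll φ).1 (eq_of_le_of_card_ge hle (hP0eq ▸ hge) ▸ hv : v ∈ fixAll φ T) t ht
    have htop : ∀ t ∈ T, ∀ v, v⁻¹ * φ t v ∈ P0 := by
      let K : Subgroup V :=
        { carrier := {v | ∀ t ∈ T, v⁻¹ * φ t v ∈ P0}
          one_mem' := fun t _ => by simp
          mul_mem' := fun {u w} hu hw t ht => by
            rw [map_mul, show (u * w)⁻¹ * (φ t u * φ t w) = (u⁻¹ * φ t u) * (w⁻¹ * φ t w) by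
              rw [mul_inv_rev]; ac_rfl]
            exact mul_mem (hu t ht) (hw t ht)
          inv_mem' := fun {u} hu t ht => by
            rw [map_inv, ← mul_inv, inv_mem_iff]
            exact hu t ht }
      have hPK : P0 ≤ K := fun v hv t ht => mul_mem (inv_mem hv) (hTP0 t ht v hv)
      have hKD : ∀ d ∈ D, ∀ v ∈ K, φ d v ∈ K := by
        intro d hd v hv t ht
        have h1 := hP0D d hd _ (hv _ (hconjT d hd t ht))
        rwa [map_mul, map_inv, ← apply_mul, show d * (d⁻¹ * t * d) = t * d by group, apply_mul] at h1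
      let ψ : T →* MulAut (V ⧸ P0) :=
        { toFun := fun t => QuotientGroup.congr P0 P0 (φ (t : Y)) (by
            refine eq_of_le_of_card_ge ?_ (le_of_eq (Nat.card_congr
              (P0.equivMapOfInjective _ (φ (t : Y)).injective).toEquiv))
            rintro _ ⟨v, hv, rfl⟩
            exact hTP0 t t.2 v hv)
          map_one' := by ext q; induction q using QuotientGroup.induction_on with | H v => simp
          map_mul' := fun s t => by ext q; induction q using QuotientGroup.induction_on with | H v => simp }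
      haveI : Nontrivial (V ⧸ P0) := ⟨⟨(v1 : V ⧸ P0), 1, fun e => hv1 ((QuotientGroup.eq_one_iff v1).1 e)⟩⟩
      obtain ⟨q, hq1, hq⟩ := exists_fixed ψ (hVp.to_quotient P0) ⊤ (hT.2.1.to_subgroup ⊤)
      obtain ⟨v, rfl⟩ := QuotientGroup.mk_surjective q
      have hvK : v ∈ K := fun t ht => by
        have h1 := hq ⟨t, ht⟩ (mem_top _)
        exact QuotientGroup.eq.1 (Eq.symm h1)
      have hKtop : K = ⊤ := by
        apply eq_top_of_le_card
        rw [hVeq, ← hP0eq]
        nth_rw 2 [hP0eq]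
        exact hquot K hPK hP0D hKD v hvK (fun hmem => hq1 ((QuotientGroup.eq_one_iff v).2 hmem))
      intro t ht v
      exact (hKtop ▸ mem_top v : v ∈ K) t ht
    have hTE : T = E := by
      refine le_antisymm (fun t ht => ⟨ht, hker (MulEquiv.ext fun v => ?_)⟩) fun a ha => ha.1
      rw [map_one, MulAut.one_apply, apply_mul]
      obtain ⟨p, hp, hpv⟩ : ∃ p ∈ P0, φ t v = v * p := ⟨_, htop t ht v, (mul_inv_cancel_left _ _).symm⟩
      rw [hpv, map_mul, hbottom t ht _ hp, hpv, mul_assoc, hV2, mul_one]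
    have hY : Nat.card Y = (Nat.card T + 1) * Nat.card T * (Nat.card T - 1) := by
      have hTc : Nat.card T = i + 1 := by rw [hTE]; exact hEcard
      rw [hE.card_group (by omega), mul_assoc]
      congr 2
      rw [hTc]; rfl
    refine ⟨⟨fun t ht => (hTE ▸ ht : t ∈ E).2, by rw [hVeq, hTE, pow_two],
      fun a ha ha1 => by rw [hfixE a (hTE ▸ ha) ha1, hTE], by rw [hTE]; exact hP0eq, hY, ?_⟩,
      hAE'.trans hTE.symm⟩
    -- an element of order three
    have h3 : 3 ∣ Nat.card Y := by
      rw [hY]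
      obtain ⟨q, hq⟩ : ∃ q, Nat.card T = q + 1 := ⟨Nat.card T - 1, by have := Nat.card_pos (α := T); omega⟩
      rw [hq, Nat.add_sub_cancel]
      have hmod : q % 3 = 0 ∨ q % 3 = 1 ∨ q % 3 = 2 := by omega
      rcases hmod with h | h | h
      · exact dvd_mul_of_dvd_right (by omega) _
      · exact dvd_mul_of_dvd_left (dvd_mul_of_dvd_left (by omega) _) _
      · exact dvd_mul_of_dvd_left (dvd_mul_of_dvd_right (by omega) _) _
    obtain ⟨x, hx⟩ := exists_prime_orderOf_dvd_card' 3 h3
    by_contra hno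
    push Not at hno
    have hx1 : x ≠ 1 := fun e => by rw [e, orderOf_one] at hx; norm_num at hx
    have hfixall : ∀ p : Y ⧸ normalizer (T : Set Y), x • p = p := by
      intro p
      induction p using QuotientGroup.induction_on with
      | H k =>
        rw [TwoGroups.SE.smul_mk_eq_iff]
        exact hno _ ((TwoGroups.SE.orderOf_conj' k x).trans hx)
    obtain ⟨p, hp1, hp2⟩ : ∃ p : Y ⧸ normalizer (T : Set Y), p ≠ o ∧ p ≠ (g : Y ⧸ normalizer (T : Set Y)) := by
      by_contra hno'
      push Not at hno'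
      have hle : Nat.card (Y ⧸ normalizer (T : Set Y)) ≤ 2 := by
        rw [← Set.ncard_univ]
        refine (Set.ncard_le_ncard (t := {o, (g : Y ⧸ normalizer (T : Set Y))}) (fun p _ => ?_) (Set.toFinite _)).trans
          ((Set.ncard_insert_le _ _).trans (by simp))
        by_cases hp : p = o
        · exact Set.mem_insert_iff.2 (Or.inl hp)
        · exact Set.mem_insert_of_mem _ (hno' p hp)
      rw [hE.card_points (by omega)] at hle
      have h1 : Nat.card T = i + 1 := hTE ▸ hEcard
      omega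
    rcases hE.fix_two (by omega) hx1 hgo (hfixall o) (hfixall _) (hfixall p) with e | e
    · exact hp1 e
    · exact hp2 e

end Module

end CfsgLib.CIT
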