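import Cfsg.Agent.Lib.CIT.Local

/-!
# A local subgroup with an offender: structure of `X`, its 2-core and a Sylow 2-subgroup
-/

set_option autoImplicit false
set_option linter.all false

namespace CfsgLib.CIT

open Subgroup
open CfsgLib.Signalizer (involution_sq involution_inv orderOf_eq_two_of orderOf_conj)

variable {G : Type*} [Group G]

/-- Two commuting elementary abelian subgroups generate one. -/
theorem elementary_sup {H K : Subgroup G} (hH : Cfsg.IsElementaryAbelian 2 H) (hK : Cfsg.IsElementaryAbelian 2 K)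
    (hc : ∀ h ∈ H, ∀ k ∈ K, h * k = k * h) : Cfsg.IsElementaryAbelian 2 (H ⊔ K : Subgroup G) := by
  have hHH : ∀ a ∈ H, ∀ b ∈ H, a * b = b * a := fun a ha b hb =>
    congrArg Subtype.val (hH.1.is_comm.comm ⟨a, ha⟩ ⟨b, hb⟩)
  have hKK : ∀ a ∈ K, ∀ b ∈ K, a * b = b * a := fun a ha b hb =>
    congrArg Subtype.val (hK.1.is_comm.comm ⟨a, ha⟩ ⟨b, hb⟩)
  have h1 : H ⊔ K ≤ centralizer ((H : Set G) ∪ K) := sup_le
    (fun a ha => mem_centralizer_iff.2 fun b hb => hb.elim (fun h => hHH b h a ha) (fun h => (hc a ha b h).symm))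
    (fun a ha => mem_centralizer_iff.2 fun b hb => hb.elim (fun h => hc b h a ha) (fun h => hKK b h a ha))
  have h2 : H ⊔ K ≤ centralizer ((H ⊔ K : Subgroup G) : Set G) := by
    intro a ha
    have h3 : H ⊔ K ≤ centralizer ({a} : Set G) := sup_le
      (fun b hb => mem_centralizer_singleton_iff.2 (mem_centralizer_iff.1 (h1 ha) b (Or.inl hb)))
      (fun b hb => mem_centralizer_singleton_iff.2 (mem_centralizer_iff.1 (h1 ha) b (Or.inr hb)))
    exact mem_centralizer_iff.2 fun b hb => mem_centralizer_singleton_iff.1 (h3 hb)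
  refine ⟨⟨⟨fun a b => Subtype.ext (mem_centralizer_iff.1 (h2 b.2) a a.2)⟩⟩, fun a ha => ?_⟩
  rw [sup_eq_closure] at ha
  induction ha using closure_induction with
  | mem x hx => exact hx.elim (hH.2 x) (hK.2 x)
  | one => exact one_pow _
  | mul x y hx hy ihx ihy =>
    rw [← sup_eq_closure] at hx hy
    rw [(show Commute x y from mem_centralizer_iff.1 (h2 hy) x hx).mul_pow, ihx, ihy, one_mul]
  | inv x hx ihx => rw [inv_pow, ihx, inv_one]

theorem isElementaryAbelian_zpowers {r : G} (hr : r * r = 1) : Cfsg.IsElementaryAbelian 2 (zpowers r) :=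
  ⟨inferInstance, fun a ha => orderOf_dvd_iff_pow_eq_one.1
    ((orderOf_dvd_of_mem_zpowers ha).trans (orderOf_dvd_of_pow_eq_one (by rw [pow_two, hr])))⟩

theorem isElementaryAbelian_le {H K : Subgroup G} (h : Cfsg.IsElementaryAbelian 2 K) (hle : H ≤ K) :
    Cfsg.IsElementaryAbelian 2 H :=
  ⟨⟨⟨fun a b => Subtype.ext (congrArg Subtype.val (h.1.is_comm.comm ⟨a, hle a.2⟩ ⟨b, hle b.2⟩) :)⟩⟩,
    fun a ha => h.2 a (hle ha)⟩

theorem comm_of_elementary {H : Subgroup G} (h : Cfsg.IsElementaryAbelian 2 H) {a b : G} (ha : a ∈ H) (hb : b ∈ H) :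
    a * b = b * a :=
  congrArg Subtype.val (h.1.is_comm.comm ⟨a, ha⟩ ⟨b, hb⟩)

theorem sq_of_elementary {H : Subgroup G} (h : Cfsg.IsElementaryAbelian 2 H) {a : G} (ha : a ∈ H) : a * a = 1 := by
  rw [← pow_two]
  exact h.2 a ha

theorem card_mul_card_le_sup [Finite G] (H K : Subgroup G) :
    Nat.card H * Nat.card K ≤ Nat.card (H ⊔ K : Subgroup G) * Nat.card (H ⊓ K : Subgroup G) := by
  have h1 : Nat.card (H ⊓ K : Subgroup G) * H.relIndex K = Nat.card K := by
    rw [← inf_relIndex_right H K]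
    have := ((H ⊓ K).subgroupOf K).card_mul_index
    rwa [Nat.card_congr (subgroupOfEquivOfLe inf_le_right).toEquiv] at this
  have h2 : Nat.card H * H.relIndex (H ⊔ K) = Nat.card (H ⊔ K : Subgroup G) := by
    have := (H.subgroupOf (H ⊔ K)).card_mul_index
    rwa [Nat.card_congr (subgroupOfEquivOfLe le_sup_left).toEquiv] at this
  have h3 : H.relIndex K ≤ H.relIndex (H ⊔ K) := relIndex_le_of_le_right le_sup_right index_ne_zero_of_finite
  calc Nat.card H * Nat.card K = Nat.card H * H.relIndex K * Nat.card (H ⊓ K : Subgroup G) := by rw [← h1]; ring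
    _ ≤ Nat.card H * H.relIndex (H ⊔ K) * Nat.card (H ⊓ K : Subgroup G) :=
        Nat.mul_le_mul_right _ (Nat.mul_le_mul_left _ h3)
    _ = _ := by rw [h2]

variable [Finite G]

theorem card_qimg {X H : Subgroup G} (hH : H ≤ X) :
    Nat.card (qimg X H) * Nat.card (H ⊓ core X : Subgroup G) = Nat.card H := by
  let f : H →* X ⧸ Cfsg.pCore 2 X := (QuotientGroup.mk' _).comp (inclusion hH)
  have hr : f.range = qimg X H := by
    ext q
    constructor
    · rintro ⟨h, rfl⟩
      exact ⟨inclusion hH h, h.2, rfl⟩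
    · rintro ⟨x, hx, rfl⟩
      exact ⟨⟨(x : G), hx⟩, rfl⟩
  have hk : f.ker = (core X).subgroupOf H := by
    ext h
    rw [MonoidHom.mem_ker, mem_subgroupOf]
    show (QuotientGroup.mk' _ (inclusion hH h) = 1 ↔ _)
    rw [QuotientGroup.mk'_apply, QuotientGroup.eq_one_iff, ← mem_core_iff]
    rfl
  have h1 := f.ker.index_mul_card
  rw [index_ker, hr, hk, ← inf_subgroupOf_left,
    Nat.card_congr (subgroupOfEquivOfLe inf_le_left).toEquiv] at h1
  exact h1

/-- `W ∩ C(T)`, where `W` is the module of `X`. -/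
def zfix (X T : Subgroup G) : Subgroup G := zcore X ⊓ centralizer (T : Set G)

theorem mem_zfix {X T : Subgroup G} {w : G} : w ∈ zfix X T ↔ w ∈ zcore X ∧ ∀ t ∈ T, t * w = w * t := by
  rw [zfix, mem_inf, mem_centralizer_iff]
  rfl

/-- The structure of a local subgroup with an offender. -/
structure Para (X T A : Subgroup G) (q : ℕ) : Prop where
  one_lt : 1 < q
  syl : IsSyl T X
  maxA : IsMaxElem A T
  card_W : Nat.card (zcore X) = q ^ 2
  card_A : Nat.card A = q ^ 2
  card_Z : Nat.card (zfix X T) = q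
  card_T : Nat.card T = q * Nat.card (core X)
  card_X : Nat.card X = (q + 1) * q * (q - 1) * Nat.card (core X)
  sup_eq : A ⊔ core X = T
  inf_eq : A ⊓ core X = zfix X T
  inv_core : ∀ r ∈ core X, r * r = 1 → r ∈ zcore X
  sq_mem : ∀ t ∈ T, t * t ∈ core X
  fix : ∀ t ∈ T, t ∉ core X → ∀ w ∈ zcore X, t * w = w * t → w ∈ zfix X T
  trans : ∀ v ∈ zcore X, v ≠ 1 → ∀ w ∈ zcore X, w ≠ 1 → ∃ x ∈ X, x * v * x⁻¹ = w
  three : ∃ x ∈ X, orderOf x = 3 ∧ x ∉ normalizer (T : Set G)

theorem exists_para (hC : CIT G) (hL : LocalTI G) {X T A : Subgroup G} (hX : core X ≠ ⊥) (hb : Branching X)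
    (hT : IsSyl T X) (hA : IsMaxElem A T) (hAR : ¬ A ≤ core X) : ∃ q, Para X T A q := by
  classical
  haveI : Fact (Nat.Prime 3) := ⟨Nat.prime_three⟩
  have hRT : core X ≤ T := core_le_syl hT
  have hAX : A ≤ X := hA.1.trans hT.1
  set W := zcore X with hWdef
  have hWR : W ≤ core X := zcore_le X
  have hWel : Cfsg.IsElementaryAbelian 2 W := zcore_elementary X
  set B : Subgroup G := A ⊓ core X with hBdef
  have hBel : Cfsg.IsElementaryAbelian 2 B := isElementaryAbelian_le hA.2.1 inf_le_left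
  have hWB : ∀ w ∈ W, ∀ b ∈ B, w * b = b * w := fun w hw b hb => (hw.2.2 b hb.2).symm
  set E : Subgroup G := W ⊔ B with hEdef
  have hEel : Cfsg.IsElementaryAbelian 2 E := elementary_sup hWel hBel hWB
  have hER : E ≤ core X := sup_le hWR inf_le_right
  have hEA : Nat.card E ≤ Nat.card A := hA.2.2 E (hER.trans hRT) hEel
  haveI : Nontrivial W := (nontrivial_iff_ne_bot _).2 (zcore_ne_bot hX)
  set φ := qact X with hφ
  have hcardA := card_qimg hAX
  rw [← hBdef] at hcardA
  have hfixA : Nat.card (W ⊓ B : Subgroup G) ≤ Nat.card (fixAll φ (qimg X A)) := by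
    refine Nat.card_le_card_of_injective (fun w : ↥(W ⊓ B) =>
      (⟨⟨w, w.2.1⟩, (mem_fixAll φ).2 ?_⟩ : fixAll φ (qimg X A))) ?_
    · rintro _ ⟨a, ha, rfl⟩
      show qact X (a : X ⧸ Cfsg.pCore 2 X) _ = _
      rw [qact_mk, act_eq_self_iff]
      exact comm_of_elementary hA.2.1 ha w.2.2.1
    · intro v w h
      exact Subtype.ext (congrArg (fun z => ((Subtype.val z : W) : G)) h)
  have hsup := card_mul_card_le_sup W B
  rw [← hEdef] at hsup
  have hoff : Nat.card W ≤ Nat.card (qimg X A) * Nat.card (fixAll φ (qimg X A)) := by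
    refine Nat.le_of_mul_le_mul_right (c := Nat.card B) ?_ Nat.card_pos
    calc Nat.card W * Nat.card B ≤ Nat.card E * Nat.card (W ⊓ B : Subgroup G) := hsup
      _ ≤ Nat.card A * Nat.card (fixAll φ (qimg X A)) := Nat.mul_le_mul hEA hfixA
      _ = _ := by rw [← hcardA]; ring
  have hAq1 : qimg X A ≠ ⊥ := by
    intro h
    refine hAR fun a ha => (mem_core_iff (⟨a, hAX ha⟩ : X)).2 ((QuotientGroup.eq_one_iff _).1 ?_)
    exact mem_bot.1 (h ▸ (⟨⟨a, hAX ha⟩, ha, rfl⟩ :
      ((⟨a, hAX ha⟩ : X) : X ⧸ Cfsg.pCore 2 X) ∈ qimg X A))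
  have hAq2 : ∀ a ∈ qimg X A, a * a = 1 := by
    rintro _ ⟨a, ha, rfl⟩
    rw [← map_mul, show a * a = 1 from Subtype.ext (sq_of_elementary hA.2.1 ha), map_one]
  have hTI := tiSylow_quotient hL hX
  have hTq := hT.qimg
  obtain ⟨hnat, hAT⟩ := natural φ (hC.quotient X) hTI hb.quotient
    (fun w => Subtype.ext (zcore_sq w.2)) (qact_oddFpf hC X) (qact_injective hC hX) hTq
    (map_mono (comap_mono hA.1)) hAq2 hAq1 hoff
  replace hAT : qimg X A = qimg X T := hAT
  set q := Nat.card (qimg X T) with hq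
  have hcW : Nat.card W = q ^ 2 := hnat.card_V
  have hq1 : 1 < q := by
    haveI : Nontrivial (qimg X T) := (nontrivial_iff_ne_bot _).2 (hAT ▸ hAq1)
    exact Finite.one_lt_card
  have hfixiff : ∀ w : W, w ∈ fixAll φ (qimg X T) ↔ ∀ t ∈ T, t * (w : G) = w * t := by
    intro w
    rw [mem_fixAll]
    constructor
    · intro h t ht
      exact (act_eq_self_iff (⟨t, hT.1 ht⟩ : X) w).1 (h _ ((mk_mem_qimg hRT ⟨t, hT.1 ht⟩).2 ht))
    · intro h a ha
      obtain ⟨x, rfl⟩ := QuotientGroup.mk_surjective a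
      rw [hφ, qact_mk, act_eq_self_iff]
      exact h x ((mk_mem_qimg hRT x).1 ha)
  have hcZ : Nat.card (zfix X T) = q := by
    refine (Nat.card_congr ?_).trans hnat.card_fix
    exact
      { toFun := fun z => ⟨⟨z, (mem_zfix.1 z.2).1⟩, (hfixiff _).2 (mem_zfix.1 z.2).2⟩
        invFun := fun z => ⟨(z : W), mem_zfix.2 ⟨(z : W).2, (hfixiff _).1 z.2⟩⟩
        left_inv := fun z => rfl
        right_inv := fun z => rfl }
  have hcT : Nat.card T = q * Nat.card (core X) := by
    rw [← card_qimg hT.1, inf_eq_right.2 hRT]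
  have hsupT : A ⊔ core X = T := by
    refine le_antisymm (sup_le hA.1 hRT) fun t ht => ?_
    obtain ⟨a, ha, hat⟩ : ((⟨t, hT.1 ht⟩ : X) : X ⧸ Cfsg.pCore 2 X) ∈ qimg X A :=
      hAT.ge ((mk_mem_qimg hRT _).2 ht)
    rw [QuotientGroup.mk'_apply] at hat
    have h1 : ((a : X) : G)⁻¹ * t ∈ core X := by
      simpa using (mem_core_iff (a⁻¹ * ⟨t, hT.1 ht⟩)).2 (QuotientGroup.eq.1 hat)
    rw [show t = ((a : X) : G) * (((a : X) : G)⁻¹ * t) by group]
    exact mul_mem_sup ha h1
  -- an element of order three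
  obtain ⟨y3, hy3, hy3N⟩ := hnat.three
  obtain ⟨x, hx, hx1, n, hn⟩ := exists_odd_lift (QuotientGroup.mk' (Cfsg.pCore 2 X))
    (QuotientGroup.mk'_surjective _) (q := y3) (by rw [hy3]; decide)
    (fun h => by rw [h, orderOf_one] at hy3; norm_num at hy3)
  have hx3 : orderOf x = 3 := by
    refine orderOf_eq_prime ?_ (fun h => hx1 (by rw [h, map_one]))
    refine eq_one_of_odd_of_pGroup (CfsgLib.Core.isPGroup_pCore 2 X) ?_
      (Odd.of_dvd_nat hx (orderOf_pow_dvd 3))
    rw [← QuotientGroup.eq_one_iff, ← QuotientGroup.mk'_apply, map_pow, hn, ← pow_mul, mul_comm, pow_mul, ← hy3,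
      pow_orderOf_eq_one, one_pow]
  have hxN : (x : G) ∉ normalizer (T : Set G) := by
    intro hxn
    refine hy3N ?_
    have h1 : QuotientGroup.mk' (Cfsg.pCore 2 X) x ∈ normalizer (qimg X T : Set (X ⧸ Cfsg.pCore 2 X)) := by
      rw [mem_normalizer_iff]
      intro z
      obtain ⟨z, rfl⟩ := QuotientGroup.mk_surjective z
      rw [QuotientGroup.mk'_apply, ← QuotientGroup.mk_mul, ← QuotientGroup.mk_inv, ← QuotientGroup.mk_mul,
        mk_mem_qimg hRT, mk_mem_qimg hRT]
      exact mem_normalizer_iff.1 hxn (z : G)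
    have h3 : y3 ∈ zpowers (y3 ^ n) := by
      have hn3 : ¬ 3 ∣ n := fun ⟨j, hj⟩ => hx1 (by
        rw [hn, hj, pow_mul, ← hy3, pow_orderOf_eq_one, one_pow])
      have : orderOf (y3 ^ n) = 3 := by
        rw [orderOf_pow, hy3, Nat.Coprime.gcd_eq_one ((Nat.prime_three.coprime_iff_not_dvd).2 hn3), Nat.div_one]
      have heq : zpowers (y3 ^ n) = zpowers y3 := eq_of_le_of_card_ge
        (zpowers_le.2 (pow_mem (mem_zpowers y3) n)) (by rw [Nat.card_zpowers, Nat.card_zpowers, this, hy3])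
      exact heq ▸ mem_zpowers y3
    exact (zpowers_le.2 (hn ▸ h1) : zpowers (y3 ^ n) ≤ _) h3
  have hxG1 : (x : G) ≠ 1 := fun h => hx1 (by rw [show x = 1 from Subtype.ext h, map_one])
  have hxGodd : Odd (orderOf (x : G)) := by rw [orderOf_coe]; exact hx
  -- `B` lies in `W`
  have hEge : Nat.card A ≤ Nat.card E := by
    have h1 : Nat.card (W ⊓ B : Subgroup G) ≤ q :=
      (hAT ▸ hfixA : Nat.card (W ⊓ B : Subgroup G) ≤ Nat.card (fixAll φ (qimg X T))).trans hnat.card_fix.le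
    refine Nat.le_of_mul_le_mul_right (c := q) ?_ (by omega)
    calc Nat.card A * q = q * q * Nat.card B := by rw [← hcardA, hAT]; ring
      _ = Nat.card W * Nat.card B := by rw [hcW]; ring
      _ ≤ Nat.card E * Nat.card (W ⊓ B : Subgroup G) := hsup
      _ ≤ Nat.card E * q := Nat.mul_le_mul_left _ h1
  have hxW : cj (x : G) W = W := mem_normalizer_iff_cj.1 (zcore_normalized X x.2)
  have hxR : cj (x : G) (core X) = core X := mem_normalizer_iff_cj.1 (core_normalized X x.2)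
  have hcross : ∀ a ∈ B, ∀ b ∈ B, ((x : G) * a * (x : G)⁻¹) * b = b * ((x : G) * a * (x : G)⁻¹) := by
    intro a ha b hb
    let f : core X ≃* core X := (core X).normalizerMonoidHom ⟨x, core_normalized X x.2⟩
    have hf : ∀ r : core X, ((f r : core X) : G) = (x : G) * r * (x : G)⁻¹ := fun r => rfl
    have hxx : (x : G) * (x : G) * (x : G) = 1 := by
      rw [← pow_three', ← hx3, ← orderOf_coe, pow_orderOf_eq_one]
    have hf3 : ∀ r, f (f (f r)) = r := by
      intro r
      apply Subtype.ext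
      rw [hf, hf, hf]
      calc (x : G) * ((x : G) * ((x : G) * r * (x : G)⁻¹) * (x : G)⁻¹) * (x : G)⁻¹
          = ((x : G) * x * x) * r * ((x : G) * x * x)⁻¹ := by group
        _ = r := by rw [hxx]; group
    have hffix : ∀ r, f r = r → r = 1 := fun r hr => Subtype.ext
      (hC.eq_one_of_mem hxGodd hxG1 (isPGroup_core X) r.2 (mul_inv_eq_iff_eq_mul.1 (by
        rw [← hf, hr])))
    have := three_commute f hf3 hffix (a := ⟨a, ha.2⟩) (b := ⟨b, hb.2⟩)
      (Subtype.ext (comm_of_elementary hBel ha hb))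
    exact congrArg Subtype.val this
  have hxE : cj (x : G) E = E := by
    have hB'el : Cfsg.IsElementaryAbelian 2 (cj (x : G) B) := isElementaryAbelian_cj hBel
    have hB'R : cj (x : G) B ≤ core X := hxR ▸ cj_mono inf_le_right
    have hE3 : Cfsg.IsElementaryAbelian 2 (E ⊔ cj (x : G) B : Subgroup G) := by
      refine elementary_sup hEel hB'el fun e he k hk => ?_
      have : E ≤ centralizer ({k} : Set G) := sup_le
        (fun w hw => mem_centralizer_singleton_iff.2 (hw.2.2 k (hB'R hk)).symm)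
        (fun b hb => by
          obtain ⟨a, ha, rfl⟩ := hk
          exact mem_centralizer_singleton_iff.2 (hcross a ha b hb).symm)
      exact mem_centralizer_singleton_iff.1 (this he)
    have heq : E = E ⊔ cj (x : G) B := eq_of_le_of_card_ge le_sup_left
      ((hA.2.2 _ (sup_le hER hB'R |>.trans hRT) hE3).trans hEge)
    refine eq_of_le_of_card_ge ?_ (card_cj _ _).ge
    rw [hEdef, cj, Subgroup.map_sup]
    exact sup_le (by rw [show W.map _ = cj (x : G) W from rfl, hxW]; exact le_sup_left)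
      ((le_sup_right : cj (x : G) B ≤ E ⊔ cj (x : G) B).trans heq.ge)
  have hBW : B ≤ W := by
    let K : Subgroup G :=
      { carrier := {g | g ∈ X ∧ g ∈ normalizer (E : Set G) ∧ ∀ e ∈ E, e⁻¹ * (g * e * g⁻¹) ∈ W}
        one_mem' := ⟨one_mem _, one_mem _, fun e _ => by simp⟩
        mul_mem' := fun {g h} hg hh => ⟨mul_mem hg.1 hh.1, mul_mem hg.2.1 hh.2.1, fun e he => by
          rw [show e⁻¹ * (g * h * e * (g * h)⁻¹) = e⁻¹ * (g * e * g⁻¹) * (g * (e⁻¹ * (h * e * h⁻¹)) * g⁻¹) by group]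
          exact mul_mem (hg.2.2 e he) ((mem_normalizer_iff.1 (zcore_normalized X hg.1) _).1 (hh.2.2 e he))⟩
        inv_mem' := fun {g} hg => ⟨inv_mem hg.1, inv_mem hg.2.1, fun e he => by
          have he' : g⁻¹ * e * g ∈ E := by simpa using (mem_normalizer_iff''.1 hg.2.1 e).1 he
          rw [show e⁻¹ * (g⁻¹ * e * g⁻¹⁻¹) = ((g⁻¹ * e * g)⁻¹ * (g * (g⁻¹ * e * g) * g⁻¹))⁻¹ by group]
          exact inv_mem (hg.2.2 _ he')⟩ }
    have hAK : ∀ a ∈ A, a ∈ K := by
      intro a ha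
      have hnW := zcore_normalized X (hAX ha)
      have hcomm : ∀ e ∈ E, e⁻¹ * (a * e * a⁻¹) ∈ W := by
        intro e he
        have hset : E ≤ ({ carrier := {e | e ∈ E ∧ e⁻¹ * (a * e * a⁻¹) ∈ W}
                           one_mem' := ⟨one_mem _, by simp⟩
                           mul_mem' := fun {u v} hu hv => ⟨mul_mem hu.1 hv.1, by
                             rw [show (u * v)⁻¹ * (a * (u * v) * a⁻¹) =
                               v⁻¹ * (u⁻¹ * (a * u * a⁻¹)) * v * (v⁻¹ * (a * v * a⁻¹)) by group]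
                             exact mul_mem ((mem_normalizer_iff''.1
                               (zcore_normalized X (core_le X (hER hv.1))) _).1 hu.2) hv.2⟩
                           inv_mem' := fun {u} hu => ⟨inv_mem hu.1, by
                             rw [show u⁻¹⁻¹ * (a * u⁻¹ * a⁻¹) = u * (u⁻¹ * (a * u * a⁻¹))⁻¹ * u⁻¹ by group]
                             exact (mem_normalizer_iff.1 (zcore_normalized X (core_le X (hER hu.1))) _).1
                               (inv_mem hu.2)⟩ } : Subgroup G) := sup_le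
          (fun w hw => ⟨le_sup_left (α := Subgroup G) hw,
            mul_mem (inv_mem hw) ((mem_normalizer_iff.1 hnW w).1 hw)⟩)
          (fun b hb => ⟨le_sup_right (α := Subgroup G) hb, by
            rw [comm_of_elementary hA.2.1 ha hb.1, mul_inv_cancel_right, inv_mul_cancel]
            exact one_mem _⟩)
        exact (hset he).2
      refine ⟨hAX ha, ?_, hcomm⟩
      rw [mem_normalizer_iff_cj]
      refine eq_of_le_of_card_ge (fun g hg => ?_) (card_cj _ _).ge
      obtain ⟨e, he, rfl⟩ := hg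
      show a * e * a⁻¹ ∈ E
      rw [show a * e * a⁻¹ = e * (e⁻¹ * (a * e * a⁻¹)) by group]
      exact mul_mem he (le_sup_left (α := Subgroup G) (hcomm e he))
    obtain ⟨a, ha, haR⟩ := SetLike.not_le_iff_exists.1 hAR
    have hxK : (x : G) * a * (x : G)⁻¹ ∈ K := by
      obtain ⟨-, hn', hc⟩ := hAK a ha
      have hxn : (x : G) ∈ normalizer (E : Set G) := mem_normalizer_iff_cj.2 hxE
      refine ⟨mul_mem (mul_mem x.2 (hAX ha)) (inv_mem x.2), mul_mem (mul_mem hxn hn') (inv_mem hxn), fun e he => ?_⟩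
      have he' : (x : G)⁻¹ * e * x ∈ E := by simpa using (mem_normalizer_iff''.1 hxn e).1 he
      rw [show e⁻¹ * ((x : G) * a * (x : G)⁻¹ * e * ((x : G) * a * (x : G)⁻¹)⁻¹) = (x : G) *
        (((x : G)⁻¹ * e * x)⁻¹ * (a * ((x : G)⁻¹ * e * x) * a⁻¹)) * (x : G)⁻¹ by group]
      exact (mem_normalizer_iff.1 (zcore_normalized X x.2) _).1 (hc _ he')
    set aX : X := ⟨a, hAX ha⟩
    have haq : orderOf ((aX : X) : X ⧸ Cfsg.pCore 2 X) = 2 := orderOf_eq_two_of
      (fun h => haR ((mem_core_iff aX).2 ((QuotientGroup.eq_one_iff _).1 h))) (hAq2 _ ⟨aX, ha, rfl⟩)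
    have hbq : ((x * aX * x⁻¹ : X) : X ⧸ Cfsg.pCore 2 X) ∉ qimg X T := by
      intro hmem
      refine hxN (mem_normalizer_iff_cj.2 ?_)
      by_contra hne
      have hT' := hT.cj_of_mem (le_normalizer x.2 : (x : G) ∈ normalizer (X : Set G))
      have hin : ((x * aX * x⁻¹ : X) : G) ∈ core X := hL X hX _ _ hT' hT hne
        ⟨(conj_mem_cj.2 (hA.1 ha) : (x : G) * a * (x : G)⁻¹ ∈ cj (x : G) T), (mk_mem_qimg hRT _).1 hmem⟩
      exact haR ((mem_normalizer_iff.1 (core_normalized X x.2) a).2 hin)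
    obtain ⟨m, hm, hm1⟩ := hTI.exists_odd hTq (a := (aX : X ⧸ Cfsg.pCore 2 X))
      (b := ((x * aX * x⁻¹ : X) : X ⧸ Cfsg.pCore 2 X)) haq
      (by rw [QuotientGroup.mk_mul, QuotientGroup.mk_mul, QuotientGroup.mk_inv, orderOf_conj, haq])
      ((mk_mem_qimg hRT aX).2 (hA.1 ha)) hbq
    set y0 : G := (a * ((x : G) * a * (x : G)⁻¹)) ^ m with hy0
    have hy0K : y0 ∈ K := pow_mem (mul_mem (hAK a ha) hxK) m
    obtain ⟨e2, o, ho, he2⟩ := Nat.exists_eq_two_pow_mul_odd (orderOf_pos y0).ne'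
    set y := y0 ^ 2 ^ e2 with hy
    have hyodd : Odd (orderOf y) := by
      rw [hy, orderOf_pow_of_dvd (pow_ne_zero _ two_ne_zero) (he2 ▸ dvd_mul_right _ _), he2,
        Nat.mul_div_cancel_left _ (pow_pos two_pos e2)]
      exact ho
    have hy1 : y ≠ 1 := by
      intro h
      refine hm1 (orderOf_eq_one_iff.1 ?_)
      have h1 : (((aX : X ⧸ Cfsg.pCore 2 X) * ((x * aX * x⁻¹ : X) : X ⧸ Cfsg.pCore 2 X)) ^ m) ^ 2 ^ e2 = 1 := by
        rw [← QuotientGroup.mk_mul, ← QuotientGroup.mk_pow, ← QuotientGroup.mk_pow,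
          show (((aX * (x * aX * x⁻¹)) ^ m) ^ 2 ^ e2 : X) = 1 from Subtype.ext (by simpa [hy0, hy] using h),
          QuotientGroup.mk_one]
      exact Nat.eq_one_of_dvd_coprimes (Nat.Coprime.pow_left e2 (Nat.coprime_two_left.2 hm))
        (orderOf_dvd_of_pow_eq_one h1) dvd_rfl
    intro b hb
    have hbE : b ∈ E := le_sup_right (α := Subgroup G) hb
    have hyK : y ∈ K := pow_mem hy0K _
    obtain ⟨w, hw, hcw⟩ := hC.exists_commute_coset ((isPGroup_core X).to_le hWR) hyodd hy1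
      (zcore_normalized X hyK.1) (hyK.2.2 b hbE)
    have : b * w = 1 := hC.eq_one_of_mem hyodd hy1 (isPGroup_core X)
      (mul_mem hb.2 (hWR hw)) hcw
    rw [eq_inv_of_mul_eq_one_left this]
    exact inv_mem hw
  have hBZ : B ≤ zfix X T := by
    intro b hb
    refine mem_zfix.2 ⟨hBW hb, fun t ht => ?_⟩
    have : T ≤ centralizer ({b} : Set G) := hsupT ▸ sup_le
      (fun a ha => mem_centralizer_singleton_iff.2 (comm_of_elementary hA.2.1 ha hb.1))
      (fun r hr => mem_centralizer_singleton_iff.2 ((hBW hb).2.2 r hr))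
    exact mem_centralizer_singleton_iff.1 (this ht)
  have hcB : Nat.card A = q * Nat.card B := by rw [← hcardA, hAT]
  have hWA : Nat.card W ≤ Nat.card A := hA.2.2 W (hWR.trans hRT) hWel
  have hBeq : B = zfix X T := eq_of_le_of_card_ge hBZ (by
    rw [hcZ]
    refine Nat.le_of_mul_le_mul_left ?_ (show 0 < q by omega)
    rw [← hcB, ← pow_two, ← hcW]
    exact hWA)
  have hcA : Nat.card A = q ^ 2 := by rw [hcB, hBeq, hcZ, pow_two]
  refine ⟨q, hq1, hT, hA, hcW, hcA, hcZ, hcT, ?_, hsupT, hBeq, ?_, ?_, ?_, ?_, x, x.2, by rwa [orderOf_coe], hxN⟩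
  · rw [← hnat.card_Y, core, Nat.card_congr ((Cfsg.pCore 2 X).equivMapOfInjective _ X.subtype_injective).symm.toEquiv]
    exact card_eq_card_quotient_mul_card_subgroup _
  · intro r hr hr2
    have hel : Cfsg.IsElementaryAbelian 2 (W ⊔ zpowers r : Subgroup G) := by
      refine elementary_sup hWel (isElementaryAbelian_zpowers hr2) fun w hw k hk => ?_
      exact (hw.2.2 k ((zpowers_le.2 hr) hk)).symm
    have heq : W = W ⊔ zpowers r := eq_of_le_of_card_ge le_sup_left (by
      rw [hcW, ← hcA]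
      exact hA.2.2 _ ((sup_le hWR (zpowers_le.2 hr)).trans hRT) hel)
    exact heq.ge (mem_sup_right (mem_zpowers r))
  · intro t ht
    have h1 := hnat.elem _ ((mk_mem_qimg hRT ⟨t, hT.1 ht⟩).2 ht)
    rw [← QuotientGroup.mk_mul, QuotientGroup.eq_one_iff] at h1
    exact (mem_core_iff _).2 h1
  · intro t ht htR w hw hc
    refine mem_zfix.2 ⟨hw, (hfixiff ⟨w, hw⟩).1 ?_⟩
    rw [← hnat.fix_eq _ ((mk_mem_qimg hRT ⟨t, hT.1 ht⟩).2 ht)
      (fun h => htR ((mem_core_iff _).2 ((QuotientGroup.eq_one_iff _).1 h)))]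
    exact (act_eq_self_iff (⟨t, hT.1 ht⟩ : X) ⟨w, hw⟩).2 hc
  · -- transitivity on the nonidentity elements of `W`
    letI : MulAction (X ⧸ Cfsg.pCore 2 X) W := MulAction.compHom W φ
    haveI : Nontrivial (zfix X T) := Finite.one_lt_card_iff_nontrivial.1 (by omega)
    obtain ⟨⟨z, hz⟩, hz1'⟩ := exists_ne (1 : zfix X T)
    set zW : W := ⟨z, (mem_zfix.1 hz).1⟩
    have hz1 : zW ≠ 1 := fun h => hz1' (Subtype.ext (congrArg Subtype.val h :))
    have hst : MulAction.stabilizer (X ⧸ Cfsg.pCore 2 X) zW = qimg X T := by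
      refine hTq.2.2 _ (fun t ht => ?_) le_top ?_
      · exact (mem_fixAll φ).1 ((hfixiff zW).2 (mem_zfix.1 hz).2) t ht
      · intro s
        by_contra hno
        obtain ⟨k, hk, hk1⟩ := exists_odd_power (s : X ⧸ Cfsg.pCore 2 X) fun k hk => hno ⟨k, Subtype.ext (by
          rw [coe_pow, coe_one, ← hk, pow_orderOf_eq_one])⟩
        exact hz1 (qact_oddFpf hC X _ hk hk1 zW (map_pow_fix φ s.2 k))
    have horb : MulAction.orbit (X ⧸ Cfsg.pCore 2 X) zW = {w : W | w ≠ 1} := by
      refine Set.eq_of_subset_of_ncard_le ?_ ?_ (Set.toFinite _)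
      · rintro _ ⟨g, rfl⟩ h
        exact hz1 ((φ g).injective (h.trans (map_one _).symm))
      · rw [← MulAction.index_stabilizer, hst]
        have h1 : ({w : W | w ≠ 1}).ncard = q ^ 2 - 1 := by
          rw [show {w : W | w ≠ 1} = {(1 : W)}ᶜ from rfl, Set.ncard_compl, Set.ncard_singleton, hcW]
        have h2 := (qimg X T).card_mul_index
        rw [hnat.card_Y, ← hq] at h2
        have h3 : (qimg X T).index = (q + 1) * (q - 1) :=
          Nat.eq_of_mul_eq_mul_left (show 0 < q by omega) (h2.trans (by ring))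
        rw [h1, h3, ← Nat.sq_sub_sq, one_pow]
    intro v hv hv1 w hw hw1
    obtain ⟨g, hg⟩ : (⟨v, hv⟩ : W) ∈ MulAction.orbit (X ⧸ Cfsg.pCore 2 X) zW :=
      horb ▸ (show (⟨v, hv⟩ : W) ≠ 1 from fun h => hv1 (congrArg Subtype.val h))
    obtain ⟨k, hk⟩ : (⟨w, hw⟩ : W) ∈ MulAction.orbit (X ⧸ Cfsg.pCore 2 X) zW :=
      horb ▸ (show (⟨w, hw⟩ : W) ≠ 1 from fun h => hw1 (congrArg Subtype.val h))
    obtain ⟨u, hu⟩ := QuotientGroup.mk_surjective (k * g⁻¹)
    refine ⟨u, u.2, ?_⟩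
    have h1 : φ (k * g⁻¹) (⟨v, hv⟩ : W) = ⟨w, hw⟩ := by
      show (k * g⁻¹) • (⟨v, hv⟩ : W) = ⟨w, hw⟩
      rw [← hg, ← hk]
      simp [mul_smul]
    rw [← hu, hφ, qact_mk] at h1
    exact congrArg Subtype.val h1

/-- A local subgroup containing a branching one with the same normaliser of the core is equal to it. -/
theorem core_eq_of_le (hL : LocalTI G) {X X' : Subgroup G} (hb : Branching X) (hXX' : X ≤ X')
    (hnorm : normalizer (core X : Set G) ≤ X) (hX' : core X' ≠ ⊥) : X' = X ∧ core X' = core X := by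
  obtain ⟨T, hT, -⟩ := exists_isSyl (bot_le : (⊥ : Subgroup G) ≤ X) IsPGroup.of_bot
  obtain ⟨T', hT', hne⟩ := hb.exists_ne hT
  obtain ⟨U, hU, hTU⟩ := exists_isSyl (hT.1.trans hXX') hT.2.1
  obtain ⟨U', hU', hTU'⟩ := exists_isSyl (hT'.1.trans hXX') hT'.2.1
  have hUX : ∀ {T U : Subgroup G}, IsSyl T X → IsPGroup 2 U → T ≤ U → U ⊓ X = T := fun {T U} h hU hle =>
    h.2.2 _ (le_inf hle h.1) inf_le_right (hU.to_le inf_le_left)
  have hUU' : U ≠ U' := fun h => hne (by
    have h1 := hUX hT hU.2.1 hTU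
    rw [h, hUX hT' hU'.2.1 hTU'] at h1
    exact h1)
  have h1 : core X ≤ core X' := (le_inf ((core_le_syl hT).trans hTU) ((core_le_syl hT').trans hTU')).trans
    (hL X' hX' U U' hU hU' hUU')
  have hn1 : X ≤ normalizer ((core X' ⊓ X : Subgroup G) : Set G) := by
    intro x hx
    rw [mem_normalizer_iff]
    intro y
    rw [mem_inf, mem_inf, mem_normalizer_iff.1 (core_normalized X' (hXX' hx)) y,
      mem_normalizer_iff.1 (le_normalizer hx) y]
  have h2 : core X' ⊓ X ≤ core X := le_core ((isPGroup_core X').to_le inf_le_left) inf_le_right hn1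
  have h3 : core X' = core X := eq_of_normalizer_inf_le (isPGroup_core X') h1
    (fun g hg => h2 ⟨hg.1, hnorm hg.2⟩)
  exact ⟨le_antisymm (fun g hg => hnorm (h3 ▸ core_normalized X' hg)) hXX', h3⟩

/-- The Thompson subgroup argument: without an offender `X` is the normaliser of `J(T)`. -/
theorem eq_normalizer_thompsonJ (hL : LocalTI G) {X T : Subgroup G} (hX : core X ≠ ⊥) (hb : Branching X)
    (hnorm : normalizer (core X : Set G) ≤ X) (hT : IsSyl T X) (hJ : thompsonJ T ≤ core X) :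
    X = normalizer (thompsonJ T : Set G) ∧ IsSyl T ⊤ := by
  have hRT := core_le_syl hT
  have hTne : T ≠ ⊥ := fun h => hX (le_bot_iff.1 (h ▸ hRT))
  have hXle : X ≤ normalizer (thompsonJ T : Set G) := by
    intro x hx
    rw [mem_normalizer_iff_cj, ← thompsonJ_eq_of_le hRT hJ, cj_thompsonJ,
      mem_normalizer_iff_cj.1 (core_normalized X hx)]
  have hcore : core (normalizer (thompsonJ T : Set G)) ≠ ⊥ := fun h =>
    thompsonJ_ne_bot hT.2.1 hTne (le_bot_iff.1 (h ▸ le_core (hT.2.1.to_le (thompsonJ_le T))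
      le_normalizer le_rfl))
  obtain ⟨hXeq, -⟩ := core_eq_of_le hL hb hXle hnorm hcore
  refine ⟨hXeq.symm, le_top, hT.2.1, fun P hTP _ hP => ?_⟩
  refine eq_of_normalizer_inf_le hP hTP fun g hg => ?_
  have hgX : g ∈ X := hXeq ▸ normalizer_le_normalizer_thompsonJ T hg.2
  exact (hT.2.2 (P ⊓ X) (le_inf hTP hT.1) inf_le_right (hP.to_le inf_le_left)).le ⟨hg.1, hgX⟩

end CfsgLib.CIT
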