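import Cfsg.Agent.Lib.CIT.FourBasic
import Cfsg.Agent.Lib.Sporadic.ThreePointPSL

/-!
# Simple CIT groups with two parabolics over four-element fields are `PSL(3, 4)`

Points are the conjugates of `W`, lines those of `A`; every involution lies in exactly one point and one line.
-/

set_option autoImplicit false
set_option linter.all false

namespace CfsgLib.CIT

open Subgroup
open CfsgLib.Signalizer (involution_sq involution_inv orderOf_eq_two_of orderOf_conj)

variable {G : Type*} [Group G] [Finite G]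

/-- The hypotheses. -/
structure Four (G : Type*) [Group G] (T W A : Subgroup G) : Prop where
  cit : CIT G
  loc : LocalTI G
  pair : Pair T W A 4
  syl : IsSyl T ⊤

theorem Four.symm {T W A : Subgroup G} (h : Four G T W A) : Four G T A W :=
  ⟨h.cit, h.loc, h.pair.symm, h.syl⟩

/-- `P` is a conjugate of `W`. -/
def IsPt (W P : Subgroup G) : Prop := ∃ g : G, cj g W = P

/-- Incidence. -/
def Inc (P l : Subgroup G) : Prop := ∃ t : G, t ≠ 1 ∧ t ∈ P ∧ t ∈ l

theorem Inc.symm {P l : Subgroup G} : Inc P l → Inc l P := fun ⟨t, h1, h2, h3⟩ => ⟨t, h1, h3, h2⟩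

theorem Inc.cj {P l : Subgroup G} (h : Inc P l) (g : G) : Inc (cj g P) (cj g l) := by
  obtain ⟨t, h1, h2, h3⟩ := h
  exact ⟨g * t * g⁻¹, fun e => h1 (conj_eq_one_iff.1 e), conj_mem_cj.2 h2, conj_mem_cj.2 h3⟩

theorem IsPt.cj {W P : Subgroup G} (h : IsPt W P) (g : G) : IsPt W (cj g P) := by
  obtain ⟨x, rfl⟩ := h
  exact ⟨g * x, cj_mul g x W⟩

variable {T W A : Subgroup G}

theorem Four.not_conj (h : Four G T W A) (x : G) : cj x W ≠ A := by
  intro e
  have hT1 : cj x T ≤ normalizer (A : Set G) := by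
    rw [← e, normalizer_cj]
    exact cj_mono h.pair.T_le
  have hT2 : IsSyl (cj x T) (normalizer (A : Set G)) := by
    refine ⟨hT1, isPGroup_cj h.syl.2.1, fun P h1 _ h3 => ?_⟩
    exact (isSyl_conj_top h.syl x).2.2 P h1 le_top h3
  obtain ⟨y, hy, hyT⟩ := h.pair.right.syl.exists_conj hT2
  set d := y⁻¹ * x with hd
  have hdT : cj d T = T := by rw [hd, cj_mul, ← hyT, cj_inv_cj]
  have hdW : cj d W = A := by
    rw [hd, cj_mul, e, mem_normalizer_iff_cj.1 (inv_mem hy)]
  have hdA : cj d A = W := by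
    rcases h.pair.symm.cj_left hdT with e1 | e1
    · exfalso
      have h1 : cj d⁻¹ A = W := by rw [← hdW, cj_inv_cj]
      have h2 : cj d⁻¹ A = A := by conv_lhs => rw [← e1, cj_inv_cj]
      exact h.pair.ne_pair (h1.symm.trans h2)
    · exact e1
  have hd2 : cj (d * d) W = W := by rw [cj_mul, hdW, hdA]
  obtain ⟨k, m, hm, hdm⟩ := Nat.exists_eq_two_pow_mul_odd (orderOf_pos d).ne'
  obtain ⟨r, hr⟩ := hm
  have hdn : d ∈ normalizer (T : Set G) := mem_normalizer_iff_cj.2 hdT
  have hp : IsPGroup 2 (zpowers (d ^ m)) := by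
    obtain ⟨j, -, hj⟩ := (Nat.dvd_prime_pow Nat.prime_two).1 (orderOf_dvd_of_pow_eq_one
      (show (d ^ m) ^ 2 ^ k = 1 by rw [← pow_mul, mul_comm, ← hdm, pow_orderOf_eq_one]))
    exact IsPGroup.of_card (n := j) (by rw [Nat.card_zpowers, hj])
  haveI : Fact (Nat.Prime 2) := ⟨Nat.prime_two⟩
  have hsup : IsPGroup 2 (T ⊔ zpowers (d ^ m) : Subgroup G) :=
    IsPGroup.to_sup_of_normal_left' h.syl.2.1 hp (zpowers_le.2 (pow_mem hdn m))
  have hmem : d ^ m ∈ T := (h.syl.2.2 _ le_sup_left le_top hsup).le (mem_sup_right (mem_zpowers _))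
  have hmW := mem_normalizer_iff_cj.1 (h.pair.T_le hmem)
  have h2r : cj ((d * d) ^ r) W = W :=
    mem_normalizer_iff_cj.1 (pow_mem (mem_normalizer_iff_cj.2 hd2) r)
  rw [hr, pow_succ', pow_mul, cj_mul, pow_two, h2r, hdW] at hmW
  exact h.pair.ne_pair hmW.symm

theorem Four.pt_elem (h : Four G T W A) {P : Subgroup G} (hP : IsPt W P) :
    Cfsg.IsElementaryAbelian 2 P ∧ Nat.card P = 16 := by
  obtain ⟨g, rfl⟩ := hP
  exact ⟨isElementaryAbelian_cj h.pair.right.maxA.2.1, by rw [card_cj, h.pair.right.card_A]; norm_num⟩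

theorem Four.orderOf_mem (h : Four G T W A) {P : Subgroup G} (hP : IsPt W P) {t : G} (ht : t ∈ P) (ht1 : t ≠ 1) :
    orderOf t = 2 :=
  orderOf_eq_two_of ht1 (sq_of_elementary (h.pt_elem hP).1 ht)

theorem Four.centralizer_inter (h : Four G T W A) {z : G} (hzA : z ∈ A) (hzW : z ∈ W) (hz1 : z ≠ 1) :
    centralizer ({z} : Set G) = T :=
  h.syl.2.2 _ (fun t ht => mem_centralizer_singleton_iff.2 (h.pair.inter_central hzA hzW ht)) le_top
    (h.cit z (orderOf_eq_two_of hz1 (sq_of_elementary h.pair.left.maxA.2.1 hzA)))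

/-- A frame of an involution. -/
theorem Four.frame (h : Four G T W A) {t : G} (ht : orderOf t = 2) :
    ∃ x : G, x⁻¹ * t * x ∈ A ⊓ W := by
  obtain ⟨S, hS, htS⟩ := exists_isSyl (le_top : zpowers t ≤ ⊤)
    (IsPGroup.of_card (n := 1) (by rw [Nat.card_zpowers, ht, pow_one]))
  obtain ⟨g, -, rfl⟩ := h.syl.exists_conj hS
  have h1 := mem_cj.1 (htS (mem_zpowers t))
  have h2 : g⁻¹ * t * g * (g⁻¹ * t * g) = 1 := by
    rw [show g⁻¹ * t * g * (g⁻¹ * t * g) = g⁻¹ * (t * t) * g by group, involution_sq ht]; group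
  have hne : g⁻¹ * t * g ≠ 1 := fun e => Signalizer.involution_ne_one ht (by
    calc t = g * (g⁻¹ * t * g) * g⁻¹ := by group
      _ = 1 := by rw [e]; group)
  obtain ⟨z, hz, hz1⟩ := (A ⊓ W).bot_or_exists_ne_one.resolve_left (fun e => by
    have := h.pair.card_inter
    rw [e, card_bot] at this
    omega)
  rcases h.pair.involution_mem h1 h2 with h3 | h3
  · obtain ⟨y, -, hy⟩ := h.pair.left.trans z (by rw [h.pair.zcore_left]; exact hz.2) hz1 _
      (by rw [h.pair.zcore_left]; exact h3) hne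
    exact ⟨g * y, by rw [show (g * y)⁻¹ * t * (g * y) = y⁻¹ * (g⁻¹ * t * g) * y by group, ← hy]
                     rw [show y⁻¹ * (y * z * y⁻¹) * y = z by group]; exact hz⟩
  · obtain ⟨y, -, hy⟩ := h.pair.right.trans z (by rw [h.pair.symm.zcore_left]; exact hz.1) hz1 _
      (by rw [h.pair.symm.zcore_left]; exact h3) hne
    exact ⟨g * y, by rw [show (g * y)⁻¹ * t * (g * y) = y⁻¹ * (g⁻¹ * t * g) * y by group, ← hy]
                     rw [show y⁻¹ * (y * z * y⁻¹) * y = z by group]; exact hz⟩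

theorem Four.pt_eq (h : Four G T W A) {t x : G} (ht1 : t ≠ 1) (hx : x⁻¹ * t * x ∈ A ⊓ W) {P : Subgroup G}
    (hP : IsPt W P) (htP : t ∈ P) : P = cj x W := by
  have hel := h.pt_elem hP
  have hne : x⁻¹ * t * x ≠ 1 := fun e => ht1 (by
    calc t = x * (x⁻¹ * t * x) * x⁻¹ := by group
      _ = 1 := by rw [e]; group)
  have hle : cj x⁻¹ P ≤ T := by
    rw [← h.centralizer_inter hx.1 hx.2 hne]
    intro c hc
    refine mem_centralizer_singleton_iff.2 (comm_of_elementary (isElementaryAbelian_cj hel.1) hc ?_)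
    have := (conj_mem_cj (g := x⁻¹)).2 htP
    rwa [inv_inv] at this
  rcases h.pair.elementary_le hle (isElementaryAbelian_cj hel.1) with e | e
  · have e' : cj x⁻¹ P = W := eq_of_le_of_card_ge e (by rw [card_cj, hel.2, h.pair.right.card_A]; norm_num)
    rw [← e', cj_cj_inv]
  · exfalso
    have e' : cj x⁻¹ P = A := eq_of_le_of_card_ge e (by rw [card_cj, hel.2, h.pair.left.card_A]; norm_num)
    obtain ⟨g, rfl⟩ := hP
    exact h.not_conj (x⁻¹ * g) (by rw [cj_mul, e'])

theorem Four.pt_unique (h : Four G T W A) {P Q : Subgroup G} (hP : IsPt W P) (hQ : IsPt W Q) {t : G} (ht1 : t ≠ 1)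
    (htP : t ∈ P) (htQ : t ∈ Q) : P = Q := by
  obtain ⟨x, hx⟩ := h.frame (h.orderOf_mem hP htP ht1)
  rw [h.pt_eq ht1 hx hP htP, h.pt_eq ht1 hx hQ htQ]

theorem Four.inc_frame (h : Four G T W A) {P l : Subgroup G} (hP : IsPt W P) (hl : IsPt A l) (hi : Inc P l) :
    ∃ x : G, P = cj x W ∧ l = cj x A := by
  obtain ⟨t, ht1, htP, htl⟩ := hi
  obtain ⟨x, hx⟩ := h.frame (h.orderOf_mem hP htP ht1)
  exact ⟨x, h.pt_eq ht1 hx hP htP, h.symm.pt_eq ht1 (inf_comm (a := A) (b := W) ▸ hx) hl htl⟩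

theorem Four.le_normalizer_of_inc (h : Four G T W A) {P l : Subgroup G} (hP : IsPt W P) (hl : IsPt A l)
    (hi : Inc P l) : l ≤ normalizer (P : Set G) := by
  obtain ⟨x, rfl, rfl⟩ := h.inc_frame hP hl hi
  rw [normalizer_cj]
  exact cj_mono (h.pair.le_T.2.trans h.pair.T_le)

theorem Four.card_inc (h : Four G T W A) {P l : Subgroup G} (hP : IsPt W P) (hl : IsPt A l) (hi : Inc P l) :
    Nat.card (P ⊓ l : Subgroup G) = 4 := by
  obtain ⟨x, rfl, rfl⟩ := h.inc_frame hP hl hi
  rw [cj, cj, ← Subgroup.map_inf _ _ _ (MulAut.conj x).injective,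
    show (W ⊓ A).map (MulAut.conj x).toMonoidHom = cj x (W ⊓ A) from rfl, card_cj, inf_comm,
    h.pair.card_inter]

/-- An involution fixes a point exactly when its line passes through it. -/
theorem Four.fix_line (h : Four G T W A) {P : Subgroup G} (hP : IsPt W P) {t : G} (ht : orderOf t = 2)
    (htP : t ∈ normalizer (P : Set G)) : ∃ l : Subgroup G, IsPt A l ∧ t ∈ l ∧ Inc P l := by
  obtain ⟨x, rfl⟩ := hP
  rw [normalizer_cj, mem_cj] at htP
  have ho : orderOf (x⁻¹ * t * x) = 2 := by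
    have := orderOf_conj x⁻¹ t
    rw [inv_inv] at this
    rw [this, ht]
  obtain ⟨S, hS, htS⟩ := exists_isSyl (zpowers_le.2 htP)
    (IsPGroup.of_card (n := 1) (by rw [Nat.card_zpowers, ho, pow_one]))
  obtain ⟨g, hg, rfl⟩ := h.pair.left.syl.exists_conj hS
  have h1 := mem_cj.1 (htS (mem_zpowers _))
  set u := g⁻¹ * (x⁻¹ * t * x) * g with hu
  have hu2 : u * u = 1 := by
    rw [hu, show g⁻¹ * (x⁻¹ * t * x) * g * (g⁻¹ * (x⁻¹ * t * x) * g) = g⁻¹ * (x⁻¹ * (t * t) * x) * g by group,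
      involution_sq ht]
    group
  have htu : t = x * g * u * (x * g)⁻¹ := by rw [hu]; group
  have hu1 : u ≠ 1 := fun e => Signalizer.involution_ne_one ht (by rw [htu, e]; group)
  have hxg : cj (x * g) W = cj x W := by rw [cj_mul, mem_normalizer_iff_cj.1 hg]
  rw [← hxg]
  rcases h.pair.involution_mem h1 hu2 with h3 | h3
  · have htW : t ∈ cj (x * g) W := htu ▸ conj_mem_cj.2 h3
    obtain ⟨y, hy⟩ := h.frame ht
    have htA : t ∈ cj y A := mem_cj.2 hy.1
    exact ⟨cj y A, ⟨y, rfl⟩, htA, t, Signalizer.involution_ne_one ht, htW, htA⟩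
  · refine ⟨cj (x * g) A, ⟨_, rfl⟩, htu ▸ conj_mem_cj.2 h3, ?_⟩
    obtain ⟨z, hz, hz1⟩ := (A ⊓ W).bot_or_exists_ne_one.resolve_left (fun e => by
      have := h.pair.card_inter
      rw [e, card_bot] at this
      omega)
    exact Inc.cj ⟨z, hz1, hz.2, hz.1⟩ _

/-- Two points are on at most one line. -/
theorem Four.unique_line (h : Four G T W A) {P Q l m : Subgroup G} (hP : IsPt W P) (hQ : IsPt W Q) (hl : IsPt A l)
    (hm : IsPt A m) (hPl : Inc P l) (hQl : Inc Q l) (hPm : Inc P m) (hQm : Inc Q m) (hne : P ≠ Q) : l = m := by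
  by_contra hlm
  have key : ∀ {P Q : Subgroup G}, IsPt W P → IsPt W Q → Inc P l → Inc Q l → Inc P m → Inc Q m →
      P ≤ normalizer (Q : Set G) := by
    intro P Q hP hQ hPl hQl hPm hQm
    have hd : (P ⊓ l) ⊓ (P ⊓ m) = ⊥ := by
      rw [eq_bot_iff]
      rintro t ⟨h1, h2⟩
      rw [mem_bot]
      by_contra ht1
      exact hlm (h.symm.pt_unique hl hm ht1 h1.2 h2.2)
    have hc := card_mul_card_le_sup (P ⊓ l) (P ⊓ m)
    rw [hd, card_bot, mul_one, h.card_inc hP hl hPl, h.card_inc hP hm hPm] at hc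
    have he : (P ⊓ l) ⊔ (P ⊓ m) = P :=
      eq_of_le_of_card_ge (sup_le inf_le_left inf_le_left) (by rw [(h.pt_elem hP).2]; omega)
    rw [← he]
    exact sup_le (inf_le_right.trans (h.le_normalizer_of_inc hQ hl hQl))
      (inf_le_right.trans (h.le_normalizer_of_inc hQ hm hQm))
  have h1 := key hP hQ hPl hQl hPm hQm
  have h2 := key hQ hP hQl hPl hQm hPm
  obtain ⟨x, hx⟩ := hP
  refine hne (eq_of_le_of_card_ge ?_ ?_).symm
  · intro q hq
    have hc : x⁻¹ * q * x ∈ centralizer (W : Set G) := by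
      refine mem_centralizer_iff.2 fun w hw => ?_
      set p := x * w * x⁻¹ with hp
      have hpP : p ∈ P := hx ▸ conj_mem_cj.2 hw
      have e : p * q * p⁻¹ * q⁻¹ = 1 := by
        by_contra hne1
        refine hne (h.pt_unique ⟨x, hx⟩ hQ hne1 ?_ ?_)
        · rw [show p * q * p⁻¹ * q⁻¹ = p * (q * p⁻¹ * q⁻¹) by group]
          exact mul_mem hpP ((mem_normalizer_iff.1 (h2 hq) _).1 (inv_mem hpP))
        · exact mul_mem ((mem_normalizer_iff.1 (h1 hpP) _).1 hq) (inv_mem hq)
      have e1 : p * q * p⁻¹ = q := mul_inv_eq_one.1 e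
      calc w * (x⁻¹ * q * x) = x⁻¹ * (p * q * p⁻¹) * p * x := by rw [hp]; group
        _ = x⁻¹ * q * x * w := by rw [e1, hp]; group
    rw [← hx]
    exact mem_cj.2 (h.pair.centralizer_left h.cit hc)
  · rw [(h.pt_elem hQ).2, ← hx, card_cj, h.pair.right.card_A]; norm_num

/-! ### Finite sets -/

/-- The points. -/
noncomputable def pts (W : Subgroup G) : Finset (Subgroup G) := (Set.toFinite {P | IsPt W P}).toFinset

/-- The lines through a point. -/
noncomputable def lns (A P : Subgroup G) : Finset (Subgroup G) :=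
  (Set.toFinite {l | IsPt A l ∧ Inc P l}).toFinset

/-- The involutions of a point. -/
noncomputable def invs (P : Subgroup G) : Finset G := (Set.toFinite {t | t ∈ P ∧ t ≠ 1}).toFinset

@[simp] theorem mem_pts {W P : Subgroup G} : P ∈ pts W ↔ IsPt W P := Set.Finite.mem_toFinset _

@[simp] theorem mem_lns {A P l : Subgroup G} : l ∈ lns A P ↔ IsPt A l ∧ Inc P l := Set.Finite.mem_toFinset _

@[simp] theorem mem_invs {P : Subgroup G} {t : G} : t ∈ invs P ↔ t ∈ P ∧ t ≠ 1 := Set.Finite.mem_toFinset _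

theorem card_invs (P : Subgroup G) : (invs P).card = Nat.card P - 1 := by
  rw [invs, ← Set.ncard_eq_toFinset_card, show {t | t ∈ P ∧ t ≠ 1} = (P : Set G) \ {1} from rfl,
    Set.ncard_sdiff_singleton_of_mem P.one_mem, ← Nat.card_coe_set_eq]
  rfl

theorem Four.card_lns (h : Four G T W A) {P : Subgroup G} (hP : IsPt W P) : (lns A P).card = 5 := by
  classical
  have hU : (lns A P).biUnion (fun l => invs (P ⊓ l)) = invs P := by
    ext t
    simp only [Finset.mem_biUnion, mem_lns, mem_invs]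
    constructor
    · rintro ⟨l, -, ⟨ht, -⟩, ht1⟩
      exact ⟨ht, ht1⟩
    · rintro ⟨ht, ht1⟩
      obtain ⟨x, hx⟩ := h.frame (h.orderOf_mem hP ht ht1)
      exact ⟨cj x A, ⟨⟨x, rfl⟩, t, ht1, ht, mem_cj.2 hx.1⟩, mem_inf.2 ⟨ht, mem_cj.2 hx.1⟩, ht1⟩
  have hd : ((lns A P : Finset (Subgroup G)) : Set (Subgroup G)).PairwiseDisjoint fun l => invs (P ⊓ l) := by
    intro l hl m hm hne
    simp only [Finset.mem_coe, mem_lns] at hl hm
    refine Finset.disjoint_left.2 fun t h1 h2 => ?_
    rw [mem_invs] at h1 h2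
    exact hne (h.symm.pt_unique hl.1 hm.1 h1.2 h1.1.2 h2.1.2)
  have hc := Finset.card_biUnion hd
  rw [hU, card_invs, (h.pt_elem hP).2, Finset.sum_const_nat (m := 3) (fun l hl => by
    rw [mem_lns] at hl
    rw [card_invs, h.card_inc hP hl.1 hl.2])] at hc
  omega

/-- An element of order 3 or 5 does not fix all lines through a point. -/
theorem Four.false_of_fix_lines (h : Four G T W A) {g : G} (hgW : g ∈ normalizer (W : Set G))
    (hg : orderOf g = 3 ∨ orderOf g = 5) (hfix : ∀ l ∈ lns A W, cj g l = l) : False := by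
  classical
  obtain ⟨z, hz, hz1⟩ := (A ⊓ W).bot_or_exists_ne_one.resolve_left (fun e => by
    have := h.pair.card_inter
    rw [e, card_bot] at this
    omega)
  have hWW : IsPt W W := ⟨1, cj_one W⟩
  have hAA : IsPt A A := ⟨1, cj_one A⟩
  have hAl : A ∈ lns A W := mem_lns.2 ⟨hAA, z, hz1, hz.2, hz.1⟩
  obtain ⟨a, ha, haW⟩ : ∃ a ∈ A, a ∉ W := SetLike.not_le_iff_exists.1 fun hle => by
    have := h.pair.card_inter
    rw [inf_eq_left.2 hle, h.pair.left.card_A] at this
    omega
  have hgA := hfix A hAl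
  have haX : a ∈ normalizer (W : Set G) := h.pair.T_le (h.pair.le_T.2 ha)
  set c := g * a * g⁻¹ * a⁻¹ with hc
  have hga : g * a * g⁻¹ ∈ A := hgA ▸ conj_mem_cj.2 ha
  have hcA : c ∈ A := mul_mem hga (inv_mem ha)
  have hcW : c ∈ W := by
    by_contra hcW
    obtain ⟨l, hl, hlA⟩ : ∃ l ∈ lns A W, l ≠ A :=
      Finset.exists_mem_ne (by rw [h.card_lns hWW]; norm_num) A
    have hcl : cj c l = l := by
      have hl' : ∀ m ∈ lns A W, cj g⁻¹ m = m := fun m hm => by
        conv_lhs => rw [← hfix m hm, cj_inv_cj]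
      obtain ⟨hl1, hl2⟩ := mem_lns.1 hl
      have hal : cj a⁻¹ l ∈ lns A W := mem_lns.2 ⟨hl1.cj _, by
        have := hl2.cj a⁻¹
        rwa [mem_normalizer_iff_cj.1 (inv_mem haX)] at this⟩
      rw [hc, cj_mul, cj_mul, cj_mul, hl' _ hal, cj_cj_inv, hfix l hl]
    obtain ⟨hl1, hl2⟩ := mem_lns.1 hl
    have hc1 : c ≠ 1 := fun e => hcW (e ▸ one_mem W)
    obtain ⟨P, hP, hcP, hPl⟩ := h.symm.fix_line hl1 (h.symm.orderOf_mem hAA hcA hc1)
      (mem_normalizer_iff_cj.2 hcl)
    exact hlA (h.unique_line hWW hP hl1 hAA hl2 hPl.symm ⟨z, hz1, hz.2, hz.1⟩ ⟨c, hc1, hcP, hcA⟩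
      (fun e => hcW (e ▸ hcP)))
  -- the coset `a Z`
  set K := {b : G // b ∈ A ∧ a⁻¹ * b ∈ A ⊓ W} with hK
  have hmap : ∀ b : K, g * b.1 * g⁻¹ ∈ A ∧ a⁻¹ * (g * b.1 * g⁻¹) ∈ A ⊓ W := by
    rintro ⟨b, hb, hbz⟩
    have h1 : g * b * g⁻¹ ∈ A := hgA ▸ conj_mem_cj.2 hb
    refine ⟨h1, mem_inf.2 ⟨mul_mem (inv_mem ha) h1, ?_⟩⟩
    rw [show a⁻¹ * (g * b * g⁻¹) = (a⁻¹ * c * a) * (g * (a⁻¹ * b) * g⁻¹) by rw [hc]; group]
    refine mul_mem ?_ ((mem_normalizer_iff.1 hgW _).1 hbz.2)
    simpa using (mem_normalizer_iff''.1 haX c).1 hcW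
  have hinj : Function.Injective (fun b : K => (⟨g * b.1 * g⁻¹, hmap b⟩ : K)) := fun b b' e =>
    Subtype.ext (by simpa using congrArg Subtype.val e)
  haveI : Fintype K := Fintype.ofFinite _
  set σ : Equiv.Perm K := Equiv.ofBijective _ (Finite.injective_iff_bijective.1 hinj) with hσ
  have hpow : ∀ (n : ℕ) (b : K), ((σ ^ n) b).1 = g ^ n * b.1 * (g ^ n)⁻¹ := by
    intro n
    induction n with
    | zero => intro b; simp
    | succ n ih =>
      intro b
      rw [pow_succ', Equiv.Perm.mul_apply]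
      show g * ((σ ^ n) b).1 * g⁻¹ = _
      rw [ih, pow_succ']
      group
  have hcard : Fintype.card K = 4 := by
    rw [← Nat.card_eq_fintype_card, ← h.pair.card_inter]
    exact Nat.card_congr
      { toFun := fun b => ⟨a⁻¹ * b.1, b.2.2⟩
        invFun := fun w => ⟨a * w.1, mul_mem ha w.2.1, by rw [inv_mul_cancel_left]; exact w.2⟩
        left_inv := fun b => Subtype.ext (mul_inv_cancel_left a b.1)
        right_inv := fun w => Subtype.ext (inv_mul_cancel_left a w.1) }
  haveI : Fact (orderOf g).Prime := ⟨by rcases hg with e | e <;> rw [e] <;> norm_num⟩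
  obtain ⟨b, hb⟩ := Equiv.Perm.exists_fixed_point_of_prime (p := orderOf g) (n := 1) (α := K) (σ := σ)
    (by rw [hcard]; rcases hg with e | e <;> rw [e] <;> norm_num)
    (Equiv.ext fun b => Subtype.ext (by rw [pow_one, hpow, pow_orderOf_eq_one]; simp))
  have e1 : g * b.1 * g⁻¹ = b.1 := congrArg Subtype.val hb
  have hb1 : b.1 ≠ 1 := by
    intro e
    have h1 := b.2.2.2
    rw [e, mul_one] at h1
    exact haW (inv_mem_iff.1 h1)
  exact hb1 (h.cit.eq_one_of_mem (by rcases hg with e | e <;> rw [e] <;> decide)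
    (fun e => by rw [e, orderOf_one] at hg; omega) h.pair.left.syl.2.1 (h.pair.le_T.2 b.2.1)
    (mul_inv_eq_iff_eq_mul.1 e1))

theorem perm_five_fifteen : ∀ σ : Equiv.Perm (Fin 5), σ ^ 15 = 1 → σ ^ 3 = 1 ∨ σ ^ 5 = 1 := by
  decide +kernel

/-- The stabiliser of a point has no subgroup of order 15. -/
theorem Four.no_fifteen (h : Four G T W A) {D : Subgroup G} (hD : D ≤ normalizer (W : Set G))
    (hc : Nat.card D = 15) : False := by
  classical
  haveI : Fact (Nat.Prime 3) := ⟨Nat.prime_three⟩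
  haveI : Fact (Nat.Prime 5) := ⟨Nat.prime_five⟩
  obtain ⟨x, hx⟩ := exists_prime_orderOf_dvd_card' 5 (show 5 ∣ Nat.card D by rw [hc]; norm_num)
  obtain ⟨y, hy⟩ := exists_prime_orderOf_dvd_card' 3 (show 3 ∣ Nat.card D by rw [hc]; norm_num)
  have hn : (zpowers x).Normal := Subgroup.normal_of_index_eq_minFac_card (by
    have h1 := (zpowers x).card_mul_index
    rw [Nat.card_zpowers, hx, hc] at h1
    rw [hc, show (15 : ℕ).minFac = 3 by norm_num]
    omega)
  set K := {u : D // u ∈ zpowers x ∧ u ≠ 1} with hK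
  have hinj : Function.Injective (fun u : K => (⟨y * u.1 * y⁻¹, hn.conj_mem _ u.2.1 y,
      fun e => u.2.2 (conj_eq_one_iff.1 e)⟩ : K)) := fun b b' e =>
    Subtype.ext (by simpa using congrArg Subtype.val e)
  haveI : Fintype K := Fintype.ofFinite _
  set σ : Equiv.Perm K := Equiv.ofBijective _ (Finite.injective_iff_bijective.1 hinj) with hσ
  have hpow : ∀ (n : ℕ) (b : K), ((σ ^ n) b).1 = y ^ n * b.1 * (y ^ n)⁻¹ := by
    intro n
    induction n with
    | zero => intro b; simp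
    | succ n ih =>
      intro b
      rw [pow_succ', Equiv.Perm.mul_apply]
      show y * ((σ ^ n) b).1 * y⁻¹ = _
      rw [ih, pow_succ']
      group
  have hcard : Fintype.card K = 4 := by
    rw [← Nat.card_eq_fintype_card]
    show Nat.card ↥{u : D | u ∈ zpowers x ∧ u ≠ 1} = 4
    rw [Nat.card_coe_set_eq, show {u : D | u ∈ zpowers x ∧ u ≠ 1} = (zpowers x : Set D) \ {1} from rfl,
      Set.ncard_sdiff_singleton_of_mem (one_mem _), ← Nat.card_coe_set_eq]
    change Nat.card (zpowers x) - 1 = 4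
    rw [Nat.card_zpowers, hx]
  obtain ⟨⟨u, hu, hu1⟩, hb⟩ := Equiv.Perm.exists_fixed_point_of_prime (p := 3) (n := 1) (α := K) (σ := σ)
    (by rw [hcard]; norm_num)
    (Equiv.ext fun b => Subtype.ext (by
      rw [hpow, pow_one, ← hy, pow_orderOf_eq_one]; simp))
  have hcom : Commute u y := by
    have e1 : y * u * y⁻¹ = u := congrArg Subtype.val hb
    exact (mul_inv_eq_iff_eq_mul.1 e1).symm
  have huo : orderOf u = 5 := orderOf_eq_prime (orderOf_dvd_iff_pow_eq_one.1
    (hx ▸ orderOf_dvd_of_mem_zpowers hu)) hu1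
  set g : G := ((u * y : D) : G) with hgdef
  have hgW : g ∈ normalizer (W : Set G) := hD (u * y).2
  have hgo : orderOf g = 15 := by
    rw [hgdef, orderOf_coe, hcom.orderOf_mul_eq_mul_orderOf_of_coprime (by rw [huo, hy]; norm_num), huo, hy]
  -- the action on the five lines
  have hlmap : ∀ {n : G}, n ∈ normalizer (W : Set G) → ∀ l : ↥(lns A W), cj n l.1 ∈ lns A W := by
    intro n hn l
    obtain ⟨h1, h2⟩ := mem_lns.1 l.2
    refine mem_lns.2 ⟨h1.cj n, ?_⟩
    have := h2.cj n
    rwa [mem_normalizer_iff_cj.1 hn] at this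
  set τ : Equiv.Perm ↥(lns A W) :=
    { toFun := fun l => ⟨cj g l.1, hlmap hgW l⟩
      invFun := fun l => ⟨cj g⁻¹ l.1, hlmap (inv_mem hgW) l⟩
      left_inv := fun l => Subtype.ext (cj_inv_cj g l.1)
      right_inv := fun l => Subtype.ext (cj_cj_inv g l.1) } with hτ
  have hτpow : ∀ (n : ℕ) (l : ↥(lns A W)), ((τ ^ n) l).1 = cj (g ^ n) l.1 := by
    intro n
    induction n with
    | zero => intro l; simp [cj_one]
    | succ n ih =>
      intro l
      rw [pow_succ', Equiv.Perm.mul_apply]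
      show cj g ((τ ^ n) l).1 = _
      rw [ih, pow_succ', cj_mul]
  let e : ↥(lns A W) ≃ Fin 5 := (lns A W).equivFinOfCardEq (h.card_lns ⟨1, cj_one W⟩)
  have hτ15 : (e.permCongrHom τ) ^ 15 = 1 := by
    rw [← map_pow, show τ ^ 15 = 1 from Equiv.ext fun l => Subtype.ext (by
      rw [hτpow, ← hgo, pow_orderOf_eq_one, cj_one]; rfl), map_one]
  have key : ∀ n, τ ^ n = 1 → ∀ l ∈ lns A W, cj (g ^ n) l = l := fun n hn l hl => by
    have := hτpow n ⟨l, hl⟩
    rw [hn] at this
    exact this.symm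
  rcases perm_five_fifteen _ hτ15 with h3 | h5
  · rw [← map_pow] at h3
    exact h.false_of_fix_lines (pow_mem hgW 3)
      (Or.inr (by rw [orderOf_pow_of_dvd (by norm_num) (by rw [hgo]; norm_num), hgo]))
      (key 3 (e.permCongrHom.injective (h3.trans (map_one _).symm)))
  · rw [← map_pow] at h5
    exact h.false_of_fix_lines (pow_mem hgW 5)
      (Or.inl (by rw [orderOf_pow_of_dvd (by norm_num) (by rw [hgo]; norm_num), hgo]))
      (key 5 (e.permCongrHom.injective (h5.trans (map_one _).symm)))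

open Cfsg MulAction CfsgLib.Sporadic in
open scoped Pointwise LinearAlgebra.Projectivization MatrixGroups in
/-- A simple group of order 20160 acting on a plane of order four is `PSL(3, 4)`. -/
theorem pslThreeFour_of_action [IsSimpleGroup G] (hG : Nat.card G = 20160) {α : Type*} [Fintype α] [DecidableEq α]
    (hα : Fintype.card α = 21) {L : Set (Finset α)} (hL : IsSteinerSystem 2 5 L) (ψ : G →* Equiv.Perm α)
    (hψ : Function.Injective ψ) (hψA : ψ.range ≤ setSystemAut L) : IsPSLThreeFour G := by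
  classical
  haveI : Fact (Nat.Prime 2) := ⟨Nat.prime_two⟩
  let F : Type := GaloisField 2 2
  letI : Fintype F := Fintype.ofFinite F
  have hF : Fintype.card F = 4 := by
    rw [← Nat.card_eq_fintype_card, GaloisField.card 2 2 two_ne_zero]; norm_num
  refine ⟨F, inferInstance, inferInstance, hF, ?_⟩
  let _ : Fintype (ℙ F (Fin 3 → F)) := Fintype.ofFinite _
  have hπc : Fintype.card (ℙ F (Fin 3 → F)) = 21 := by
    rw [← Nat.card_eq_fintype_card, Projectivization.card_of_finrank F (Fin 3 → F) (Module.finrank_fin_fun F),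
      Nat.card_eq_fintype_card, hF]
    rfl
  obtain ⟨e, he⟩ := Cfsg.Agent.S5626.result hπc hα (ThreePointPSL.projLines_steiner hF) hL
  let ρ : Matrix.ProjectiveSpecialLinearGroup (Fin 3) F →* Equiv.Perm α :=
    e.permCongrHom.toMonoidHom.comp (Projectivization.PSLAction.toPermHom (ι := Fin 3) (K := F))
  have hρ : Function.Injective ρ := e.permCongrHom.injective.comp
    Matrix.ProjectiveSpecialLinearGroup.toPermHom_injective
  have hρA : ρ.range ≤ setSystemAut L := by
    rintro _ ⟨g, rfl⟩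
    have hg := ThreePointPSL.range_le (F := F) ⟨g, rfl⟩
    set σ := Projectivization.PSLAction.toPermHom (ι := Fin 3) (K := F) g with hσ
    show e.permCongr σ • L = L
    refine Set.eq_of_subset_of_ncard_le ?_ ?_ (Set.toFinite _)
    · rintro _ ⟨b, hb, rfl⟩
      rw [← he] at hb ⊢
      obtain ⟨a, ha, rfl⟩ := hb
      refine ⟨σ • a, ThreePointPSL.smul_line hg ha, ?_⟩
      ext x
      simp [Finset.smul_finset_def, Finset.image_image, Function.comp_def, Equiv.permCongr_apply]
    · rw [← Set.image_smul, Set.ncard_image_of_injective _ (MulAction.injective _)]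
  have hcardP : Nat.card (Matrix.ProjectiveSpecialLinearGroup (Fin 3) F) = 20160 := by
    have h1 := CfsgLib.Classical.card_SL (F := F) 3 (by norm_num)
    have h3 := CfsgLib.Classical.card_SL_eq_gcd_mul_card_PSL (F := F) (ι := Fin 3)
    rw [hF, Fintype.card_fin, show Nat.gcd 3 (4 - 1) = 3 from rfl] at h3
    rw [hF, Fin.prod_univ_three, h3] at h1
    norm_num [-Nat.card_eq_fintype_card] at h1
    omega
  let ψ' := ψ.codRestrict (setSystemAut L) fun g => hψA ⟨g, rfl⟩
  let ρ' := ρ.codRestrict (setSystemAut L) fun g => hρA ⟨g, rfl⟩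
  have hψ' : Function.Injective ψ' := fun a b h => hψ (congrArg Subtype.val h)
  have hρ' : Function.Injective ρ' := fun a b h => hρ (congrArg Subtype.val h)
  haveI : IsSimpleGroup ↥ψ'.range := MulEquiv.isSimpleGroup (MonoidHom.ofInjective hψ').symm
  have hrr : ψ'.range = ρ'.range := ThreePointPSL.eq_of_simple (ThreePointPSL.card_aut_le hα hL)
    ((Nat.card_congr (MonoidHom.ofInjective hρ').toEquiv).symm.trans hcardP)
    ((Nat.card_congr (MonoidHom.ofInjective hψ').toEquiv).symm.trans hG)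
  exact ⟨((MonoidHom.ofInjective hψ').trans (MulEquiv.subgroupCongr hrr)).trans
    (MonoidHom.ofInjective hρ').symm⟩

theorem Four.card_eq (h : Four G T W A) : Nat.card G = (pts W).card * 960 := by
  classical
  have hN : Nat.card (normalizer (W : Set G)) = 960 := by
    rw [h.pair.left.card_X, h.pair.core_left, h.pair.right.card_A]
    norm_num
  have hidx : (normalizer (W : Set G)).index = (pts W).card := by
    rw [pts, ← Set.ncard_eq_toFinset_card, ← Nat.card_coe_set_eq, index]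
    refine Nat.card_congr (Equiv.ofBijective (Quotient.lift (fun g => (⟨cj g W, g, rfl⟩ : {P | IsPt W P})) ?_) ⟨?_, ?_⟩)
    · intro a b hab
      have hab' : a⁻¹ * b ∈ normalizer (W : Set G) := QuotientGroup.leftRel_apply.1 hab
      refine Subtype.ext ?_
      show cj a W = cj b W
      rw [← mul_inv_cancel_left a b, cj_mul a, mem_normalizer_iff_cj.1 hab']
    · intro x y hxy
      induction x using QuotientGroup.induction_on with
      | H a =>
        induction y using QuotientGroup.induction_on with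
        | H b =>
          have e : cj a W = cj b W := congrArg Subtype.val hxy
          exact QuotientGroup.eq.2 (mem_normalizer_iff_cj.2 (by rw [cj_mul, ← e, cj_inv_cj]))
    · rintro ⟨_, g, rfl⟩
      exact ⟨(g : G ⧸ normalizer (W : Set G)), rfl⟩
  have := (normalizer (W : Set G)).card_mul_index
  rw [hN, hidx] at this
  omega

/-- The points form a plane of order four. -/
theorem Four.plane (h : Four G T W A) : (pts W).card = 21 ∧
    ∀ P Q : Subgroup G, IsPt W P → IsPt W Q → P ≠ Q → ∃ l, IsPt A l ∧ Inc P l ∧ Inc Q l := by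
  classical
  have hWW : IsPt W W := ⟨1, cj_one W⟩
  set n := (pts W).card with hn
  set S := (pts W).erase W with hS
  have hSc : S.card = n - 1 := Finset.card_erase_of_mem (mem_pts.2 hWW)
  -- the points collinear with `W`
  set C := (lns A W).biUnion (fun l => (lns W l).erase W) with hC
  have hCmem : ∀ Q, Q ∈ C ↔ IsPt W Q ∧ Q ≠ W ∧ ∃ l, IsPt A l ∧ Inc W l ∧ Inc Q l := by
    intro Q
    simp only [hC, Finset.mem_biUnion, mem_lns, Finset.mem_erase]
    exact ⟨fun ⟨l, ⟨h1, h2⟩, h3, h4, h5⟩ => ⟨h4, h3, l, h1, h2, h5.symm⟩,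
      fun ⟨h1, h2, l, h3, h4, h5⟩ => ⟨l, ⟨h3, h4⟩, h2, h1, h5.symm⟩⟩
  have hCc : C.card = 20 := by
    rw [hC, Finset.card_biUnion, Finset.sum_const_nat (m := 4) (fun l hl => ?_), h.card_lns hWW]
    · rw [mem_lns] at hl
      rw [Finset.card_erase_of_mem (mem_lns.2 ⟨hWW, hl.2.symm⟩), h.symm.card_lns hl.1]
    · intro l hl m hm hne
      simp only [Finset.mem_coe, mem_lns] at hl hm
      refine Finset.disjoint_left.2 fun Q h1 h2 => ?_
      simp only [Finset.mem_erase, mem_lns] at h1 h2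
      exact hne (h.unique_line hWW h1.2.1 hl.1 hm.1 hl.2 h1.2.2.symm hm.2 h2.2.2.symm (Ne.symm h1.1))
  have hCS : C ⊆ S := fun Q hQ => Finset.mem_erase.2 ⟨((hCmem Q).1 hQ).2.1, mem_pts.2 ((hCmem Q).1 hQ).1⟩
  have hn21 : 21 ≤ n := by
    have := Finset.card_le_card hCS
    omega
  -- involutions
  set I := (Set.toFinite {t : G | orderOf t = 2}).toFinset with hI
  have hmemI : ∀ t, t ∈ I ↔ orderOf t = 2 := fun t => Set.Finite.mem_toFinset _
  have hIc : I.card = n * 15 := by
    rw [show I = (pts W).biUnion invs from ?_, Finset.card_biUnion, Finset.sum_const_nat (m := 15)]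
    · intro P hP
      rw [card_invs, (h.pt_elem (mem_pts.1 hP)).2]
    · intro P hP Q hQ hne
      refine Finset.disjoint_left.2 fun t h1 h2 => ?_
      rw [mem_invs] at h1 h2
      exact hne (h.pt_unique (mem_pts.1 hP) (mem_pts.1 hQ) h1.2 h1.1 h2.1)
    · ext t
      simp only [hmemI, Finset.mem_biUnion, mem_pts, mem_invs]
      refine ⟨fun ht => ?_, fun ⟨P, hP, htP, ht1⟩ => h.orderOf_mem hP htP ht1⟩
      obtain ⟨x, hx⟩ := h.frame ht
      exact ⟨cj x W, ⟨x, rfl⟩, mem_cj.2 hx.2, Signalizer.involution_ne_one ht⟩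
  have hfixc : (I.filter fun t => cj t W = W).card = 75 := by
    rw [show (I.filter fun t => cj t W = W) = (lns A W).biUnion invs from ?_, Finset.card_biUnion,
      Finset.sum_const_nat (m := 15), h.card_lns hWW]
    · intro l hl
      rw [card_invs, (h.symm.pt_elem (mem_lns.1 hl).1).2]
    · intro l hl m hm hne
      refine Finset.disjoint_left.2 fun t h1 h2 => ?_
      rw [mem_invs] at h1 h2
      exact hne (h.symm.pt_unique (mem_lns.1 hl).1 (mem_lns.1 hm).1 h1.2 h1.1 h2.1)
    · ext t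
      simp only [Finset.mem_filter, hmemI, Finset.mem_biUnion, mem_lns, mem_invs]
      constructor
      · rintro ⟨ht, hf⟩
        obtain ⟨l, hl, htl, hi⟩ := h.fix_line hWW ht (mem_normalizer_iff_cj.2 hf)
        exact ⟨l, ⟨hl, hi⟩, htl, Signalizer.involution_ne_one ht⟩
      · rintro ⟨l, ⟨hl, hi⟩, htl, ht1⟩
        exact ⟨h.symm.orderOf_mem hl htl ht1, mem_normalizer_iff_cj.1 (h.le_normalizer_of_inc hWW hl hi htl)⟩
  set M := I.filter (fun t => ¬ cj t W = W) with hM
  have hMc : M.card = n * 15 - 75 := by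
    have h1 := Finset.card_filter_add_card_filter_not (s := I) (fun t => cj t W = W)
    rw [← hM] at h1
    omega
  have hswap : ∀ {t : G} {Q : Subgroup G}, orderOf t = 2 → cj t W = Q → cj t Q = W := by
    intro t Q ht e
    rw [← e, ← cj_mul, involution_sq ht, cj_one]
  -- the fibres
  have hbound : ∀ Q ∈ S, (M.filter fun t => cj t W = Q).card ≤ if Q ∈ C then 12 else 14 := by
    intro Q hQ
    obtain ⟨hQW, hQ'⟩ := Finset.mem_erase.1 hQ
    have hQpt := mem_pts.1 hQ'
    have hmem : ∀ t ∈ M.filter (fun t => cj t W = Q), orderOf t = 2 ∧ cj t W = Q ∧ cj t Q = W := by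
      intro t ht
      simp only [hM, Finset.mem_filter, hmemI] at ht
      exact ⟨ht.1.1, ht.2, hswap ht.1.1 ht.2⟩
    by_cases hQC : Q ∈ C
    · rw [if_pos hQC]
      obtain ⟨-, -, l, hl, hWl, hQl⟩ := (hCmem Q).1 hQC
      set R := ((lns W l).erase W).erase Q with hR
      have hRc : R.card = 3 := by
        rw [hR, Finset.card_erase_of_mem (Finset.mem_erase.2 ⟨hQW, mem_lns.2 ⟨hQpt, hQl.symm⟩⟩),
          Finset.card_erase_of_mem (mem_lns.2 ⟨hWW, hWl.symm⟩), h.symm.card_lns hl]
      have hsub : M.filter (fun t => cj t W = Q) ⊆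
          R.biUnion (fun P => (M.filter (fun t => cj t W = Q)).filter (fun t => t ∈ P)) := by
        intro t ht
        obtain ⟨ho, e1, e2⟩ := hmem t ht
        have hl' : cj t l = l := by
          have i1 := hWl.cj t
          have i2 := hQl.cj t
          rw [e1] at i1
          rw [e2] at i2
          exact (h.unique_line hWW hQpt hl (hl.cj t) hWl hQl i2 i1 (Ne.symm hQW)).symm
        obtain ⟨P, hP, htP, hPl⟩ := h.symm.fix_line hl ho (mem_normalizer_iff_cj.2 hl')
        refine Finset.mem_biUnion.2 ⟨P, Finset.mem_erase.2 ⟨?_, Finset.mem_erase.2 ⟨?_, mem_lns.2 ⟨hP, hPl⟩⟩⟩,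
          Finset.mem_filter.2 ⟨ht, htP⟩⟩
        · rintro rfl
          exact hQW ((mem_normalizer_iff_cj.1 (le_normalizer htP)).symm.trans e2)
        · rintro rfl
          exact hQW (e1.symm.trans (mem_normalizer_iff_cj.1 (le_normalizer htP)))
      refine (Finset.card_le_card hsub).trans (Finset.card_biUnion_le.trans ?_)
      refine (Finset.sum_le_card_nsmul _ _ 4 fun P hP => ?_).trans (by rw [hRc]; norm_num)
      simp only [hR, Finset.mem_erase, mem_lns] at hP
      obtain ⟨-, hPW, hP, hPl⟩ := hP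
      set Ft := (M.filter (fun t => cj t W = Q)).filter (fun t => t ∈ P) with hFt
      rcases Ft.eq_empty_or_nonempty with e | ⟨t0, ht0⟩
      · rw [e]; simp
      obtain ⟨ht0', ht0P⟩ := Finset.mem_filter.1 ht0
      obtain ⟨ho0, e01, e02⟩ := hmem t0 ht0'
      refine (Finset.card_le_card_of_injOn (fun t => t0 * t)
        (t := (Set.toFinite ((P ⊓ l : Subgroup G) : Set G)).toFinset) (fun t ht => ?_)
        (fun a _ b _ e => mul_left_cancel e)).trans ?_
      · obtain ⟨ht', htP⟩ := Finset.mem_filter.1 (Finset.mem_coe.1 ht)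
        obtain ⟨ho, e1, e2⟩ := hmem t ht'
        rw [Finset.mem_coe, Set.Finite.mem_toFinset]
        have hmP : t0 * t ∈ P := mul_mem ht0P htP
        refine mem_inf.2 ⟨hmP, ?_⟩
        show t0 * t ∈ l
        by_cases h1 : t0 * t = 1
        · rw [h1]; exact one_mem l
        have hn' : cj (t0 * t) W = W := by rw [cj_mul, e1, e02]
        obtain ⟨m, hm, hmm, hWm⟩ := h.fix_line hWW (h.orderOf_mem hP hmP h1) (mem_normalizer_iff_cj.2 hn')
        rw [h.unique_line hWW hP hl hm hWl hPl.symm hWm ⟨_, h1, hmP, hmm⟩ (Ne.symm hPW)]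
        exact hmm
      · rw [← Set.ncard_eq_toFinset_card, ← Nat.card_coe_set_eq]
        exact (h.card_inc hP hl hPl.symm).le
    · rw [if_neg hQC]
      set D := normalizer (W : Set G) ⊓ normalizer (Q : Set G) with hD
      have hodd : Odd (Nat.card D) := by
        rw [Nat.odd_iff]
        by_contra heven
        haveI : Fact (Nat.Prime 2) := ⟨Nat.prime_two⟩
        obtain ⟨⟨i, hi12⟩, hi⟩ := exists_prime_orderOf_dvd_card' 2 (show 2 ∣ Nat.card D by omega)
        rw [Subgroup.orderOf_mk] at hi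
        obtain ⟨hi1, hi2⟩ := hi12
        obtain ⟨l1, hl1, hil1, hW1⟩ := h.fix_line hWW hi hi1
        obtain ⟨l2, hl2, hil2, hQ2⟩ := h.fix_line hQpt hi hi2
        have e := h.symm.pt_unique hl1 hl2 (Signalizer.involution_ne_one hi) hil1 hil2
        subst e
        exact hQC ((hCmem Q).2 ⟨hQpt, hQW, l1, hl1, hW1, hQ2⟩)
      have hdvd : Nat.card D ∣ 15 := by
        have h1 := card_dvd_of_le (inf_le_left : D ≤ normalizer (W : Set G))
        rw [h.pair.left.card_X, h.pair.core_left, h.pair.right.card_A] at h1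
        refine ((Nat.coprime_two_right.2 hodd).pow_right 6).dvd_of_dvd_mul_left ?_
        norm_num at h1 ⊢
        exact h1
      rcases (M.filter fun t => cj t W = Q).eq_empty_or_nonempty with e | ⟨t0, ht0⟩
      · rw [e]; simp
      obtain ⟨ho0, e01, e02⟩ := hmem t0 ht0
      have hle : (M.filter fun t => cj t W = Q).card ≤ Nat.card D := by
        refine (Finset.card_le_card_of_injOn (fun t => t0 * t) (t := (Set.toFinite (D : Set G)).toFinset)
          (fun t ht => ?_) (fun a _ b _ e => mul_left_cancel e)).trans ?_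
        · obtain ⟨ho, e1, e2⟩ := hmem t (Finset.mem_coe.1 ht)
          rw [Finset.mem_coe, Set.Finite.mem_toFinset]
          exact mem_inf.2 ⟨mem_normalizer_iff_cj.2 (by rw [cj_mul, e1, e02]),
            mem_normalizer_iff_cj.2 (by rw [cj_mul, e2, e01])⟩
        · rw [← Set.ncard_eq_toFinset_card, ← Nat.card_coe_set_eq]
          exact le_rfl
      have h15 : Nat.card D ≠ 15 := fun e => h.no_fifteen inf_le_left e
      have := Nat.le_of_dvd (by norm_num) hdvd
      omega
  have hsum : M.card = ∑ Q ∈ S, (M.filter fun t => cj t W = Q).card :=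
    Finset.card_eq_sum_card_fiberwise (fun t ht => by
      simp only [hM, Finset.coe_filter, Set.mem_setOf_eq] at ht
      exact Finset.mem_coe.2 (Finset.mem_erase.2 ⟨ht.2, mem_pts.2 (hWW.cj t)⟩))
  have hle := Finset.sum_le_sum hbound
  rw [← hsum, Finset.sum_ite, Finset.sum_const, Finset.sum_const, smul_eq_mul, smul_eq_mul] at hle
  have e1 : (S.filter fun Q => Q ∈ C) = C := by
    ext Q
    simp only [Finset.mem_filter]
    exact ⟨fun hQ => hQ.2, fun hQ => ⟨hCS hQ, hQ⟩⟩
  have e2 : (S.filter fun Q => ¬ Q ∈ C).card = S.card - C.card := by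
    have := Finset.card_filter_add_card_filter_not (s := S) (fun Q => Q ∈ C)
    rw [e1] at this
    omega
  rw [e1, e2] at hle
  have hn' : n = 21 := by omega
  refine ⟨hn', ?_⟩
  have hall : S = C := (Finset.eq_of_subset_of_card_le hCS (by omega)).symm
  intro P Q hP hQ hne
  obtain ⟨x, rfl⟩ := hP
  have hQ1 : cj x⁻¹ Q ∈ C := hall ▸ Finset.mem_erase.2 ⟨fun e => hne (by rw [← e, cj_cj_inv]),
    mem_pts.2 (hQ.cj x⁻¹)⟩
  obtain ⟨-, -, l, hl, h1, h2⟩ := (hCmem _).1 hQ1
  refine ⟨cj x l, hl.cj x, h1.cj x, ?_⟩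
  have := h2.cj x
  rwa [cj_cj_inv] at this

open Cfsg MulAction in
open scoped Pointwise in
theorem Four.isPSLThreeFour [IsSimpleGroup G] (h : Four G T W A) : IsPSLThreeFour G := by
  classical
  obtain ⟨hn, hjoin⟩ := h.plane
  have hG : Nat.card G = 20160 := by rw [h.card_eq, hn]
  let α := {P : Subgroup G // IsPt W P}
  letI : Fintype α := Fintype.ofFinite α
  have hα : Fintype.card α = 21 := by
    rw [← Nat.card_eq_fintype_card, ← hn, pts, ← Set.ncard_eq_toFinset_card, ← Nat.card_coe_set_eq]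
    rfl
  letI : MulAction G α :=
    { smul := fun g P => ⟨cj g P.1, P.2.cj g⟩
      one_smul := fun P => Subtype.ext (cj_one P.1)
      mul_smul := fun g k P => Subtype.ext (cj_mul g k P.1) }
  let L : Set (Finset α) := {s | ∃ l, IsPt A l ∧ ∀ P : α, P ∈ s ↔ Inc P.1 l}
  have hL : IsSteinerSystem 2 5 L := by
    refine ⟨?_, fun s hs => ?_⟩
    · rintro s ⟨l, hl, hs⟩
      rw [← h.symm.card_lns hl, ← Finset.card_map (Function.Embedding.subtype _)]
      congr 1
      ext P
      simp only [Finset.mem_map, Function.Embedding.subtype_apply, mem_lns]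
      exact ⟨fun ⟨Q, hQ, e⟩ => e ▸ ⟨Q.2, ((hs Q).1 hQ).symm⟩, fun ⟨h1, h2⟩ => ⟨⟨P, h1⟩, (hs _).2 h2.symm, rfl⟩⟩
    · obtain ⟨x, y, hxy, rfl⟩ := Finset.card_eq_two.1 hs
      obtain ⟨l, hl, hxl, hyl⟩ := hjoin x.1 y.1 x.2 y.2 fun e => hxy (Subtype.ext e)
      refine ⟨Finset.univ.filter fun P : α => Inc P.1 l, ⟨⟨l, hl, fun P => by simp⟩, ?_⟩, ?_⟩
      · simp [Finset.insert_subset_iff, hxl, hyl]
      · rintro b ⟨⟨m, hm, hb⟩, hsub⟩
        simp only [Finset.insert_subset_iff, Finset.singleton_subset_iff, hb] at hsub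
        have e := h.unique_line x.2 y.2 hl hm hxl hyl hsub.1 hsub.2 fun e => hxy (Subtype.ext e)
        subst e
        ext P
        simp [hb]
  let ψ : G →* Equiv.Perm α := toPermHom G α
  have hψA : ψ.range ≤ setSystemAut L := by
    rintro _ ⟨g, rfl⟩
    show _ • L = L
    refine Set.eq_of_subset_of_ncard_le ?_ ?_ (Set.toFinite _)
    · rintro _ ⟨b, ⟨l, hl, hb⟩, rfl⟩
      refine ⟨cj g l, hl.cj g, fun P => ?_⟩
      rw [← Finset.inv_smul_mem_iff, hb]
      show Inc (cj g⁻¹ P.1) l ↔ _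
      refine ⟨fun hi => ?_, fun hi => ?_⟩
      · have := hi.cj g
        rwa [cj_cj_inv] at this
      · have := hi.cj g⁻¹
        rwa [cj_inv_cj] at this
    · rw [← Set.image_smul, Set.ncard_image_of_injective _ (MulAction.injective _)]
  have hψ : Function.Injective ψ := by
    rcases IsSimpleGroup.eq_bot_or_eq_top_of_normal ψ.ker ψ.normal_ker with e | e
    · exact (MonoidHom.ker_eq_bot_iff ψ).1 e
    · exfalso
      have hall : pts W ⊆ {W} := by
        intro P hP
        obtain ⟨g, rfl⟩ := mem_pts.1 hP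
        have h1 : ψ g = 1 := by rw [← MonoidHom.mem_ker, e]; exact mem_top g
        have h2 : (ψ g) ⟨W, 1, cj_one W⟩ = (⟨W, 1, cj_one W⟩ : α) := by rw [h1]; rfl
        exact Finset.mem_singleton.2 (congrArg Subtype.val h2)
      have := Finset.card_le_card hall
      rw [hn, Finset.card_singleton] at this
      omega
  exact pslThreeFour_of_action hG hα hL ψ hψ hψA

end CfsgLib.CIT
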