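import Cfsg.Agent.Lib.CIT.Para

/-!
# Failure of the TI property produces two maximal 2-local subgroups; local subgroups have TI Sylow subgroups

`exists_pair`: in a CIT group with trivial 2-core whose local subgroups are TI modulo their 2-cores, either Sylow
2-subgroups are TI or there are two local subgroups `N(W)`, `N(A)` with a common Sylow subgroup `T = WA`.
`localTI`: in every CIT group the local subgroups are TI modulo their 2-cores.
-/

set_option autoImplicit false
set_option linter.all false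

namespace CfsgLib.CIT

open Subgroup
open CfsgLib.Signalizer (involution_sq involution_inv orderOf_eq_two_of orderOf_conj)

universe u

section

variable {G : Type*} [Group G] [Finite G]

/-- No nontrivial normal 2-subgroup. -/
def NoCore (G : Type*) [Group G] : Prop := ∀ P : Subgroup G, P.Normal → IsPGroup 2 P → P = ⊥

/-- A local subgroup with an offender. -/
def HasFF (G : Type*) [Group G] : Prop :=
  ∃ X T A : Subgroup G, core X ≠ ⊥ ∧ Branching X ∧ normalizer (core X : Set G) ≤ X ∧ IsSyl T X ∧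
    IsMaxElem A T ∧ ¬ A ≤ core X

theorem normalizer_le_of_no_ff (hL : LocalTI G) (hff : ¬ HasFF G) :
    ∀ (n : ℕ) (P S : Subgroup G), Nat.card G ≤ Nat.card P + n → P ≠ ⊥ → IsSyl S ⊤ → P ≤ S →
      normalizer (P : Set G) ≤ normalizer (thompsonJ S : Set G) ∧
      ∀ S', IsSyl S' ⊤ → P ≤ S' → thompsonJ S' = thompsonJ S := by
  intro n
  induction n using Nat.strong_induction_on with
  | h n ih =>
  intro P S hn hP1 hS hPS
  have hPp : IsPGroup 2 P := hS.2.1.to_le hPS
  by_cases hsyl : IsSyl P ⊤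
  · obtain rfl : S = P := hsyl.2.2 S hPS le_top hS.2.1
    exact ⟨normalizer_le_normalizer_thompsonJ S, fun S' hS' hle => by rw [hS.2.2 S' hle le_top hS'.2.1]⟩
  set X := normalizer (P : Set G) with hXdef
  have hPR : P ≤ core X := le_core hPp le_normalizer le_rfl
  have hcore : core X ≠ ⊥ := fun h => hP1 (le_bot_iff.1 (h ▸ hPR))
  have hstep : ∀ Q : Subgroup G, P < Q → ∀ S₁ S₂ : Subgroup G, IsSyl S₁ ⊤ → IsSyl S₂ ⊤ → Q ≤ S₁ → Q ≤ S₂ →
      normalizer (Q : Set G) ≤ normalizer (thompsonJ S₁ : Set G) ∧ thompsonJ S₂ = thompsonJ S₁ := by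
    intro Q hlt S₁ S₂ h1 h2 hq1 hq2
    have hc : Nat.card P < Nat.card Q := by
      refine lt_of_not_ge fun h => hlt.ne (eq_of_le_of_card_ge hlt.le h)
    have hQG : Nat.card Q ≤ Nat.card G := Nat.le_of_dvd Nat.card_pos (card_subgroup_dvd_card Q)
    have hPG : Nat.card P < Nat.card G := lt_of_lt_of_le hc hQG
    obtain ⟨hN, hU⟩ := ih (Nat.card G - Nat.card Q) (by omega) Q S₁ (by omega)
      (fun h => not_lt_bot (h ▸ hlt)) h1 hq1
    exact ⟨hN, hU S₂ h2 hq2⟩
  have hgrow : ∀ S₁ : Subgroup G, IsSyl S₁ ⊤ → P ≤ S₁ → P < S₁ ⊓ X := by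
    intro S₁ h1 hle
    refine lt_of_le_of_ne (le_inf hle le_normalizer) fun h => hsyl ?_
    have := eq_of_normalizer_inf_le h1.2.1 hle h.ge
    exact this ▸ h1
  obtain ⟨J0, hJ, hXJ⟩ : ∃ J0 : Subgroup G,
      (∀ S₁ : Subgroup G, IsSyl S₁ ⊤ → P ≤ S₁ → thompsonJ S₁ = J0) ∧ X ≤ normalizer (J0 : Set G) := by
    rcases eq_or_lt_of_le hPR with heq | hlt
    · -- `P` is the 2-core of its normaliser
      have hnorm : normalizer (core X : Set G) ≤ X := by rw [← heq]
      have hb : Branching X := by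
        intro T hT hn
        have h1 : S ⊓ X ≤ T := IsSyl.le_of_unique (fun T' hT' => hT.unique hn hT') inf_le_right
          (hS.2.1.to_le inf_le_left)
        exact (hgrow S hS hPS).not_ge (h1.trans ((le_core hT.2.1 hT.1 hn).trans heq.ge))
      have hall : ∀ T, IsSyl T X → X = normalizer (thompsonJ T : Set G) ∧ IsSyl T ⊤ := by
        intro T hT
        refine eq_normalizer_thompsonJ hL hcore hb hnorm hT (sSup_le fun A hA => ?_)
        by_contra hAR
        exact hff ⟨X, T, A, hcore, hb, hnorm, hT, hA, hAR⟩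
      obtain ⟨T, hT, -⟩ := exists_isSyl (bot_le : (⊥ : Subgroup G) ≤ X) IsPGroup.of_bot
      refine ⟨thompsonJ T, fun S₁ h1 hle => ?_, (hall T hT).1.le⟩
      obtain ⟨T', hT', hle'⟩ := exists_isSyl (inf_le_right : S₁ ⊓ X ≤ X) (h1.2.1.to_le inf_le_left)
      obtain ⟨x, hx, rfl⟩ := hT.exists_conj hT'
      rw [(hstep _ (hgrow S₁ h1 hle) _ S₁ (hall _ hT').2 h1 hle' inf_le_left).2, ← cj_thompsonJ]
      exact mem_normalizer_iff_cj.1 ((hall T hT).1.le hx)
    · obtain ⟨S₀, hS₀, hRS₀⟩ := exists_isSyl (le_top : core X ≤ ⊤) (isPGroup_core X)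
      refine ⟨thompsonJ S₀, fun S₁ h1 hle => ?_,
        (core_normalized X).trans (hstep _ hlt S₀ S₀ hS₀ hS₀ hRS₀ hRS₀).1⟩
      obtain ⟨T, hT, hle'⟩ := exists_isSyl (inf_le_right : S₁ ⊓ X ≤ X) (h1.2.1.to_le inf_le_left)
      obtain ⟨S₂, hS₂, hTS₂⟩ := exists_isSyl (le_top : T ≤ ⊤) hT.2.1
      rw [(hstep _ (hgrow S₁ h1 hle) S₂ S₁ hS₂ h1 (hle'.trans hTS₂) inf_le_left).2]
      exact (hstep _ hlt S₀ S₂ hS₀ hS₂ hRS₀ ((core_le_syl hT).trans hTS₂)).2
  exact ⟨(hJ S hS hPS).symm ▸ hXJ, fun S' hS' hle => by rw [hJ S hS hPS, hJ S' hS' hle]⟩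

/-- An element of odd order in the group generated by two elements of different Sylow subgroups, both of order
two modulo the core. -/
theorem exists_odd_elem (hL : LocalTI G) {X T : Subgroup G} (hX : core X ≠ ⊥) (hT : IsSyl T X) {a b : G}
    (ha : a ∈ T) (haR : a ∉ core X) (ha2 : a * a ∈ core X) (hb : b ∈ X) (hbT : b ∉ T) (hb2 : b * b ∈ core X) :
    ∃ k : ℕ, Odd (orderOf ((a * b) ^ k)) ∧ (a * b) ^ k ≠ 1 := by
  set aX : X := ⟨a, hT.1 ha⟩
  set bX : X := ⟨b, hb⟩
  have hbR : b ∉ core X := fun h => hbT (core_le_syl hT h)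
  have hq : ∀ (c : X), (c : G) * c ∈ core X → (c : G) ∉ core X →
      orderOf (c : X ⧸ Cfsg.pCore 2 X) = 2 := fun c h1 h2 => orderOf_eq_two_of
    (fun h => h2 ((mem_core_iff c).2 ((QuotientGroup.eq_one_iff c).1 h)))
    (by rw [← QuotientGroup.mk_mul, QuotientGroup.eq_one_iff, ← mem_core_iff]; exact h1)
  obtain ⟨m, hm, hm1⟩ := (tiSylow_quotient hL hX).exists_odd hT.qimg (hq aX ha2 haR) (hq bX hb2 hbR)
    ((mk_mem_qimg (core_le_syl hT) aX).2 ha) (fun h => hbT ((mk_mem_qimg (core_le_syl hT) bX).1 h))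
  obtain ⟨e, o, ho, he⟩ := Nat.exists_eq_two_pow_mul_odd (orderOf_pos ((a * b) ^ m)).ne'
  refine ⟨m * 2 ^ e, ?_, ?_⟩
  · rw [pow_mul, orderOf_pow_of_dvd (pow_ne_zero _ two_ne_zero) (he ▸ dvd_mul_right _ _), he,
      Nat.mul_div_cancel_left _ (pow_pos two_pos e)]
    exact ho
  · intro h
    refine hm1 (orderOf_eq_one_iff.1 ?_)
    have h1 : (((aX : X ⧸ Cfsg.pCore 2 X) * (bX : X ⧸ Cfsg.pCore 2 X)) ^ m) ^ 2 ^ e = 1 := by
      rw [← QuotientGroup.mk_mul, ← QuotientGroup.mk_pow, ← QuotientGroup.mk_pow,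
        show (((aX * bX) ^ m) ^ 2 ^ e : X) = 1 from Subtype.ext (by simpa [aX, bX, pow_mul] using h),
        QuotientGroup.mk_one]
    exact Nat.eq_one_of_dvd_coprimes (Nat.Coprime.pow_left e (Nat.coprime_two_left.2 hm))
      (orderOf_dvd_of_pow_eq_one h1) dvd_rfl

/-- Without an offender the Sylow subgroups are TI. -/
theorem tiSylow_of_no_ff (hC : CIT G) (hO : NoCore G) (hL : LocalTI G) (hff : ¬ HasFF G) : TISylow G := by
  haveI : Fact (Nat.Prime 2) := ⟨Nat.prime_two⟩
  intro T T' hT hT' hne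
  by_contra hint
  obtain ⟨t, ⟨htT, htT'⟩, ht1⟩ := (T ⊓ T').bot_or_exists_ne_one.resolve_left hint
  have hTne : T ≠ ⊥ := fun h => ht1 (mem_bot.1 (h ▸ htT))
  have hz1 : zpowers t ≠ ⊥ := fun h => ht1 (mem_bot.1 (h ▸ mem_zpowers t))
  have hJ : thompsonJ T' = thompsonJ T := (normalizer_le_of_no_ff hL hff (Nat.card G) (zpowers t) T (by omega)
    hz1 hT (zpowers_le.2 htT)).2 T' hT' (zpowers_le.2 htT')
  set M := normalizer (thompsonJ T : Set G) with hMdef
  have hTM : T ≤ M := le_normalizer.trans (normalizer_le_normalizer_thompsonJ T)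
  have hT'M : T' ≤ M := hMdef ▸ hJ ▸ le_normalizer.trans (normalizer_le_normalizer_thompsonJ T')
  have hloc : ∀ P : Subgroup G, P ≠ ⊥ → P ≤ T → normalizer (P : Set G) ≤ M := fun P h1 h2 =>
    (normalizer_le_of_no_ff hL hff (Nat.card G) P T (by omega) h1 hT h2).1
  have hTsM : IsSyl T M := ⟨hTM, hT.2.1, fun P h1 _ h3 => hT.2.2 P h1 le_top h3⟩
  have hT'sM : IsSyl T' M := ⟨hT'M, hT'.2.1, fun P h1 _ h3 => hT'.2.2 P h1 le_top h3⟩
  have hb : Branching M := branching_of_two hTsM hT'sM hne
  have hJle : thompsonJ T ≤ core M := le_core (hT.2.1.to_le (thompsonJ_le T)) le_normalizer le_rfl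
  have hJne := thompsonJ_ne_bot hT.2.1 hTne
  have hR : core M ≠ ⊥ := fun h => hJne (le_bot_iff.1 (h ▸ hJle))
  have hMtop : M ≠ ⊤ := fun h => hJne (hO _ (normalizer_eq_top_iff.1 h) (hT.2.1.to_le (thompsonJ_le T)))
  have hse : Cfsg.IsStronglyEmbedded M := by
    refine ⟨hMtop, ?_, fun g hg => ?_⟩
    · haveI : Nontrivial T := (nontrivial_iff_ne_bot T).2 hTne
      obtain ⟨n, hn⟩ := hT.2.1.exists_card_eq
      have : 1 < Nat.card T := Finite.one_lt_card
      refine even_iff_two_dvd.2 (dvd_trans ?_ (card_dvd_of_le hTM))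
      rw [hn] at this ⊢
      exact dvd_pow_self 2 (fun h0 => by rw [h0, pow_zero] at this; omega)
    · rw [Nat.odd_iff]
      by_contra heven
      obtain ⟨⟨i, hi12⟩, hi⟩ := exists_prime_orderOf_dvd_card' 2
        (show 2 ∣ Nat.card ↥(M ⊓ M.map (MulAut.conj g).toMonoidHom) by omega)
      rw [Subgroup.orderOf_mk] at hi
      obtain ⟨hi1, hi2⟩ := hi12
      have hzi : IsPGroup 2 (zpowers i) := IsPGroup.of_card (n := 1) (by rw [Nat.card_zpowers, hi, pow_one])
      obtain ⟨U, hU, hiU⟩ := exists_isSyl (zpowers_le.2 hi1 : zpowers i ≤ M) hzi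
      obtain ⟨U', hU', hiU'⟩ := exists_isSyl (zpowers_le.2 hi2 : zpowers i ≤ cj g M) hzi
      obtain ⟨m, hm, rfl⟩ := hTsM.exists_conj hU
      obtain ⟨m', hm', rfl⟩ := (hTsM.cj g).exists_conj hU'
      obtain ⟨k, hk, rfl⟩ : ∃ k ∈ M, g * k * g⁻¹ = m' := ⟨g⁻¹ * m' * g, mem_cj.1 hm', by group⟩
      have hz : zpowers i ≠ ⊥ := fun h => Signalizer.involution_ne_one hi (mem_bot.1 (h ▸ mem_zpowers i))
      have hsyl : ∀ y : G, IsSyl (cj y T) ⊤ := isSyl_conj_top hT
      rw [← cj_mul, show g * k * g⁻¹ * g = g * k by group] at hiU'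
      have h1 := (normalizer_le_of_no_ff hL hff (Nat.card G) (zpowers i) (cj m T) (by omega) hz (hsyl m) hiU).2
        (cj (g * k) T) (hsyl _) hiU'
      rw [← cj_thompsonJ, ← cj_thompsonJ, mem_normalizer_iff_cj.1 hm, cj_mul, mem_normalizer_iff_cj.1 hk] at h1
      exact hg (mem_normalizer_iff_cj.2 h1)
  -- all involutions of `M` lie in the core
  obtain ⟨w, hw, hw1⟩ := (zcore M).bot_or_exists_ne_one.resolve_left (zcore_ne_bot hR)
  obtain ⟨g, hg⟩ : ∃ g : G, g ∉ M := by
    by_contra hno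
    push Not at hno
    exact hMtop (eq_top_iff.2 fun x _ => hno x)
  have hinv : ∀ i ∈ M, orderOf i = 2 → i ∈ core M := by
    intro i hi ho
    have hgo : ((1 : G) : G ⧸ M) ≠ (g : G ⧸ M) := fun e => hg (by simpa using (QuotientGroup.eq.1 e))
    have hfix : ∀ y ∈ M, y • ((1 : G) : G ⧸ M) = ((1 : G) : G ⧸ M) := fun y hy =>
      (TwoGroups.SE.smul_mk_eq_iff y 1).2 (by simpa using hy)
    obtain ⟨d, hd, -, hdz⟩ := TwoGroups.SE.exists_conj_fixing hse hgo
      (orderOf_eq_two_of hw1 (zcore_sq hw)) (hfix w (core_le M hw.1)) ho (hfix i hi)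
    have hdM : d ∈ M := by simpa using (TwoGroups.SE.smul_mk_eq_iff d 1).1 hd
    rw [← hdz]
    exact (mem_normalizer_iff.1 (core_normalized M hdM) w).1 hw.1
  -- an involution outside the core, by Frattini on an inverted element of odd order
  have hTne' : qimg M T ≠ ⊥ := by
    intro h
    refine hne (hT.2.2 T' ?_ le_top hT'.2.1).symm
    intro s hs
    refine core_le_syl hT'sM ((mem_core_iff (⟨s, hTM hs⟩ : M)).2 ((QuotientGroup.eq_one_iff _).1 ?_))
    exact mem_bot.1 (h ▸ (mk_mem_qimg (core_le_syl hTsM) ⟨s, hTM hs⟩).2 hs)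
  haveI : Nontrivial (qimg M T) := (nontrivial_iff_ne_bot _).2 hTne'
  obtain ⟨n, hn⟩ := hTsM.qimg.2.1.exists_card_eq
  obtain ⟨a, ha⟩ := exists_prime_orderOf_dvd_card' 2 (show 2 ∣ Nat.card (qimg M T) by
    have h1 : 1 < Nat.card (qimg M T) := Finite.one_lt_card
    rw [hn] at h1 ⊢; exact dvd_pow_self 2 fun h0 => by rw [h0] at h1; simp at h1)
  obtain ⟨aq, haq⟩ := a
  rw [Subgroup.orderOf_mk] at ha
  obtain ⟨aX, haX, rfl⟩ := haq
  rw [QuotientGroup.mk'_apply] at ha
  have haT : (aX : G) ∈ T := haX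
  have haR : (aX : G) ∉ core M := fun h =>
    Signalizer.involution_ne_one ha ((QuotientGroup.eq_one_iff _).2 ((mem_core_iff _).1 h))
  have ha2 : (aX : G) * aX ∈ core M := by
    refine (mem_core_iff (aX * aX)).2 ((QuotientGroup.eq_one_iff _).1 ?_)
    rw [QuotientGroup.mk_mul]
    exact involution_sq ha
  obtain ⟨x0, hx0, hx0T⟩ : ∃ x0 ∈ M, x0 * aX * x0⁻¹ ∉ T := by
    obtain ⟨x0, hx0, hx0T⟩ := hTsM.exists_conj hT'sM
    refine ⟨x0, hx0, fun h => haR ((mem_normalizer_iff.1 (core_normalized M hx0) _).2 ?_)⟩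
    exact hL M hR T T' hTsM hT'sM hne ⟨h, hx0T ▸ conj_mem_cj.2 haT⟩
  set b := x0 * (aX : G) * x0⁻¹ with hbdef
  have hbM : b ∈ M := mul_mem (mul_mem hx0 aX.2) (inv_mem hx0)
  have hb2 : b * b ∈ core M := by
    rw [show b * b = x0 * ((aX : G) * aX) * x0⁻¹ by rw [hbdef]; group]
    exact (mem_normalizer_iff.1 (core_normalized M hx0) _).1 ha2
  obtain ⟨k, hk, hk1⟩ := exists_odd_elem hL hR hTsM haT haR ha2 hbM hx0T hb2
  set x := ((aX : G) * b) ^ k with hxdef
  have hxM : x ∈ M := pow_mem (mul_mem aX.2 hbM) k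
  set bX : M := ⟨b, hbM⟩
  have hbq : orderOf (bX : M ⧸ Cfsg.pCore 2 M) = 2 := orderOf_eq_two_of
    (fun h => hx0T (core_le_syl hTsM ((mem_core_iff bX).2 ((QuotientGroup.eq_one_iff _).1 h))))
    (by rw [← QuotientGroup.mk_mul, QuotientGroup.eq_one_iff, ← mem_core_iff]; exact hb2)
  have hinvert : x * ((aX : G) * x * (aX : G)⁻¹) ∈ core M := by
    refine (mem_core_iff ((aX * bX) ^ k * (aX * (aX * bX) ^ k * aX⁻¹) : M)).2 ((QuotientGroup.eq_one_iff _).1 ?_)
    simp only [QuotientGroup.mk_mul, QuotientGroup.mk_inv, QuotientGroup.mk_pow]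
    rw [← conj_pow, Signalizer.conj_mul_eq_inv ha hbq, inv_pow, mul_inv_cancel]
  obtain ⟨r, hr, hz⟩ := hC.exists_conj_coset (isPGroup_core M) hk hk1 (core_normalized M hxM) hinvert
  set a' := r⁻¹ * (aX : G) with ha'
  have ha'T : a' ∈ T := mul_mem (inv_mem (core_le_syl hTsM hr)) haT
  have ha'R : a' ∉ core M := fun h => haR (by
    have := mul_mem hr h
    rwa [ha', mul_inv_cancel_left] at this)
  have hconj : a' * x * a'⁻¹ = x⁻¹ := by
    rw [ha', show r⁻¹ * (aX : G) * x * (r⁻¹ * (aX : G))⁻¹ = r⁻¹ * ((aX : G) * x * (aX : G)⁻¹) * r by group, hz]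
    group
  have hcomm : x * (a' * a') = a' * a' * x := by
    have h2 : a' * a' * x * (a' * a')⁻¹ = x := by
      rw [show a' * a' * x * (a' * a')⁻¹ = a' * (a' * x * a'⁻¹) * a'⁻¹ by group, hconj,
        show a' * x⁻¹ * a'⁻¹ = (a' * x * a'⁻¹)⁻¹ by group, hconj, inv_inv]
    exact (mul_inv_eq_iff_eq_mul.1 h2).symm
  have hsq : a' * a' = 1 := hC.eq_one_of_mem hk hk1 hT.2.1 (mul_mem ha'T ha'T) hcomm
  exact ha'R (hinv a' (hTM ha'T) (orderOf_eq_two_of (fun h => ha'R (h ▸ one_mem _)) hsq))

/-- Two local subgroups with a common Sylow subgroup, interchangeable. -/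
structure Pair (T W A : Subgroup G) (q : ℕ) : Prop where
  left : Para (normalizer (W : Set G)) T A q
  right : Para (normalizer (A : Set G)) T W q
  core_left : core (normalizer (W : Set G)) = W
  core_right : core (normalizer (A : Set G)) = A

theorem Pair.symm {T W A : Subgroup G} {q : ℕ} (h : Pair T W A q) : Pair T A W q :=
  ⟨h.right, h.left, h.core_right, h.core_left⟩

theorem Pair.zcore_left {T W A : Subgroup G} {q : ℕ} (h : Pair T W A q) : zcore (normalizer (W : Set G)) = W := by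
  refine eq_of_le_of_card_ge ((zcore_le _).trans h.core_left.le) ?_
  rw [h.left.card_W, h.right.card_A]

theorem Pair.zfix_left {T W A : Subgroup G} {q : ℕ} (h : Pair T W A q) :
    zfix (normalizer (W : Set G)) T = A ⊓ W := by
  rw [← h.left.inf_eq, h.core_left]

theorem Pair.core_ne_bot {T W A : Subgroup G} {q : ℕ} (h : Pair T W A q) :
    core (normalizer (W : Set G)) ≠ ⊥ := by
  intro h0
  have h1 := h.right.card_A
  rw [← h.core_left, h0, card_bot] at h1
  nlinarith [h.left.one_lt]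

theorem Pair.branching {T W A : Subgroup G} {q : ℕ} (h : Pair T W A q) :
    Branching (normalizer (W : Set G)) := by
  obtain ⟨x, hx, -, hxT⟩ := h.left.three
  exact branching_of_two h.left.syl (h.left.syl.cj_of_mem (le_normalizer hx))
    (fun e => hxT (mem_normalizer_iff_cj.2 e.symm))

/-- A subgroup of the core centralised by an element outside has order at most the square root. -/
theorem Para.sq_card_le (hC : CIT G) (hL : LocalTI G) {X T A : Subgroup G} {q : ℕ} (hP : Para X T A q)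
    (hX : core X ≠ ⊥) {u : G} (hu : u ∈ T) (huR : u ∉ core X) {D : Subgroup G} (hD : D ≤ core X)
    (hc : ∀ d ∈ D, u * d = d * u) : Nat.card D * Nat.card D ≤ Nat.card (core X) := by
  obtain ⟨x, hx, -, hxT⟩ := hP.three
  have hn := core_normalized X hx
  have hT := hP.syl
  have hu' : x * u * x⁻¹ ∉ T := by
    intro h
    by_cases hTT : cj x T = T
    · exact hxT (mem_normalizer_iff_cj.2 hTT)
    · exact huR ((mem_normalizer_iff.1 hn u).2
        (hL X hX _ _ (hT.cj_of_mem (le_normalizer hx)) hT hTT ⟨conj_mem_cj.2 hu, h⟩))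
  have hu2 : x * u * x⁻¹ * (x * u * x⁻¹) ∈ core X := by
    rw [show x * u * x⁻¹ * (x * u * x⁻¹) = x * (u * u) * x⁻¹ by group]
    exact (mem_normalizer_iff.1 hn _).1 (hP.sq_mem u hu)
  obtain ⟨k, hk, hk1⟩ := exists_odd_elem hL hX hT hu huR (hP.sq_mem u hu)
    (mul_mem (mul_mem hx (hT.1 hu)) (inv_mem hx)) hu' hu2
  have hD' : cj x D ≤ core X := (cj_mono hD).trans (mem_normalizer_iff_cj.1 hn).le
  have hinf : D ⊓ cj x D = ⊥ := by
    refine le_bot_iff.1 fun d hd => mem_bot.2 ?_
    obtain ⟨e, he, hde⟩ := hd.2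
    have h1 : Commute u d := hc d hd.1
    have h2 : Commute (x * u * x⁻¹) d := by
      have hde' : x * e * x⁻¹ = d := hde
      show _ = _
      rw [← hde']
      calc x * u * x⁻¹ * (x * e * x⁻¹) = x * (u * e) * x⁻¹ := by group
        _ = x * (e * u) * x⁻¹ := by rw [hc e he]
        _ = _ := by group
    exact hC.eq_one_of_mem hk hk1 (isPGroup_core X) (hD hd.1) ((h1.mul_left h2).pow_left k).eq
  have h1 := card_mul_card_le_sup D (cj x D)
  rw [hinf, card_bot, mul_one, card_cj] at h1
  exact h1.trans (Nat.le_of_dvd Nat.card_pos (card_dvd_of_le (sup_le hD hD')))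

/-- If a conjugate of the core inside `T` centralises `u ∉ R` then `|R| ≤ q²`. -/
theorem Para.card_core_le (hC : CIT G) (hL : LocalTI G) {X T A : Subgroup G} {q : ℕ} (hP : Para X T A q)
    (hX : core X ≠ ⊥) {u g : G} (hu : u ∈ T) (huR : u ∉ core X) (hle : cj g (core X) ≤ T)
    (hc : ∀ d ∈ cj g (core X), u * d = d * u) : core X = zcore X := by
  refine (eq_of_le_of_card_ge (zcore_le X) ?_).symm
  rw [hP.card_W]
  have h1 := hP.sq_card_le hC hL hX hu huR (D := core X ⊓ cj g (core X)) inf_le_left fun d hd => hc d hd.2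
  have h2 := (card_mul_card_le_sup (core X) (cj g (core X))).trans (Nat.mul_le_mul_right _
    (Nat.le_of_dvd Nat.card_pos (card_dvd_of_le (sup_le (core_le_syl hP.syl) hle))))
  rw [card_cj, hP.card_T] at h2
  have hpos : 0 < Nat.card (core X) := Nat.card_pos
  have h3 : Nat.card (core X) ≤ q * Nat.card (core X ⊓ cj g (core X) : Subgroup G) :=
    Nat.le_of_mul_le_mul_left (by linarith) hpos
  refine Nat.le_of_mul_le_mul_left (a := Nat.card (core X)) ?_ hpos
  calc Nat.card (core X) * Nat.card (core X)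
      ≤ (q * Nat.card (core X ⊓ cj g (core X) : Subgroup G)) * (q * Nat.card (core X ⊓ cj g (core X) : Subgroup G)) :=
        Nat.mul_le_mul h3 h3
    _ = q ^ 2 * (Nat.card (core X ⊓ cj g (core X) : Subgroup G) * Nat.card (core X ⊓ cj g (core X) : Subgroup G)) := by
        ring
    _ ≤ q ^ 2 * Nat.card (core X) := Nat.mul_le_mul_left _ h1
    _ = Nat.card (core X) * q ^ 2 := by ring

theorem exists_pair_of_ff (hC : CIT G) (hO : NoCore G) (hL : LocalTI G) (hff : HasFF G) :
    ∃ (T W A : Subgroup G) (q : ℕ), Pair T W A q := by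
  obtain ⟨X, T, A, hX, hb, hnorm, hT, hA, hAR⟩ := hff
  obtain ⟨q, hP⟩ := exists_para hC hL hX hb hT hA hAR
  set R := core X with hR
  set W := zcore X with hW
  have hq := hP.one_lt
  have hWR : W ≤ R := zcore_le X
  have hRT : R ≤ T := core_le_syl hT
  have hWne := zcore_ne_bot hX
  have hXW : X = normalizer (W : Set G) := (core_eq_of_le hL hb (zcore_normalized X) hnorm fun h =>
    hWne (le_bot_iff.1 (h ▸ le_core ((isPGroup_core X).to_le hWR) le_normalizer le_rfl))).1.symm
  have hinvW : ∀ r ∈ R, r * r = 1 → r ∈ W := hP.inv_core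
  -- a second Para from another maximal elementary subgroup
  have hpara : ∀ A' : Subgroup G, IsMaxElem A' T → ¬ A' ≤ R → Para X T A' q := by
    intro A' hA' hne
    obtain ⟨q', hP'⟩ := exists_para hC hL hX hb hT hA' hne
    have h := hP'.card_W
    rw [hP.card_W] at h
    rwa [Nat.pow_left_injective two_ne_zero h]
  obtain ⟨u0, hu0A, hu0R⟩ := SetLike.not_le_iff_exists.1 hAR
  have hu02 : u0 * u0 = 1 := sq_of_elementary hA.2.1 hu0A
  obtain ⟨z, hz, hz1⟩ := (zfix X T).bot_or_exists_ne_one.resolve_left (fun h => by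
    have := hP.card_Z
    rw [h, card_bot] at this
    omega)
  have hzW : z ∈ W := (mem_zfix.1 hz).1
  have hz2 : orderOf z = 2 := orderOf_eq_two_of hz1 (zcore_sq hzW)
  by_cases hsyl : IsSyl T ⊤
  swap
  · -- `T` is not a Sylow subgroup of `G`
    obtain ⟨S, hS, hTS⟩ := exists_isSyl (le_top : T ≤ ⊤) hT.2.1
    obtain ⟨s, hsS, hsT, hsn⟩ := exists_normalizing hS.2.1 (lt_of_le_of_ne hTS fun h => hsyl (h ▸ hS))
    have hsX : s ∉ X := fun h => hsT ((hT.2.2 (S ⊓ X) (le_inf hTS hT.1) inf_le_right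
      (hS.2.1.to_le inf_le_left)).le ⟨hsS, h⟩)
    have hsTT : cj s T = T := mem_normalizer_iff_cj.1 hsn
    set A' := cj s W with hA'
    have hA'T : A' ≤ T := (cj_mono (hWR.trans hRT)).trans hsTT.le
    have hA'el : Cfsg.IsElementaryAbelian 2 A' := isElementaryAbelian_cj (zcore_elementary X)
    have hA'R : ¬ A' ≤ R := by
      intro h
      have hle : A' ≤ W := fun a ha => hinvW a (h ha) (sq_of_elementary hA'el ha)
      exact hsX (hXW ▸ mem_normalizer_iff_cj.2 (eq_of_le_of_card_ge hle (card_cj s W).ge))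
    have hA'max : IsMaxElem A' T := ⟨hA'T, hA'el, fun B hB hB' =>
      (hA.2.2 B hB hB').trans (by rw [card_cj, hP.card_A, hP.card_W])⟩
    have hP' := hpara A' hA'max hA'R
    obtain ⟨a, ha, haR⟩ := SetLike.not_le_iff_exists.1 hA'R
    have hRW : R = W := hP.card_core_le hC hL hX (hA'T ha) haR (g := s) ((cj_mono hRT).trans hsTT.le) fun d hd => by
      obtain ⟨w, hw, rfl⟩ := ha
      obtain ⟨r, hr, rfl⟩ := hd
      show (MulAut.conj s) w * (MulAut.conj s) r = (MulAut.conj s) r * (MulAut.conj s) w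
      rw [← map_mul, ← map_mul, hw.2.2 r hr]
    have hX2 : normalizer (A' : Set G) = cj s X := by rw [hA', normalizer_cj, ← hXW]
    have hc2 : core (normalizer (A' : Set G)) = A' := by rw [hX2, core_cj, ← hR, hRW]
    have hT2 : IsSyl T (normalizer (A' : Set G)) := by
      have := hT.cj s
      rw [hsTT, ← hX2] at this
      exact this
    have hWmax : IsMaxElem W T := ⟨hWR.trans hRT, zcore_elementary X, fun B hB hB' =>
      (hA'max.2.2 B hB hB').trans (card_cj s W).le⟩
    have hWA : ¬ W ≤ A' := fun h => hA'R (by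
      rw [← eq_of_le_of_card_ge h (card_cj s W).le]; exact hWR)
    obtain ⟨q2, hP2⟩ := exists_para hC hL
      (fun h => hWne (by
        have h1 : A' = ⊥ := hc2.symm.trans h
        rw [hA'] at h1
        exact (map_eq_bot_iff_of_injective W (MulAut.conj s).injective).1 h1))
      (hX2 ▸ hb.cj s) hT2 hWmax (hc2.symm ▸ hWA)
    have hqq : q2 = q := by
      have h := hP2.card_A
      rw [hP.card_W] at h
      exact (Nat.pow_left_injective two_ne_zero h).symm
    exact ⟨T, W, A', q, hXW ▸ hP', hqq ▸ hP2, by rw [← hXW, ← hR, hRW], hc2⟩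
  -- `T` is a Sylow subgroup of `G`
  have hCz : ∀ v ∈ zfix X T, v ≠ 1 → centralizer ({v} : Set G) = T := by
    intro v hv hv1
    refine hsyl.2.2 _ (fun t ht => mem_centralizer_singleton_iff.2 ((mem_zfix.1 hv).2 t ht)) le_top ?_
    exact hC _ (orderOf_eq_two_of hv1 (zcore_sq (mem_zfix.1 hv).1))
  by_cases hfus : ∃ u ∈ T, u ∉ R ∧ u * u = 1 ∧ ∃ w ∈ W, w ≠ 1 ∧ IsConj w u
  · obtain ⟨u, huT, huR, hu2, w, hw, hw1, hwu⟩ := hfus
    obtain ⟨x, hx, hxz⟩ := hP.trans z hzW hz1 w hw hw1
    obtain ⟨g0, hg0⟩ := isConj_iff.1 hwu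
    set g := g0 * x with hg
    have hgz : g * z * g⁻¹ = u := by
      rw [← hg0, ← hxz, hg]; group
    set Tg := cj g T with hTg
    have hTgs : IsSyl Tg ⊤ := isSyl_conj_top hsyl g
    have huc : ∀ t ∈ Tg, t * u = u * t := by
      intro t ht
      have h1 := (mem_zfix.1 hz).2 _ (mem_cj.1 ht)
      calc t * u = g * ((g⁻¹ * t * g) * z) * g⁻¹ := by rw [← hgz]; group
        _ = g * (z * (g⁻¹ * t * g)) * g⁻¹ := by rw [h1]
        _ = u * t := by rw [← hgz]; group
    have hCu : ∀ c : G, c * u = u * c → c ∈ Tg := by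
      intro c hc
      rw [hTg, mem_cj, ← hCz z hz hz1, mem_centralizer_singleton_iff]
      calc g⁻¹ * c * g * z = g⁻¹ * (c * u) * g := by rw [← hgz]; group
        _ = g⁻¹ * (u * c) * g := by rw [hc]
        _ = z * (g⁻¹ * c * g) := by rw [← hgz]; group
    have hTne : Tg ≠ T := by
      intro h
      have hWZ : W ≤ zfix X T := fun v hv => hP.fix u huT huR v hv (huc v (h ▸ hRT (hWR hv))).symm
      have h2 := Nat.le_of_dvd Nat.card_pos (card_dvd_of_le hWZ)
      rw [hP.card_W, hP.card_Z] at h2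
      nlinarith
    have hCR : ∀ r ∈ R, r * u = u * r → r ∈ W := by
      intro r hr hc
      by_contra hrW
      have hr4 : r * r ≠ 1 := fun h => hrW (hinvW r hr h)
      have hrg : g⁻¹ * r * g ∈ T := mem_cj.1 (hCu r hc)
      have hcg : g⁻¹ * (r * r) * g ∈ R := by
        rw [show g⁻¹ * (r * r) * g = (g⁻¹ * r * g) * (g⁻¹ * r * g) by group]
        exact hP.sq_mem _ hrg
      obtain ⟨j, hj⟩ := orderOf_two_pow_of_mem (isPGroup_core X) (mul_mem hr hr)
      obtain ⟨m, hm⟩ := exists_involution_pow hj hr4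
      set v := (r * r) ^ m with hv
      have hvW : v ∈ W := hinvW v (pow_mem (mul_mem hr hr) m) (involution_sq hm)
      have hvu : u * v = v * u := ((Commute.mul_left hc hc : Commute (r * r) u).pow_left m).eq.symm
      have hvZ := hP.fix u huT huR v hvW hvu
      have hvg : g⁻¹ * v * g ∈ W := by
        refine hinvW _ ?_ (by rw [show g⁻¹ * v * g * (g⁻¹ * v * g) = g⁻¹ * (v * v) * g by group, involution_sq hm]; group)
        have h1 : (g⁻¹ * (r * r) * g) ^ m = g⁻¹ * v * g := by
          rw [hv]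
          simpa using conj_pow (i := m) (a := g⁻¹) (b := r * r)
        exact h1 ▸ pow_mem hcg m
      have hRg : cj g R ≤ T := by
        rintro _ ⟨y, hy, rfl⟩
        rw [← hCz v hvZ (Signalizer.involution_ne_one hm), mem_centralizer_singleton_iff]
        calc (MulAut.conj g) y * v = g * (y * (g⁻¹ * v * g)) * g⁻¹ := by simp [mul_assoc]
          _ = g * ((g⁻¹ * v * g) * y) * g⁻¹ := by rw [hvg.2.2 y hy]
          _ = v * (MulAut.conj g) y := by simp [mul_assoc]
      have hRW := hP.card_core_le hC hL hX huT huR hRg fun d hd => by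
        obtain ⟨y, hy, rfl⟩ := hd
        calc u * (MulAut.conj g) y = g * (z * y) * g⁻¹ := by rw [← hgz]; simp [mul_assoc]
          _ = g * (y * z) * g⁻¹ := by rw [← hzW.2.2 y hy]
          _ = (MulAut.conj g) y * u := by rw [← hgz]; simp [mul_assoc]
      exact hrW (hRW.le hr)
    have hRW : R = W := by
      refine le_antisymm ?_ hWR
      by_contra hnle
      set P := W ⊔ zpowers u with hPd
      have huR' : zpowers u ≤ normalizer (R : Set G) := zpowers_le.2 (core_normalized X (hT.1 huT))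
      have hlt : P < R ⊔ zpowers u := by
        refine lt_of_le_not_ge (sup_le_sup_right hWR _) fun h => hnle fun r hr => ?_
        have hrP : r ∈ P := h (mem_sup_left hr)
        have : zpowers u ≤ normalizer (W : Set G) := zpowers_le.2 (zcore_normalized X (hT.1 huT))
        rw [hPd, ← SetLike.mem_coe, coe_mul_of_right_le_normalizer_left _ _ this] at hrP
        obtain ⟨a, ha, b, hb', rfl⟩ := hrP
        have hbR : b ∈ R := by
          have := mul_mem (inv_mem (hWR ha)) hr
          simpa using this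
        obtain ⟨i, rfl⟩ := mem_zpowers_iff.1 hb'
        rcases Int.even_or_odd i with ⟨j, rfl⟩ | ⟨j, rfl⟩
        · show a * u ^ (j + j) ∈ W
          rw [← two_mul, zpow_mul, zpow_two, hu2, one_zpow, mul_one]; exact ha
        · rw [zpow_add, zpow_mul, zpow_two, hu2, one_zpow, one_mul, zpow_one] at hbR
          exact absurd hbR huR
      obtain ⟨g', hg', hg'P, hg'n⟩ := exists_normalizing
        (hT.2.1.to_le (sup_le hRT (zpowers_le.2 huT))) hlt
      rw [← SetLike.mem_coe, coe_mul_of_right_le_normalizer_left _ _ huR'] at hg'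
      obtain ⟨r, hr, b, hb', rfl⟩ := hg'
      have hrn : r ∈ normalizer (P : Set G) := by
        have := mul_mem hg'n (inv_mem (le_normalizer (mem_sup_right hb' : b ∈ P)))
        simpa using this
      have hrP : r ∉ P := fun h => hg'P (mul_mem h (mem_sup_right hb'))
      have hmem : r⁻¹ * u * r ∈ P := by
        simpa using (mem_normalizer_iff''.1 hrn u).1 (mem_sup_right (mem_zpowers u))
      rw [hPd, ← SetLike.mem_coe, coe_mul_of_right_le_normalizer_left _ _
        (zpowers_le.2 (zcore_normalized X (hT.1 huT)) : zpowers u ≤ normalizer (W : Set G))] at hmem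
      obtain ⟨c, hc, b', hb'', hcb⟩ := hmem
      have hcb' : r⁻¹ * u * r = c * u := by
        obtain ⟨i, rfl⟩ := mem_zpowers_iff.1 hb''
        rcases Int.even_or_odd i with ⟨j, rfl⟩ | ⟨j, rfl⟩
        · exfalso
          simp only [← two_mul, zpow_mul, zpow_two, hu2, one_zpow, mul_one] at hcb
          refine huR ?_
          rw [show u = r * (r⁻¹ * u * r) * r⁻¹ by group, ← hcb]
          exact mul_mem (mul_mem hr (hWR hc)) (inv_mem hr)
        · simp only [zpow_add, zpow_mul, zpow_two, hu2, one_zpow, one_mul, zpow_one] at hcb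
          exact hcb.symm
      have hcu : u * c = c * u := by
        have h1 : c * u * (c * u) = 1 := by
          rw [← hcb', show r⁻¹ * u * r * (r⁻¹ * u * r) = r⁻¹ * (u * u) * r by group, hu2]; group
        calc u * c = c⁻¹ * (c * u * (c * u)) * u⁻¹ := by group
          _ = c * u := by
            rw [h1, mul_one, inv_eq_of_mul_eq_one_right (zcore_sq hc), inv_eq_of_mul_eq_one_right hu2]
      -- `c` is a commutator `[w', u]`
      have hcZ := hP.fix u huT huR c hc hcu
      obtain ⟨w', hw', hw'c⟩ : ∃ w' ∈ W, w' * (u * w' * u⁻¹) = c := by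
        have hnu := zcore_normalized X (hT.1 huT)
        have hmemW : ∀ v : W, (v : G) * (u * v * u⁻¹) ∈ W := fun v =>
          mul_mem v.2 ((mem_normalizer_iff.1 hnu _).1 v.2)
        let f : W →* W :=
          { toFun := fun v => ⟨(v : G) * (u * v * u⁻¹), hmemW v⟩
            map_one' := Subtype.ext (by simp)
            map_mul' := fun v w => Subtype.ext (by
              have hcomm := zcore_comm ((mem_normalizer_iff.1 hnu _).1 v.2) w.2
              show (v : G) * w * (u * (v * w) * u⁻¹) = (v : G) * (u * v * u⁻¹) * ((w : G) * (u * w * u⁻¹))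
              calc (v : G) * w * (u * (v * w) * u⁻¹) = (v : G) * ((w : G) * (u * v * u⁻¹)) * (u * w * u⁻¹) := by group
                _ = (v : G) * ((u * v * u⁻¹) * w) * (u * w * u⁻¹) := by rw [hcomm]
                _ = _ := by group) }
        have hsub : f.range.map W.subtype ≤ zfix X T := by
          rintro _ ⟨_, ⟨v, rfl⟩, rfl⟩
          refine hP.fix u huT huR _ (f v).2 ?_
          show u * ((v : G) * (u * v * u⁻¹)) = (v : G) * (u * v * u⁻¹) * u
          have hcomm := zcore_comm ((mem_normalizer_iff.1 hnu _).1 v.2) v.2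
          calc u * ((v : G) * (u * v * u⁻¹)) = (u * v * u⁻¹) * (u * u) * v * u⁻¹ := by group
            _ = (u * v * u⁻¹) * v * u := by rw [hu2, mul_one, inv_eq_of_mul_eq_one_right hu2]
            _ = (v : G) * (u * v * u⁻¹) * u := by rw [hcomm]
        have hker : f.ker.map W.subtype ≤ zfix X T := by
          rintro _ ⟨v, hv, rfl⟩
          refine hP.fix u huT huR _ v.2 ?_
          have h1 : (v : G) * (u * v * u⁻¹) = 1 := congrArg Subtype.val hv
          show u * (v : G) = v * u
          calc u * (v : G) = (v : G)⁻¹ * ((v : G) * (u * v * u⁻¹)) * u := by group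
            _ = v * u := by rw [h1, mul_one, inv_eq_of_mul_eq_one_right (zcore_sq v.2)]
        have hk := Nat.le_of_dvd Nat.card_pos (card_dvd_of_le hker)
        rw [hP.card_Z, ← Nat.card_congr (f.ker.equivMapOfInjective _ W.subtype_injective).toEquiv] at hk
        have hi := f.ker.index_mul_card
        rw [index_ker, hP.card_W] at hi
        have hge : q ≤ Nat.card f.range := by
          by_contra hlt'
          push Not at hlt'
          nlinarith
        have heq : f.range.map W.subtype = zfix X T := eq_of_le_of_card_ge hsub (by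
          rw [hP.card_Z, ← Nat.card_congr (f.range.equivMapOfInjective _ W.subtype_injective).toEquiv]
          exact hge)
        obtain ⟨_, ⟨v, rfl⟩, hv⟩ := (heq.ge hcZ : c ∈ f.range.map W.subtype)
        exact ⟨v, v.2, hv⟩
      refine hrP (mem_sup_left (?_ : r ∈ W))
      have h1 : (r * w') * u = u * (r * w') := by
        have e : c * u = w' * u * w' := by
          rw [← hw'c, inv_eq_of_mul_eq_one_right hu2,
            show w' * (u * w' * u) * u = w' * u * w' * (u * u) by group, hu2, mul_one]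
        symm
        calc u * (r * w') = r * (r⁻¹ * u * r) * w' := by group
          _ = r * w' * u * (w' * w') := by rw [hcb', e]; group
          _ = r * w' * u := by rw [zcore_sq hw', mul_one]
      have := hCR (r * w') (mul_mem hr (hWR hw')) h1
      have h2 := mul_mem this (inv_mem hw')
      rwa [mul_inv_cancel_right] at h2
    have hWmax : IsMaxElem W T := ⟨hWR.trans hRT, zcore_elementary X, fun B hB hB' =>
      (hA.2.2 B hB hB').trans (by rw [hP.card_A, hP.card_W])⟩
    have hdec : ∀ t ∈ T, ∃ a ∈ A, ∃ v ∈ W, t = a * v := by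
      intro t ht
      rw [← hP.sup_eq] at ht
      rw [← SetLike.mem_coe, coe_mul_of_left_le_normalizer_right _ _
        ((hA.1.trans hT.1).trans (core_normalized X))] at ht
      obtain ⟨a, ha, v, hv, rfl⟩ := ht
      exact ⟨a, ha, v, hRW ▸ hv, rfl⟩
    have hAinv : ∀ t ∈ T, t * t = 1 → t ∈ W ∨ t ∈ A := by
      intro t ht ht2
      obtain ⟨a, ha, v, hv, rfl⟩ := hdec t ht
      by_cases haR : a ∈ R
      · exact Or.inl (mul_mem (hRW ▸ haR) hv)
      · right
        have hcomm : a * v = v * a := by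
          calc a * v = (a * v * (a * v)) * (v⁻¹ * a⁻¹) := by group
            _ = v * a := by
              rw [ht2, one_mul, inv_eq_of_mul_eq_one_right (zcore_sq hv),
                inv_eq_of_mul_eq_one_right (sq_of_elementary hA.2.1 ha)]
        have hvA : v ∈ A := (hP.inf_eq.ge (hP.fix a (hA.1 ha) haR v hv hcomm)).1
        exact mul_mem ha hvA
    have huA : u ∈ A := (hAinv u huT hu2).resolve_left fun h => huR (hWR h)
    have hinter : T ⊓ Tg = A := by
      refine le_antisymm (fun t ht => ?_) (fun a ha => ⟨hA.1 ha, hCu a (comm_of_elementary hA.2.1 ha huA)⟩)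
      obtain ⟨a, ha, v, hv, rfl⟩ := hdec t ht.1
      refine mul_mem ha (hP.inf_eq.ge (hP.fix u huT huR v hv ?_)).1
      have h1 : a * v * u = u * (a * v) := huc _ ht.2
      have h2 : a * u = u * a := comm_of_elementary hA.2.1 ha huA
      exact mul_left_cancel (a := a) (by rw [← mul_assoc, h2, mul_assoc, ← h1, mul_assoc])
    have hAn : T ≤ normalizer (A : Set G) := by
      intro t ht
      rw [mem_normalizer_iff_cj]
      refine eq_of_le_of_card_ge ?_ (card_cj _ _).ge
      rintro _ ⟨a, ha, rfl⟩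
      show t * a * t⁻¹ ∈ A
      have hconjT : t * a * t⁻¹ ∈ T := mul_mem (mul_mem ht (hA.1 ha)) (inv_mem ht)
      have hsq : t * a * t⁻¹ * (t * a * t⁻¹) = 1 := by
        rw [show t * a * t⁻¹ * (t * a * t⁻¹) = t * (a * a) * t⁻¹ by group, sq_of_elementary hA.2.1 ha]; group
      rcases hAinv _ hconjT hsq with h | h
      · have haW : a ∈ W := by
          have := (mem_normalizer_iff''.1 (zcore_normalized X (hT.1 ht)) _).1 h
          simpa [mul_assoc] using this
        have haZ : a ∈ zfix X T := hP.inf_eq.le ⟨ha, hWR haW⟩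
        rwa [(mem_zfix.1 haZ).2 t ht, mul_inv_cancel_right]
      · exact h
    have hTgn : Tg ≤ normalizer (A : Set G) := by
      set A0 := cj g⁻¹ A with hA0
      have hA0T : A0 ≤ T := by
        rw [hA0, cj_le_iff, inv_inv]
        exact hinter.ge.trans inf_le_right
      have hA0el : Cfsg.IsElementaryAbelian 2 A0 := isElementaryAbelian_cj hA.2.1
      have hA0c : Nat.card A0 = q ^ 2 := by rw [card_cj, hP.card_A]
      have hcase : A0 = W ∨ A0 = A := by
        by_cases hsub : A0 ≤ A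
        · exact Or.inr (eq_of_le_of_card_ge hsub (by rw [hA0c, hP.card_A]))
        · obtain ⟨b, hb', hbA⟩ := SetLike.not_le_iff_exists.1 hsub
          have hbW : b ∈ W := (hAinv b (hA0T hb') (sq_of_elementary hA0el hb')).resolve_right hbA
          refine Or.inl (eq_of_le_of_card_ge (fun c hc => ?_) (by rw [hA0c, hP.card_W]))
          rcases hAinv c (hA0T hc) (sq_of_elementary hA0el hc) with h | h
          · exact h
          · by_contra hcW
            have hcR : c ∉ R := fun h' => hcW (hRW ▸ h')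
            exact hbA (hP.inf_eq.ge (hP.fix c (hA0T hc) hcR b hbW (comm_of_elementary hA0el hc hb'))).1
      rw [show A = cj g A0 by rw [hA0, cj_cj_inv], normalizer_cj]
      refine cj_mono ?_
      rcases hcase with h | h
      · rw [h]; exact hT.1.trans (zcore_normalized X)
      · rw [h]; exact hAn
    have hT2 : IsSyl T (normalizer (A : Set G)) := ⟨hAn, hT.2.1, fun P h1 _ h3 => hsyl.2.2 P h1 le_top h3⟩
    have hTg2 : IsSyl Tg (normalizer (A : Set G)) := ⟨hTgn, hTgs.2.1, fun P h1 _ h3 => hTgs.2.2 P h1 le_top h3⟩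
    have hc2 : core (normalizer (A : Set G)) = A := le_antisymm
      ((le_inf (core_le_syl hT2) (core_le_syl hTg2)).trans hinter.le)
      (le_core (hT.2.1.to_le hA.1) le_normalizer le_rfl)
    have hWA : ¬ W ≤ A := fun h => hAR (by rw [← eq_of_le_of_card_ge h (by rw [hP.card_A, hP.card_W])]; exact hWR)
    obtain ⟨q2, hP2⟩ := exists_para hC hL (fun h => hAR ((hc2.symm.trans h).le.trans bot_le))
      (branching_of_two hT2 hTg2 (Ne.symm hTne)) hT2 hWmax (hc2.symm ▸ hWA)
    have hqq : q2 = q := by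
      have h := hP2.card_A
      rw [hP.card_W] at h
      exact (Nat.pow_left_injective two_ne_zero h).symm
    exact ⟨T, W, A, q, hXW ▸ hP, hqq ▸ hP2, by rw [← hXW, ← hR, hRW], hc2⟩
  · -- no fusion: the conjugates of `z` lie in `W`
    exfalso
    push Not at hfus
    have hTX : IsSyl T X := hT
    have hL2 : ∀ t ∈ T, t ∉ R → t * t = 1 → centralizer ({t} : Set G) ≤ T := by
      intro t ht htR ht2
      obtain ⟨S, hS, hle⟩ := exists_isSyl (le_top : centralizer ({t} : Set G) ≤ ⊤)
        (hC t (orderOf_eq_two_of (fun h => htR (h ▸ one_mem _)) ht2))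
      obtain ⟨g, -, rfl⟩ := hsyl.exists_conj hS
      have hzg : z ∈ cj g T := hle (mem_centralizer_singleton_iff.2 ((mem_zfix.1 hz).2 t ht).symm)
      set z' := g * z * g⁻¹ with hz'
      have hcomm : z * z' = z' * z := by
        have h1 := (mem_zfix.1 hz).2 _ (mem_cj.1 hzg)
        calc z * z' = g * ((g⁻¹ * z * g) * z) * g⁻¹ := by rw [hz']; group
          _ = g * (z * (g⁻¹ * z * g)) * g⁻¹ := by rw [h1]
          _ = z' * z := by rw [hz']; group
      have hz'T : z' ∈ T := by
        rw [← hCz z hz hz1, mem_centralizer_singleton_iff]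
        exact hcomm.symm
      have hz'sq : z' * z' = 1 := by
        rw [hz', show g * z * g⁻¹ * (g * z * g⁻¹) = g * (z * z) * g⁻¹ by group, zcore_sq hzW]; group
      have hz'R : z' ∈ R := by
        by_contra hno
        exact hfus z' hz'T hno hz'sq z hzW hz1 (isConj_iff.2 ⟨g, rfl⟩)
      have hz'1 : z' ≠ 1 := fun h => hz1 (by rw [hz'] at h; exact conj_eq_one_iff.1 h)
      obtain ⟨x, hx, hxz⟩ := hP.trans z hzW hz1 z' (hinvW z' hz'R hz'sq) hz'1
      have hgx : cj g T = cj x T := by
        have key : ∀ y : G, cj y T = centralizer ({y * z * y⁻¹} : Set G) := fun y => by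
          ext c
          rw [mem_cj, ← hCz z hz hz1, mem_centralizer_singleton_iff, mem_centralizer_singleton_iff]
          constructor
          · intro h
            calc c * (y * z * y⁻¹) = y * ((y⁻¹ * c * y) * z) * y⁻¹ := by group
              _ = y * (z * (y⁻¹ * c * y)) * y⁻¹ := by rw [h]
              _ = _ := by group
          · intro h
            calc y⁻¹ * c * y * z = y⁻¹ * (c * (y * z * y⁻¹)) * y := by group
              _ = y⁻¹ * ((y * z * y⁻¹) * c) * y := by rw [h]
              _ = _ := by group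
        rw [key g, key x, hxz]
      rw [hgx] at hle
      have htS : t ∈ cj x T := hle (mem_centralizer_singleton_iff.2 rfl)
      by_cases hTT : cj x T = T
      · exact hle.trans hTT.le
      · exact absurd (hL X hX _ _ hT (hT.cj_of_mem (le_normalizer hx)) (Ne.symm hTT) ⟨ht, htS⟩) htR
    have hCX : ∀ i ∈ X, orderOf i = 2 → centralizer ({i} : Set G) ≤ X := by
      intro i hi ho
      obtain ⟨U, hU, hiU⟩ := exists_isSyl (zpowers_le.2 hi : zpowers i ≤ X)
        (IsPGroup.of_card (n := 1) (by rw [Nat.card_zpowers, ho, pow_one]))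
      obtain ⟨x, hx, rfl⟩ := hT.exists_conj hU
      have hiT : x⁻¹ * i * x ∈ T := mem_cj.1 (hiU (mem_zpowers i))
      intro c hc
      rw [mem_centralizer_singleton_iff] at hc
      have hc' : (x⁻¹ * c * x) * (x⁻¹ * i * x) = (x⁻¹ * i * x) * (x⁻¹ * c * x) := by
        calc (x⁻¹ * c * x) * (x⁻¹ * i * x) = x⁻¹ * (c * i) * x := by group
          _ = x⁻¹ * (i * c) * x := by rw [hc]
          _ = _ := by group
      suffices hsuf : x⁻¹ * c * x ∈ X by
        have := mul_mem (mul_mem hx hsuf) (inv_mem hx)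
        simpa [mul_assoc] using this
      have hsq : x⁻¹ * i * x * (x⁻¹ * i * x) = 1 := by
        rw [show x⁻¹ * i * x * (x⁻¹ * i * x) = x⁻¹ * (i * i) * x by group, involution_sq ho]; group
      by_cases hiR : x⁻¹ * i * x ∈ R
      · have hiW := hinvW _ hiR hsq
        have hi1 : x⁻¹ * i * x ≠ 1 := fun h => Signalizer.involution_ne_one ho
          (conj_eq_one_iff.1 (by simpa using h : x⁻¹ * i * x⁻¹⁻¹ = 1))
        obtain ⟨y, hy, hyz⟩ := hP.trans z hzW hz1 _ hiW hi1
        have hmem : y⁻¹ * (x⁻¹ * c * x) * y ∈ T := by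
          rw [← hCz z hz hz1, mem_centralizer_singleton_iff]
          calc y⁻¹ * (x⁻¹ * c * x) * y * z = y⁻¹ * ((x⁻¹ * c * x) * (y * z * y⁻¹)) * y := by group
            _ = y⁻¹ * ((y * z * y⁻¹) * (x⁻¹ * c * x)) * y := by rw [hyz, hc']
            _ = _ := by group
        have := mul_mem (mul_mem hy (hT.1 hmem)) (inv_mem hy)
        simpa [mul_assoc] using this
      · exact hT.1 (hL2 _ hiT hiR hsq (mem_centralizer_singleton_iff.2 hc'))
    have hclass : ∀ g : G, g * z * g⁻¹ ∈ W := by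
      intro g
      set c := g * z * g⁻¹ with hcd
      have hc2 : orderOf c = 2 := (orderOf_conj g z).trans hz2
      have hu0T := hA.1 hu0A
      have hu0o : orderOf u0 = 2 := orderOf_eq_two_of (fun h => hu0R (h ▸ one_mem _)) hu02
      have hne : ¬ IsConj c u0 := fun h => hfus u0 hu0T hu0R hu02 z hzW hz1
        ((isConj_iff.2 ⟨g, rfl⟩ : IsConj z c).trans h)
      have hev : Even (orderOf (c * u0)) := Nat.not_odd_iff_even.1 fun h =>
        hne (TwoGroups.SE.isConj_of_odd_mul hc2 hu0o h)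
      obtain ⟨k, hk⟩ := hev
      set i := (c * u0) ^ k with hi
      have hpos := orderOf_pos (c * u0)
      have hi2 : orderOf i = 2 := by
        refine orderOf_eq_two_of ?_ (by rw [hi, ← pow_add, ← hk, pow_orderOf_eq_one])
        intro h
        have := Nat.le_of_dvd (by omega) (orderOf_dvd_of_pow_eq_one h)
        omega
      have hic : c * i * c⁻¹ = i := by
        rw [hi, ← conj_pow, Signalizer.conj_mul_eq_inv hc2 hu0o, inv_pow, ← hi, involution_inv hi2]
      have hcomm_ci : Commute c i := mul_inv_eq_iff_eq_mul.1 hic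
      have hcomm_ui : Commute u0 i := by
        have h1 : Commute (c * u0) i := (Commute.refl (c * u0)).pow_right k
        have h2 := (hcomm_ci.inv_left).mul_left h1
        rwa [inv_mul_cancel_left] at h2
      have hiT : i ∈ T := hL2 u0 hu0T hu0R hu02 (mem_centralizer_singleton_iff.2 hcomm_ui.eq.symm)
      have hcX : c ∈ X := hCX i (hT.1 hiT) hi2 (mem_centralizer_singleton_iff.2 hcomm_ci.eq)
      obtain ⟨U, hU, hcU⟩ := exists_isSyl (zpowers_le.2 hcX : zpowers c ≤ X)
        (IsPGroup.of_card (n := 1) (by rw [Nat.card_zpowers, hc2, pow_one]))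
      obtain ⟨x, hx, rfl⟩ := hT.exists_conj hU
      have hcT : x⁻¹ * c * x ∈ T := mem_cj.1 (hcU (mem_zpowers c))
      have hsq : x⁻¹ * c * x * (x⁻¹ * c * x) = 1 := by
        rw [show x⁻¹ * c * x * (x⁻¹ * c * x) = x⁻¹ * (c * c) * x by group, involution_sq hc2]; group
      have hcR : x⁻¹ * c * x ∈ R := by
        by_contra hno
        exact hfus _ hcT hno hsq z hzW hz1 (isConj_iff.2 ⟨x⁻¹ * g, by rw [hcd]; group⟩)
      have := (mem_normalizer_iff.1 (zcore_normalized X hx) _).1 (hinvW _ hcR hsq)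
      simpa [mul_assoc] using this
    have hle : normalClosure ({z} : Set G) ≤ W := by
      rw [normalClosure, closure_le]
      intro y hy
      obtain ⟨a, ha, hay⟩ := Group.mem_conjugatesOfSet_iff.1 hy
      rw [Set.mem_singleton_iff] at ha
      subst ha
      obtain ⟨g, rfl⟩ := isConj_iff.1 hay
      exact hclass g
    have h0 := hO _ normalClosure_normal ((isPGroup_core X).to_le (hle.trans hWR))
    exact hz1 (mem_bot.1 (h0 ▸ subset_normalClosure (Set.mem_singleton z)))

/-- In a CIT group with trivial 2-core and TI locals, failure of TI gives a pair. -/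
theorem exists_pair (hC : CIT G) (hO : NoCore G) (hL : LocalTI G) (h : ¬ TISylow G) :
    ∃ (T W A : Subgroup G) (q : ℕ), Pair T W A q :=
  exists_pair_of_ff hC hO hL (by_contra fun hff => h (tiSylow_of_no_ff hC hO hL hff))

/-- An operator of order three on an elementary abelian subgroup in a CIT group. -/
theorem three_rel (hC : CIT G) {W : Subgroup G} (hW : Cfsg.IsElementaryAbelian 2 W) (hW2 : IsPGroup 2 W)
    {x u : G} (hx : orderOf x = 3) (hn : x ∈ normalizer (W : Set G)) (hu : u ∈ W) :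
    (x⁻¹ * u * x) * u = x * u * x⁻¹ := by
  have h1 : x⁻¹ * u * x ∈ W := by simpa using (mem_normalizer_iff''.1 hn u).1 hu
  have h2 : x * u * x⁻¹ ∈ W := (mem_normalizer_iff.1 hn u).1 hu
  have hxx : x * x * x = 1 := by rw [← pow_three', ← hx, pow_orderOf_eq_one]
  set a := x⁻¹ * u * x
  set b := x * u * x⁻¹ with hb
  have hxa : x * a * x⁻¹ = u := by simp [a, mul_assoc]
  have hxb : x * b * x⁻¹ = a := by
    calc x * b * x⁻¹ = (x * x) * u * (x * x)⁻¹ := by rw [hb]; group
      _ = x⁻¹ * u * x := by rw [eq_inv_of_mul_eq_one_left hxx, inv_inv]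
  set s := a * u * b with hs
  have hsW : s ∈ W := mul_mem (mul_mem h1 hu) h2
  have hfix : x * s * x⁻¹ = s := by
    calc x * s * x⁻¹ = (x * a * x⁻¹) * (x * u * x⁻¹) * (x * b * x⁻¹) := by rw [hs]; group
      _ = u * b * a := by rw [hxa, hxb, ← hb]
      _ = a * (u * b) := comm_of_elementary hW (mul_mem hu h2) h1
      _ = s := (mul_assoc _ _ _).symm
  have hs1 : s = 1 := hC.eq_one_of_mem (x := x) (by rw [hx]; decide)
    (fun h => by rw [h, orderOf_one] at hx; norm_num at hx) hW2 hsW (mul_inv_eq_iff_eq_mul.1 hfix)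
  calc a * u = s * b⁻¹ := by rw [hs]; group
    _ = b := by rw [hs1, one_mul, inv_eq_of_mul_eq_one_right (sq_of_elementary hW h2)]

/-- A group with a pair has no module without fixed points of odd elements. -/
theorem Pair.false_of_module (hC : CIT G) (hL : LocalTI G) {T W A : Subgroup G} {q : ℕ} (h : Pair T W A q)
    {V : Type*} [Group V] [Finite V] [Nontrivial V] (φ : G →* MulAut V) (hV : ∀ v : V, v * v = 1)
    (hf : OddFpf φ) : False := by
  have hab := comm_of_two hV
  have hT := h.left.syl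
  have hTp := hT.2.1
  have hWT : W ≤ T := h.right.maxA.1
  have hAT : A ≤ T := h.left.maxA.1
  obtain ⟨z, hz, hz1⟩ := (A ⊓ W).bot_or_exists_ne_one.resolve_left (fun h0 => by
    have := h.left.card_Z
    rw [h.zfix_left, h0, card_bot] at this
    exact absurd this.symm h.left.one_lt.ne')
  have hz2 := sq_of_elementary h.right.maxA.2.1 hz.2
  have hzo := orderOf_eq_two_of hz1 hz2
  obtain ⟨v, hv1, hv⟩ := exists_fixed_one φ (isPGroup_of_two hV) hzo
  have hfwd : ∀ (U : Subgroup G), Cfsg.IsElementaryAbelian 2 U → IsPGroup 2 U → ∀ {x : G}, orderOf x = 3 →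
      x ∈ normalizer (U : Set G) → ∀ u ∈ U, ∀ w : V, φ u w = w → φ (x * u * x⁻¹) w = w :=
    fun U hU hU2 x hx hn u hu w hw =>
      fixed_conj φ hab hf hx (sq_of_elementary hU hu) (three_rel hC hU hU2 hx hn hu) hw
  obtain ⟨x2, hx2, hx23, hx2T⟩ := h.right.three
  obtain ⟨x, hx, hx3, hxT⟩ := h.left.three
  set a := x2 * z * x2⁻¹ with ha
  have haA : a ∈ A := (mem_normalizer_iff.1 hx2 z).1 hz.1
  have hafix : φ a v = v := hfwd A h.left.maxA.2.1 (hTp.to_le hAT) hx23 hx2 z hz.1 v hv
  have hzc : ∀ t ∈ T, t * z = z * t := (mem_zfix.1 (h.zfix_left.ge hz)).2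
  have haW : a ∉ W := by
    intro haW
    have hac : ∀ t ∈ T, t * a = a * t := (mem_zfix.1 (h.zfix_left.ge ⟨haA, haW⟩)).2
    have hKp : IsPGroup 2 (normalizer (A : Set G) ⊓ centralizer ({a} : Set G) : Subgroup G) :=
      (hC a (by rw [ha, orderOf_conj, hzo])).to_le inf_le_right
    have hTK : T ≤ normalizer (A : Set G) ⊓ centralizer ({a} : Set G) :=
      le_inf h.right.syl.1 fun t ht => mem_centralizer_singleton_iff.2 (hac t ht)
    have hK : normalizer (A : Set G) ⊓ centralizer ({a} : Set G) = T := h.right.syl.2.2 _ hTK inf_le_left hKp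
    refine hx2T (mem_normalizer_iff_cj.2 (eq_of_le_of_card_ge ?_ (card_cj _ _).ge))
    rintro _ ⟨t, ht, rfl⟩
    rw [← hK]
    refine mem_inf.2 ⟨mul_mem (mul_mem hx2 (h.right.syl.1 ht)) (inv_mem hx2), mem_centralizer_singleton_iff.2 ?_⟩
    calc (MulAut.conj x2) t * a = x2 * (t * z) * x2⁻¹ := by simp [ha, mul_assoc]
      _ = x2 * (z * t) * x2⁻¹ := by rw [hzc t ht]
      _ = a * (MulAut.conj x2) t := by simp [ha, mul_assoc]
  have hzW' : z ∈ W := hz.2
  have hn : x ∈ normalizer (W : Set G) := hx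
  have hW2 := hTp.to_le hWT
  have hWel := h.right.maxA.2.1
  set w := φ x v
  have hb : φ (x * a * x⁻¹) w = w := by
    show φ (x * a * x⁻¹) (φ x v) = φ x v
    rw [← apply_mul, inv_mul_cancel_right, apply_mul, hafix]
  have hzx : φ (x * z * x⁻¹) w = w := by
    show φ (x * z * x⁻¹) (φ x v) = φ x v
    rw [← apply_mul, inv_mul_cancel_right, apply_mul, hv]
  have hzw : φ z w = w := by
    have h1 := hfwd W hWel hW2 hx3 hn _ ((mem_normalizer_iff.1 hn z).1 hzW') w hzx
    have h2 := hfwd W hWel hW2 hx3 hn _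
      ((mem_normalizer_iff.1 hn _).1 ((mem_normalizer_iff.1 hn z).1 hzW')) w h1
    rwa [show x * (x * (x * z * x⁻¹) * x⁻¹) * x⁻¹ = (x * x * x) * z * (x * x * x)⁻¹ by group,
      show x * x * x = 1 by rw [← pow_three', ← hx3, pow_orderOf_eq_one], one_mul, inv_one, mul_one] at h2
  have haw : φ a w = w := hfwd A h.left.maxA.2.1 (hTp.to_le hAT) hx23 hx2 z hz.1 w hzw
  have haR : a ∉ core (normalizer (W : Set G)) := by rwa [h.core_left]
  have hbT : x * a * x⁻¹ ∉ T := by
    intro hmem
    by_cases hTT : cj x T = T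
    · exact hxT (mem_normalizer_iff_cj.2 hTT)
    · exact haR ((mem_normalizer_iff.1 (core_normalized _ hx) a).2
        (hL _ h.core_ne_bot _ _ (hT.cj_of_mem (le_normalizer hx)) hT hTT ⟨conj_mem_cj.2 (hAT haA), hmem⟩))
  have hb2 : x * a * x⁻¹ * (x * a * x⁻¹) = 1 := by
    rw [show x * a * x⁻¹ * (x * a * x⁻¹) = x * (a * a) * x⁻¹ by group, sq_of_elementary h.left.maxA.2.1 haA]
    group
  obtain ⟨k, hk, hk1⟩ := exists_odd_elem hL h.core_ne_bot hT (hAT haA) haR (h.left.sq_mem a (hAT haA))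
    (mul_mem (mul_mem hx (hT.1 (hAT haA))) (inv_mem hx)) hbT (hb2 ▸ one_mem _)
  have hw1 : w = 1 := hf _ hk hk1 w (map_pow_fix φ (by rw [apply_mul, hb, haw]) k)
  exact hv1 ((φ x).injective (hw1.trans (map_one _).symm))

end

/-- A CIT group with trivial 2-core and a module on which odd elements act without fixed points has TI Sylow
2-subgroups. -/
theorem tiSylow_of_module : ∀ (n : ℕ) (Y : Type u) [Group Y] [Finite Y], Nat.card Y ≤ n → CIT Y → NoCore Y →
    ∀ (V : Type u) [Group V] [Finite V] [Nontrivial V] (φ : Y →* MulAut V), (∀ v : V, v * v = 1) → OddFpf φ →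
      TISylow Y := by
  intro n
  induction n using Nat.strong_induction_on with
  | h n ih =>
  intro Y _ _ hn hC hO V _ _ _ φ hV hf
  have hL : LocalTI Y := by
    intro X hX T T' hT hT' hne
    haveI : Nontrivial (zcore X) := (nontrivial_iff_ne_bot _).2 (zcore_ne_bot hX)
    exact inf_le_core_of_tiSylow (ih _ (lt_of_lt_of_le (card_quotient_lt hX) hn) _ le_rfl (hC.quotient X)
      (quotient_core X) (zcore X) (qact X) (fun w => Subtype.ext (zcore_sq w.2)) (qact_oddFpf hC X)) hT hT' hne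
  by_contra hTI
  obtain ⟨T, W, A, q, hP⟩ := exists_pair hC hO hL hTI
  exact hP.false_of_module hC hL φ hV hf

/-- In a CIT group all local subgroups are TI modulo their 2-cores. -/
theorem localTI {G : Type u} [Group G] [Finite G] (hC : CIT G) : LocalTI G := by
  intro X hX T T' hT hT' hne
  haveI : Nontrivial (zcore X) := (nontrivial_iff_ne_bot _).2 (zcore_ne_bot hX)
  exact inf_le_core_of_tiSylow (tiSylow_of_module _ _ le_rfl (hC.quotient X)
    (quotient_core X) (zcore X) (qact X) (fun w => Subtype.ext (zcore_sq w.2)) (qact_oddFpf hC X)) hT hT' hne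

end CfsgLib.CIT
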