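import Cfsg.Agent.Lib.CIT.Syl
import Cfsg.Agent.Lib.TwoGroups.StrongEmbedding
import Cfsg.Prelude.Def_LieExceptional

/-!
# A strongly embedded subgroup with a TI normal subgroup containing its involutions

`Embedded M H`: `M` is strongly embedded, `H` is a normal subgroup of `M` containing all involutions of `M`, meets
its conjugates outside `M` trivially, and contains the centraliser of each of its nontrivial elements.
With at least two involutions in `H`: `G` is doubly transitive on `G ⧸ M`, `H` is regular on the other points, and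
two-point stabilisers are abelian, inverted by the swapping involutions, and fix exactly two points.
-/

set_option autoImplicit false
set_option linter.all false

namespace CfsgLib.CIT

open Subgroup
open CfsgLib.Signalizer (involution_sq involution_inv orderOf_eq_two_of orderOf_conj)

variable {G : Type*} [Group G]

structure Embedded (M H : Subgroup G) : Prop where
  se : Cfsg.IsStronglyEmbedded M
  hle : H ≤ M
  norm : M ≤ normalizer (H : Set G)
  involution_mem : ∀ t ∈ M, orderOf t = 2 → t ∈ H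
  cl : ∀ h ∈ H, h ≠ 1 → centralizer ({h} : Set G) ≤ H
  ti : ∀ g : G, g ∉ M → ∀ h ∈ H, g⁻¹ * h * g ∈ H → h = 1

namespace Embedded

variable {M H : Subgroup G}

/-- `y` lies in the conjugate of `H` attached to the point `x`. -/
def InH (H : Subgroup G) (y : G) (x : G ⧸ M) : Prop :=
  ∃ g : G, (g : G ⧸ M) = x ∧ g⁻¹ * y * g ∈ H

/-- The conjugate of `H` at a point. -/
noncomputable def ker (h : Embedded M H) (x : G ⧸ M) : Subgroup G := cj x.out H

variable (h : Embedded M H)
include h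

theorem inH_rep {y g : G} (hy : InH (M := M) H y (g : G ⧸ M)) : g⁻¹ * y * g ∈ H := by
  obtain ⟨k, hk, hyk⟩ := hy
  have hm : k⁻¹ * g ∈ M := QuotientGroup.eq.1 hk
  have := (mem_normalizer_iff''.1 (h.norm hm) (k⁻¹ * y * k)).1 hyk
  simpa [mul_assoc] using this

theorem mem_ker {x : G ⧸ M} {y : G} : y ∈ h.ker x ↔ InH H y x := by
  rw [ker, mem_cj]
  refine ⟨fun hy => ⟨x.out, x.out_eq, hy⟩, fun hy => ?_⟩
  exact h.inH_rep (g := x.out) (by rwa [show ((x.out : G) : G ⧸ M) = x from x.out_eq])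

theorem inH_one {y : G} : InH H y ((1 : G) : G ⧸ M) ↔ y ∈ H := by
  refine ⟨fun hy => by simpa using h.inH_rep hy, fun hy => ⟨1, rfl, by simpa using hy⟩⟩

theorem inH_conj {y : G} {x : G ⧸ M} (hy : InH H y x) (g : G) : InH H (g * y * g⁻¹) (g • x) := by
  obtain ⟨k, rfl, hk⟩ := hy
  refine ⟨g * k, rfl, ?_⟩
  rwa [show (g * k)⁻¹ * (g * y * g⁻¹) * (g * k) = k⁻¹ * y * k by group]

theorem inH_inv {y : G} {x : G ⧸ M} (hy : InH H y x) : InH H y⁻¹ x := by
  rw [← h.mem_ker] at hy ⊢
  exact inv_mem hy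

theorem inH_mul {y z : G} {x : G ⧸ M} (hy : InH H y x) (hz : InH H z x) : InH H (y * z) x := by
  rw [← h.mem_ker] at hy hz ⊢
  exact mul_mem hy hz

theorem fix_of_inH {y : G} {x : G ⧸ M} (hy : InH H y x) : y • x = x := by
  obtain ⟨k, rfl, hk⟩ := hy
  rw [TwoGroups.SE.smul_mk_eq_iff]
  exact h.hle hk

theorem inH_ti {y : G} {x z : G ⧸ M} (hx : InH H y x) (hz : InH H y z) (hne : x ≠ z) : y = 1 := by
  obtain ⟨k, rfl, hk⟩ := hx
  obtain ⟨l, rfl, hl⟩ := hz
  have := h.ti (k⁻¹ * l) (fun hm => hne (QuotientGroup.eq.2 hm)) (k⁻¹ * y * k) hk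
    (by rwa [show (k⁻¹ * l)⁻¹ * (k⁻¹ * y * k) * (k⁻¹ * l) = l⁻¹ * y * l by group])
  calc y = k * (k⁻¹ * y * k) * k⁻¹ := by group
    _ = 1 := by rw [this]; group

theorem inH_of_involution {t : G} {x : G ⧸ M} (ht : orderOf t = 2) (hx : t • x = x) : InH H t x := by
  obtain ⟨k, rfl⟩ := QuotientGroup.mk_surjective x
  exact ⟨k, rfl, h.involution_mem _ ((TwoGroups.SE.smul_mk_eq_iff t k).1 hx) ((TwoGroups.SE.orderOf_conj' k t).trans ht)⟩

theorem inH_of_commute {y c : G} {x : G ⧸ M} (hy : InH H y x) (hy1 : y ≠ 1) (hc : c * y = y * c) :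
    InH H c x := by
  obtain ⟨k, rfl, hk⟩ := hy
  refine ⟨k, rfl, h.cl _ hk (fun h0 => hy1 ?_) ?_⟩
  · calc y = k * (k⁻¹ * y * k) * k⁻¹ := by group
      _ = 1 := by rw [h0]; group
  · rw [mem_centralizer_singleton_iff]
    calc k⁻¹ * c * k * (k⁻¹ * y * k) = k⁻¹ * (c * y) * k := by group
      _ = k⁻¹ * (y * c) * k := by rw [hc]
      _ = _ := by group

theorem inH_conj_fix {y g : G} {x : G ⧸ M} (hy : InH H y x) (hg : g • x = x) :
    InH H (g * y * g⁻¹) x := hg ▸ h.inH_conj hy g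

variable [Finite G]

theorem exists_swap {x y : G ⧸ M} (hxy : x ≠ y) : ∃ u : G, orderOf u = 2 ∧ u • x = y ∧ u • y = x := by
  obtain ⟨a, ha, hax⟩ := TwoGroups.SE.exists_fixing h.se x
  have hpos : 0 < Nat.card {i : G // orderOf i = 2 ∧ i • x = y} := by
    rw [TwoGroups.SE.card_swapping h.se x y hxy, ← TwoGroups.SE.card_fixing x]
    haveI : Nonempty {b : G // orderOf b = 2 ∧ b • x = x} := ⟨⟨a, ha, hax⟩⟩
    exact Nat.card_pos
  obtain ⟨⟨u, hu, hux⟩⟩ := (Nat.card_pos_iff.1 hpos).1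
  exact ⟨u, hu, hux, by rw [← hux, ← mul_smul, involution_sq hu, one_smul]⟩

/-- The conjugate of `H` at `x` moves every other point. -/
theorem semireg {d : G} {x y : G ⧸ M} (hd : InH H d x) (hy : d • y = y) (hxy : x ≠ y) : d = 1 := by
  obtain ⟨u, hu, hux, huy⟩ := h.exists_swap hxy
  set d' := u * d * u⁻¹ with hd'
  have hd'y : InH H d' y := hux ▸ h.inH_conj hd u
  have hd'x : d' • x = x := by
    rw [hd', mul_smul, mul_smul, involution_inv hu, hux, hy, huy]
  have hinv : d'⁻¹ • x = x := inv_smul_eq_iff.2 hd'x.symm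
  have hc : d⁻¹ * d'⁻¹ * d * d' = 1 := by
    refine h.inH_ti (x := x) (z := y) ?_ ?_ hxy
    · have := h.inH_mul (h.inH_inv hd) (h.inH_conj_fix hd hinv)
      simpa [mul_assoc] using this
    · have := h.inH_mul (h.inH_conj_fix (h.inH_inv hd'y) (g := d⁻¹) (inv_smul_eq_iff.2 hy.symm)) hd'y
      simpa [mul_assoc] using this
  by_contra hd1
  have hcomm : d' * d = d * d' := by
    calc d' * d = d' * d * (d⁻¹ * d'⁻¹ * d * d') := by rw [hc, mul_one]
      _ = d * d' := by group
  have h1 : d' = 1 := h.inH_ti (h.inH_of_commute hd hd1 hcomm) hd'y hxy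
  exact hd1 (by rw [show d = u⁻¹ * d' * u by rw [hd']; group, h1]; group)

/-- The number of involutions of `H`. -/
noncomputable def invCount (h : Embedded M H) : ℕ := Nat.card {t : G // orderOf t = 2 ∧ t ∈ M}

/-- The stabiliser of two points. -/
def two (h : Embedded M H) (x y : G ⧸ M) : Subgroup G := MulAction.stabilizer G x ⊓ MulAction.stabilizer G y

omit [Finite G] in
theorem mem_two {x y : G ⧸ M} {d : G} : d ∈ h.two x y ↔ d • x = x ∧ d • y = y := by
  rw [two, mem_inf, MulAction.mem_stabilizer_iff, MulAction.mem_stabilizer_iff]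

theorem odd_of_two {d : G} {x y : G ⧸ M} (hxy : x ≠ y) (hx : d • x = x) (hy : d • y = y) : Odd (orderOf d) :=
  TwoGroups.SE.odd_orderOf_of_fixes h.se hxy hx hy

theorem card_two {x y : G ⧸ M} (hxy : x ≠ y) : Nat.card (h.two x y) = h.invCount := by
  obtain ⟨t, ht, htx⟩ := TwoGroups.SE.exists_fixing h.se x
  rw [invCount, ← TwoGroups.SE.card_fixing x]
  refine Nat.card_eq_of_bijective
    (fun d : h.two x y => (⟨(d : G) * t * (d : G)⁻¹, (orderOf_conj _ _).trans ht, ?_⟩ :
      {a : G // orderOf a = 2 ∧ a • x = x})) ⟨?_, ?_⟩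
  · have hdx := (h.mem_two.1 d.2).1
    rw [mul_smul, mul_smul, inv_smul_eq_iff.2 hdx.symm, htx, hdx]
  · rintro ⟨d, hd⟩ ⟨e, he⟩ hde
    have hde' : d * t * d⁻¹ = e * t * e⁻¹ := congrArg Subtype.val hde
    have hc : (e⁻¹ * d) * t = t * (e⁻¹ * d) := by
      calc (e⁻¹ * d) * t = e⁻¹ * (d * t * d⁻¹) * d := by group
        _ = e⁻¹ * (e * t * e⁻¹) * d := by rw [hde']
        _ = t * (e⁻¹ * d) := by group
    have hmem : e⁻¹ * d ∈ h.two x y := mul_mem (inv_mem he) hd
    have h1 := h.inH_of_commute (h.inH_of_involution ht htx) (Signalizer.involution_ne_one ht) hc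
    exact Subtype.ext (inv_mul_eq_one.1 (h.semireg h1 (h.mem_two.1 hmem).2 hxy)).symm
  · rintro ⟨a, ha, hax⟩
    obtain ⟨d, hdx, hdy, hda⟩ := TwoGroups.SE.exists_conj_fixing h.se hxy ht htx ha hax
    exact ⟨⟨d, h.mem_two.2 ⟨hdx, hdy⟩⟩, Subtype.ext hda⟩

/-- Swapping involutions invert the two-point stabiliser. -/
theorem swap_inverts {x y : G ⧸ M} (hxy : x ≠ y) {u : G} (hu : orderOf u = 2) (hux : u • x = y) {d : G}
    (hd : d ∈ h.two x y) : u * d * u⁻¹ = d⁻¹ := by
  have huy : u • y = x := by rw [← hux, ← mul_smul, involution_sq hu, one_smul]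
  let f : {i : G // orderOf i = 2 ∧ i • x = y} → h.two x y := fun j => ⟨u * j.1, h.mem_two.2
    ⟨by rw [mul_smul, j.2.2, huy], by rw [mul_smul, show j.1 • y = x from
      (congrArg (fun q => j.1 • q) j.2.2.symm).trans (by rw [← mul_smul, involution_sq j.2.1, one_smul]), hux]⟩⟩
  have hf : Function.Bijective f := by
    rw [Nat.bijective_iff_injective_and_card]
    refine ⟨fun i j hij => Subtype.ext (mul_left_cancel (congrArg Subtype.val hij)), ?_⟩
    rw [TwoGroups.SE.card_swapping h.se x y hxy, h.card_two hxy]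
    exact Nat.card_congr (Equiv.subtypeEquivRight fun t => Iff.rfl)
  obtain ⟨⟨j, hj, hjx⟩, hjd⟩ := hf.2 ⟨d, hd⟩
  have hjd' : u * j = d := congrArg Subtype.val hjd
  rw [← hjd', mul_inv_rev, involution_inv hu, involution_inv hj, ← mul_assoc, involution_sq hu, one_mul]

theorem two_comm {x y : G ⧸ M} (hxy : x ≠ y) {d e : G} (hd : d ∈ h.two x y) (he : e ∈ h.two x y) :
    d * e = e * d := by
  obtain ⟨u, hu, hux, -⟩ := h.exists_swap hxy
  have h1 := h.swap_inverts hxy hu hux (mul_mem hd he)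
  have h2 : u * (d * e) * u⁻¹ = (u * d * u⁻¹) * (u * e * u⁻¹) := by group
  rw [h2, h.swap_inverts hxy hu hux hd, h.swap_inverts hxy hu hux he, ← mul_inv_rev] at h1
  exact (inv_injective h1).symm

/-- A point stabiliser is the product of its kernel and any two-point stabiliser. -/
theorem decompose {x y : G ⧸ M} (hxy : x ≠ y) {g : G} (hg : g • x = x) :
    ∃ d ∈ h.two x y, InH H (d⁻¹ * g) x := by
  obtain ⟨t, ht, htx⟩ := TwoGroups.SE.exists_fixing h.se x
  obtain ⟨d, hdx, hdy, hdt⟩ := TwoGroups.SE.exists_conj_fixing h.se hxy ht htx ((orderOf_conj g t).trans ht)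
    (by rw [mul_smul, mul_smul, inv_smul_eq_iff.2 hg.symm, htx, hg])
  refine ⟨d, h.mem_two.2 ⟨hdx, hdy⟩, h.inH_of_commute (h.inH_of_involution ht htx)
    (Signalizer.involution_ne_one ht) ?_⟩
  calc d⁻¹ * g * t = d⁻¹ * (g * t * g⁻¹) * g := by group
    _ = d⁻¹ * (d * t * d⁻¹) * g := by rw [hdt]
    _ = t * (d⁻¹ * g) := by group

theorem card_ker (x : G ⧸ M) : Nat.card (h.ker x) = Nat.card H := card_cj _ _

theorem card_stabilizer {x y : G ⧸ M} (hxy : x ≠ y) :
    Nat.card (MulAction.stabilizer G x) = Nat.card H * h.invCount := by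
  rw [← h.card_two hxy, ← h.card_ker x, ← Nat.card_prod]
  refine (Nat.card_eq_of_bijective
    (fun p : h.ker x × h.two x y => (⟨(p.2 : G) * p.1, ?_⟩ : MulAction.stabilizer G x)) ⟨?_, ?_⟩).symm
  · rw [MulAction.mem_stabilizer_iff, mul_smul, h.fix_of_inH (h.mem_ker.1 p.1.2), (h.mem_two.1 p.2.2).1]
  · rintro ⟨⟨a, ha⟩, ⟨d, hd⟩⟩ ⟨⟨b, hb⟩, ⟨e, he⟩⟩ hpq
    have hpq' : d * a = e * b := congrArg Subtype.val hpq
    have h1 : e⁻¹ * d = b * a⁻¹ := by
      rw [inv_mul_eq_iff_eq_mul, ← mul_assoc, ← hpq']; group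
    have h2 : InH H (e⁻¹ * d) x := h1 ▸ h.mem_ker.1 (mul_mem hb (inv_mem ha))
    have h3 := h.semireg h2 (h.mem_two.1 (mul_mem (inv_mem he) hd)).2 hxy
    obtain rfl : e = d := inv_mul_eq_one.1 h3
    simp [mul_left_cancel hpq']
  · rintro ⟨g, hg⟩
    obtain ⟨d, hd, hd'⟩ := h.decompose hxy (MulAction.mem_stabilizer_iff.1 hg)
    exact ⟨(⟨_, h.mem_ker.2 hd'⟩, ⟨d, hd⟩), Subtype.ext (mul_inv_cancel_left d g)⟩

omit h in
theorem card_stabilizer_eq : Nat.card (MulAction.stabilizer (G) ((1 : G) : G ⧸ M)) = Nat.card M := by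
  rw [show MulAction.stabilizer G ((1 : G) : G ⧸ M) = M from MulAction.stabilizer_quotient M]

/-- A nontrivial element fixing two points fixes only these. -/
theorem fix_two (hi : 2 ≤ h.invCount) {d : G} (hd1 : d ≠ 1) {x y z : G ⧸ M} (hxy : x ≠ y) (hx : d • x = x)
    (hy : d • y = y) (hz : d • z = z) : z = x ∨ z = y := by
  classical
  set F := {p : G ⧸ M // d • p = p}
  have hodd : Odd (orderOf d) := h.odd_of_two hxy hx hy
  have hnot : ∀ {u : G}, orderOf u = 2 → u * d * u⁻¹ = d⁻¹ → ∀ p : G ⧸ M, d • p = p → u • p ≠ p := by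
    intro u hu hinv p hp hup
    obtain ⟨q, hq, hqp⟩ : ∃ q, d • q = q ∧ q ≠ p := by
      by_cases hxp : x = p
      · exact ⟨y, hy, fun hyp => hxy (hxp.trans hyp.symm)⟩
      · exact ⟨x, hx, hxp⟩
    have hU := h.inH_of_involution hu hup
    have h1 := h.inH_mul hU (h.inH_conj_fix (h.inH_inv hU) hp)
    have h2 : u * (d * u⁻¹ * d⁻¹) = d⁻¹ * d⁻¹ := by
      calc u * (d * u⁻¹ * d⁻¹) = u * d * u⁻¹ * d⁻¹ := by group
        _ = _ := by rw [hinv]
    rw [h2] at h1
    have hdd := h.semireg h1 (y := q) (by rw [mul_smul, inv_smul_eq_iff.2 hq.symm, inv_smul_eq_iff.2 hq.symm])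
      (Ne.symm hqp)
    have : orderOf d ∣ 2 := orderOf_dvd_of_pow_eq_one (by
      rw [pow_two, ← inv_inv (d * d), mul_inv_rev, hdd, inv_one])
    rcases (Nat.dvd_prime Nat.prime_two).1 this with h0 | h0
    · exact hd1 (orderOf_eq_one_iff.1 h0)
    · rw [h0] at hodd; exact absurd hodd (by decide)
  obtain ⟨u, hu, hux, huy⟩ := h.exists_swap hxy
  have hud : u * d * u⁻¹ = d⁻¹ := h.swap_inverts hxy hu hux (h.mem_two.2 ⟨hx, hy⟩)
  set C := centralizer ({d} : Set G) with hC
  have hmemC : ∀ {c}, c ∈ C ↔ c * d = d * c := fun {c} => mem_centralizer_singleton_iff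
  have hCu : ∀ c ∈ C, u * c * u⁻¹ ∈ C := by
    intro c hc
    rw [hmemC] at hc ⊢
    have h1 : u * d⁻¹ * u⁻¹ = d := by
      have := congrArg Inv.inv hud
      simpa [mul_assoc] using this
    calc u * c * u⁻¹ * d = u * c * u⁻¹ * (u * d⁻¹ * u⁻¹) := by rw [h1]
      _ = u * (c * d⁻¹) * u⁻¹ := by group
      _ = u * (d⁻¹ * c) * u⁻¹ := by rw [(Commute.inv_right (show Commute c d from hc)).eq]
      _ = (u * d⁻¹ * u⁻¹) * (u * c * u⁻¹) := by group
      _ = d * (u * c * u⁻¹) := by rw [h1]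
  have hCfree : ∀ c ∈ C, u * c * u⁻¹ = c → c = 1 := by
    intro c hc hcu
    rw [hmemC] at hc
    by_contra hc1
    obtain ⟨p, hp⟩ := TwoGroups.SE.exists_fixed h.se hu
    have hcp : InH H c p := h.inH_of_commute (h.inH_of_involution hu hp) (Signalizer.involution_ne_one hu)
      (by calc c * u = u * c * u⁻¹ * u := by rw [hcu]
            _ = u * c := by group)
    have hdp : d • p = p := by
      by_contra hne
      refine hc1 (h.semireg hcp (y := d • p) ?_ (Ne.symm hne))
      rw [← mul_smul, hc, mul_smul, h.fix_of_inH hcp]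
    exact hnot hu hud p hdp hp
  have hCinv : ∀ c ∈ C, u * c * u⁻¹ = c⁻¹ := by
    let f : C → C := fun y => ⟨(y : G)⁻¹ * (u * y * u⁻¹), mul_mem (inv_mem y.2) (hCu y y.2)⟩
    have hf : Function.Injective f := fun y y' e => Subtype.ext (by
      have e' : (y : G)⁻¹ * (u * y * u⁻¹) = (y' : G)⁻¹ * (u * y' * u⁻¹) := congrArg Subtype.val e
      refine (mul_inv_eq_one.1 (hCfree _ (mul_mem y'.2 (inv_mem y.2)) ?_)).symm
      calc u * ((y' : G) * (y : G)⁻¹) * u⁻¹
          = (y' : G) * ((y' : G)⁻¹ * (u * y' * u⁻¹)) * ((y : G) * ((y : G)⁻¹ * (u * y * u⁻¹)))⁻¹ := by group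
        _ = (y' : G) * (y : G)⁻¹ := by rw [← e']; group)
    intro c hc
    obtain ⟨y, hy⟩ := (Finite.injective_iff_surjective.1 hf) ⟨c, hc⟩
    have hy' : c = (y : G)⁻¹ * (u * y * u⁻¹) := (congrArg Subtype.val hy).symm
    have hii : u * u * (y : G) * (u * u)⁻¹ = y := by rw [involution_sq hu, inv_one, mul_one, one_mul]
    rw [hy']
    calc u * ((y : G)⁻¹ * (u * y * u⁻¹)) * u⁻¹ = u * (y : G)⁻¹ * u⁻¹ * (u * u * y * (u * u)⁻¹) := by group
      _ = ((y : G)⁻¹ * (u * y * u⁻¹))⁻¹ := by rw [hii]; group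
  have hCcomm : ∀ a ∈ C, ∀ b ∈ C, a * b = b * a := by
    intro a ha b hb
    have h1 := hCinv _ (mul_mem ha hb)
    rw [show u * (a * b) * u⁻¹ = (u * a * u⁻¹) * (u * b * u⁻¹) by group, hCinv a ha, hCinv b hb,
      ← mul_inv_rev] at h1
    exact (inv_injective h1).symm
  have hd_inC : d ∈ C := hmemC.2 rfl
  -- the inverting involutions are the elements `u * c`
  have hJ : ∀ j : G, (orderOf j = 2 ∧ j * d * j⁻¹ = d⁻¹) ↔ u * j ∈ C := by
    intro j
    constructor
    · rintro ⟨hj, hjd⟩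
      rw [hmemC]
      calc u * j * d = u * (j * d * j⁻¹) * j := by group
        _ = u * d⁻¹ * j := by rw [hjd]
        _ = (u * d * u⁻¹)⁻¹ * u * j := by group
        _ = d * (u * j) := by rw [hud, inv_inv, mul_assoc]
    · intro hc
      have e1 : j = u * (u * j) := by rw [← mul_assoc, involution_sq hu, one_mul]
      have hsq : j * j = 1 := by
        calc j * j = u * (u * j) * u⁻¹ * (u * j) := by
              rw [involution_inv hu]; conv_lhs => rw [e1]
              rw [mul_assoc (u * (u * j)) u, ← mul_assoc u u, involution_sq hu, one_mul]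
          _ = 1 := by rw [hCinv _ hc, inv_mul_cancel]
      have hjd : j * d * j⁻¹ = d⁻¹ := by
        rw [hmemC] at hc
        calc j * d * j⁻¹ = u⁻¹ * (u * j * d) * j⁻¹ := by group
          _ = u⁻¹ * (d * (u * j)) * j⁻¹ := by rw [hc]
          _ = u⁻¹ * d * u := by group
          _ = d⁻¹ := by rw [involution_inv hu]; rwa [involution_inv hu] at hud
      refine ⟨orderOf_eq_two_of (fun hj1 => ?_) hsq, hjd⟩
      rw [hj1, one_mul, inv_one, mul_one] at hjd
      have : orderOf d ∣ 2 := orderOf_dvd_of_pow_eq_one (by rw [pow_two]; nth_rw 2 [hjd]; rw [mul_inv_cancel])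
      rcases (Nat.dvd_prime Nat.prime_two).1 this with h0 | h0
      · exact hd1 (orderOf_eq_one_iff.1 h0)
      · rw [h0] at hodd; exact absurd hodd (by decide)
  -- count
  have hcount : Nat.card C * Nat.card F = h.invCount * (Nat.card F * (Nat.card F - 1)) := by
    haveI : Fintype F := Fintype.ofFinite F
    have h1 : Nat.card {p : F × F // p.1 ≠ p.2} = Nat.card F * (Nat.card F - 1) := by
      rw [Nat.card_congr (Equiv.subtypeProdEquivSigmaSubtype fun a b : F => a ≠ b), Nat.card_sigma,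
        Finset.sum_congr rfl (fun a _ => show Nat.card {b : F // a ≠ b} = Nat.card F - 1 by
          simp [Nat.card_eq_fintype_card, Fintype.card_subtype_compl]),
        Finset.sum_const, Finset.card_univ, smul_eq_mul, Nat.card_eq_fintype_card]
    haveI : Fintype {p : F × F // p.1 ≠ p.2} := Fintype.ofFinite _
    have h2 : Nat.card (Σ p : {p : F × F // p.1 ≠ p.2}, {j : G // orderOf j = 2 ∧ j • p.1.1.1 = p.1.2.1}) =
        Nat.card F * (Nat.card F - 1) * h.invCount := by
      rw [Nat.card_sigma, Finset.sum_congr rfl (fun p _ =>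
        show Nat.card {j : G // orderOf j = 2 ∧ j • p.1.1.1 = p.1.2.1} = h.invCount from
          TwoGroups.SE.card_swapping h.se _ _ (fun e => p.2 (Subtype.ext e))),
        Finset.sum_const, Finset.card_univ, smul_eq_mul, ← Nat.card_eq_fintype_card, h1]
    rw [mul_comm h.invCount, ← h2, ← Nat.card_prod]
    refine (Nat.card_eq_of_bijective (fun q : (Σ p : {p : F × F // p.1 ≠ p.2},
        {j : G // orderOf j = 2 ∧ j • p.1.1.1 = p.1.2.1}) =>
      ((⟨u * q.2.1, (hJ _).1 ⟨q.2.2.1, h.swap_inverts (fun e => q.1.2 (Subtype.ext e)) q.2.2.1 q.2.2.2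
        (h.mem_two.2 ⟨q.1.1.1.2, q.1.1.2.2⟩)⟩⟩, q.1.1.1) : C × F)) ⟨?_, ?_⟩).symm
    · rintro ⟨⟨⟨a, b⟩, hab⟩, j, hj⟩ ⟨⟨⟨a', b'⟩, hab'⟩, j', hj'⟩ e
      have e1 : j = j' := mul_left_cancel (congrArg (fun r => (r.1 : G)) e)
      have e2 : a = a' := congrArg Prod.snd e
      subst e1 e2
      obtain rfl : b = b' := Subtype.ext (hj.2.symm.trans hj'.2)
      rfl
    · rintro ⟨⟨c, hc⟩, p⟩
      have hjc : u * (u * c) ∈ C := by rwa [← mul_assoc, involution_sq hu, one_mul]
      obtain ⟨ho, hjd⟩ := (hJ (u * c)).2 hjc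
      have hp' : d • ((u * c) • p.1) = (u * c) • p.1 := by
        have hconj : d * (u * c) = (u * c) * d⁻¹ := by
          calc d * (u * c) = ((u * c) * d * (u * c)⁻¹)⁻¹ * (u * c) := by rw [hjd, inv_inv]
            _ = (u * c) * d⁻¹ := by group
        rw [← mul_smul, hconj, mul_smul, inv_smul_eq_iff.2 p.2.symm]
      refine ⟨⟨⟨(p, ⟨_, hp'⟩), fun e => hnot ho hjd p.1 p.2 (congrArg Subtype.val e).symm⟩,
        u * c, ho, rfl⟩, ?_⟩
      simp [← mul_assoc, involution_sq hu]
  haveI : Nonempty F := ⟨⟨x, hx⟩⟩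
  have hk : Nat.card C = h.invCount * (Nat.card F - 1) := by
    refine Nat.eq_of_mul_eq_mul_right (Nat.card_pos (α := F)) ?_
    rw [hcount]
    ring
  -- orbits of C on the fixed points
  have hperm : ∀ c ∈ C, ∀ p : G ⧸ M, d • p = p → d • (c • p) = c • p := fun c hc p hp => by
    rw [← mul_smul, ← hmemC.1 hc, mul_smul, hp]
  have horb : ∀ p : G ⧸ M, d • p = p → Nat.card (MulAction.orbit C p) = Nat.card F - 1 := by
    intro p hp
    obtain ⟨q, hq, hqp⟩ : ∃ q, d • q = q ∧ p ≠ q := by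
      by_cases hxp : p = x
      · exact ⟨y, hy, fun e => hxy (hxp.symm.trans e)⟩
      · exact ⟨x, hx, hxp⟩
    obtain ⟨w, hw, hwp, -⟩ := h.exists_swap hqp
    have hwd := h.swap_inverts hqp hw hwp (h.mem_two.2 ⟨hp, hq⟩)
    have hwC : u * w ∈ C := (hJ w).1 ⟨hw, hwd⟩
    have hwinv : ∀ c ∈ C, w * c * w⁻¹ = c⁻¹ := by
      intro c hc
      calc w * c * w⁻¹ = u⁻¹ * ((u * w) * c * (u * w)⁻¹) * u := by group
        _ = u⁻¹ * c * u := by rw [hCcomm _ hwC _ hc, mul_inv_cancel_right]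
        _ = c⁻¹ := by
          have := hCinv c hc
          rw [involution_inv hu] at this ⊢
          exact this
    have hstab : (MulAction.stabilizer C p).map C.subtype = h.two p q := by
      ext c
      constructor
      · rintro ⟨⟨c, hc⟩, hcp, rfl⟩
        have hcp' : c • p = p := hcp
        show c ∈ h.two p q
        obtain ⟨e, he, hek⟩ := h.decompose hqp hcp'
        have heC : e ∈ C := hmemC.2 (h.two_comm hqp he (h.mem_two.2 ⟨hp, hq⟩))
        have h1 : InH H (w * (e⁻¹ * c) * w⁻¹) q := hwp ▸ h.inH_conj hek w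
        rw [hwinv _ (mul_mem (inv_mem heC) hc)] at h1
        have h2 := h.inH_ti (h.inH_inv hek) h1 hqp
        rw [inv_eq_one, inv_mul_eq_one] at h2
        exact h2 ▸ he
      · intro hc
        exact ⟨⟨c, hmemC.2 (h.two_comm hqp hc (h.mem_two.2 ⟨hp, hq⟩))⟩, (h.mem_two.1 hc).1, rfl⟩
    have h3 : Nat.card (MulAction.stabilizer C p) = h.invCount := by
      rw [← h.card_two hqp, ← hstab]
      exact Nat.card_congr (equivMapOfInjective _ _ Subtype.val_injective).toEquiv
    have h4 := (MulAction.stabilizer C p).card_mul_index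
    rw [MulAction.index_stabilizer, h3, hk] at h4
    rw [Nat.card_coe_set_eq]
    exact Nat.eq_of_mul_eq_mul_left (by omega) h4
  have hsub : MulAction.orbit C x ⊆ {p | d • p = p} := by
    rintro _ ⟨c, rfl⟩
    exact hperm c c.2 x hx
  by_contra hcon
  push Not at hcon
  have hF3 : 3 ≤ Nat.card F := by
    haveI : Fintype F := Fintype.ofFinite F
    rw [Nat.card_eq_fintype_card]
    exact Fintype.two_lt_card_iff.2 ⟨⟨x, hx⟩, ⟨y, hy⟩, ⟨z, hz⟩, fun e => hxy (congrArg Subtype.val e),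
      fun e => hcon.1 (congrArg Subtype.val e).symm, fun e => hcon.2 (congrArg Subtype.val e).symm⟩
  obtain ⟨p, hp, hpo⟩ : ∃ p, d • p = p ∧ p ∉ MulAction.orbit C x := by
    by_contra hno
    push Not at hno
    have : MulAction.orbit C x = {p | d • p = p} := Set.Subset.antisymm hsub hno
    have h1 := horb x hx
    rw [this] at h1
    change Nat.card F = _ at h1
    omega
  have hdis : Disjoint (MulAction.orbit C x) (MulAction.orbit C p) := by
    rw [Set.disjoint_left]
    intro a ha ha'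
    exact hpo (by rw [← MulAction.orbit_eq_iff.2 ha, MulAction.orbit_eq_iff.2 ha']; exact MulAction.mem_orbit_self p)
  have hsubp : MulAction.orbit C p ⊆ {p | d • p = p} := by
    rintro _ ⟨c, rfl⟩
    exact hperm c c.2 p hp
  have hle := Set.ncard_le_ncard (Set.union_subset hsub hsubp) (Set.toFinite _)
  rw [Set.ncard_union_eq hdis (Set.toFinite _) (Set.toFinite _)] at hle
  rw [← Nat.card_coe_set_eq, ← Nat.card_coe_set_eq, ← Nat.card_coe_set_eq, horb x hx, horb p hp] at hle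
  change _ ≤ Nat.card F at hle
  omega

theorem card_points (hi : 2 ≤ h.invCount) : Nat.card (G ⧸ M) = Nat.card H + 1 := by
  classical
  set o : G ⧸ M := ((1 : G) : G ⧸ M)
  obtain ⟨g, hg⟩ : ∃ g : G, g ∉ M := by
    by_contra hno
    push Not at hno
    exact h.se.1 (eq_top_iff.2 fun g _ => hno g)
  have hgo : (g : G ⧸ M) ≠ o := fun e => hg (by simpa using (QuotientGroup.eq.1 e.symm))
  have hker : h.ker o ≤ MulAction.stabilizer G o := fun a ha =>
    MulAction.mem_stabilizer_iff.2 (h.fix_of_inH (h.mem_ker.1 ha))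
  -- the kernel acts freely on the other points
  have hlow : Nat.card H ≤ Nat.card {p : G ⧸ M // p ≠ o} := by
    rw [← h.card_ker o]
    refine Nat.card_le_card_of_injective (fun a : h.ker o => (⟨(a : G) • (g : G ⧸ M), fun e => hgo ?_⟩ :
      {p : G ⧸ M // p ≠ o})) ?_
    · exact smul_left_cancel _ (e.trans (h.fix_of_inH (h.mem_ker.1 a.2)).symm)
    · rintro ⟨a, ha⟩ ⟨b, hb⟩ e
      have e' : a • (g : G ⧸ M) = b • (g : G ⧸ M) := congrArg Subtype.val e
      refine Subtype.ext (inv_mul_eq_one.1 (h.semireg (h.mem_ker.1 (mul_mem (inv_mem hb) ha)) ?_ (Ne.symm hgo))).symm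
      rw [mul_smul, e', inv_smul_smul]
  -- the two-point stabilisers are disjoint
  have hupp : Nat.card H + Nat.card {p : G ⧸ M // p ≠ o} * (h.invCount - 1) ≤ Nat.card H * h.invCount := by
    rw [← h.card_stabilizer (Ne.symm hgo)]
    haveI : Fintype {p : G ⧸ M // p ≠ o} := Fintype.ofFinite _
    let S : {p : G ⧸ M // p ≠ o} → Type _ := fun p => {d : h.two o p.1 // (d : G) ≠ 1}
    have hS : Nat.card (Σ p, S p) = Nat.card {p : G ⧸ M // p ≠ o} * (h.invCount - 1) := by
      rw [Nat.card_sigma, Finset.sum_congr rfl (fun p _ => show Nat.card (S p) = h.invCount - 1 by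
        rw [← h.card_two (Ne.symm p.2)]
        haveI : Fintype (h.two o p.1) := Fintype.ofFinite _
        simp only [S, Nat.card_eq_fintype_card]
        rw [Fintype.card_subtype_compl]
        simp), Finset.sum_const, Finset.card_univ, smul_eq_mul, Nat.card_eq_fintype_card]
    rw [← h.card_ker o, ← hS, ← Nat.card_sum]
    refine Nat.card_le_card_of_injective (fun q : h.ker o ⊕ Σ p, S p =>
      Sum.elim (fun a => (⟨a.1, hker a.2⟩ : MulAction.stabilizer G o))
        (fun q => ⟨q.2.1.1, (mem_inf.1 q.2.1.2).1⟩) q) ?_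
    rintro (a | ⟨p, a, ha1⟩) (b | ⟨r, b, hb1⟩) e <;>
      have e' := congrArg Subtype.val e <;> simp only [Sum.elim_inl, Sum.elim_inr] at e'
    · exact congrArg Sum.inl (Subtype.ext e')
    · refine absurd ?_ hb1
      exact h.semireg (x := o) (e' ▸ h.mem_ker.1 a.2) (h.mem_two.1 b.2).2 (Ne.symm r.2)
    · refine absurd ?_ ha1
      exact h.semireg (x := o) (e' ▸ h.mem_ker.1 b.2) (h.mem_two.1 a.2).2 (Ne.symm p.2)
    · obtain rfl : p = r := by
        refine Subtype.ext ?_
        have hbr : (a : G) • r.1 = r.1 := by rw [e']; exact (h.mem_two.1 b.2).2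
        rcases h.fix_two hi ha1 (Ne.symm p.2) (h.mem_two.1 a.2).1 (h.mem_two.1 a.2).2 hbr with e | e
        · exact absurd e r.2
        · exact e.symm
      exact congrArg Sum.inr (Sigma.ext rfl (heq_of_eq (Subtype.ext (Subtype.ext e'))))
  have hn : Nat.card {p : G ⧸ M // p ≠ o} = Nat.card (G ⧸ M) - 1 := by
    haveI := Fintype.ofFinite (G ⧸ M)
    simp [Nat.card_eq_fintype_card, Fintype.card_subtype_compl]
  have hpos : 0 < Nat.card (G ⧸ M) := Nat.card_pos
  obtain ⟨i, hi'⟩ := Nat.exists_eq_add_of_le hi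
  rw [hi'] at hupp
  have hi2 : 2 + i - 1 = i + 1 := by omega
  rw [hi2] at hupp
  have hle : Nat.card {p : G ⧸ M // p ≠ o} * (i + 1) ≤ Nat.card H * (i + 1) := by nlinarith
  have := Nat.le_of_mul_le_mul_right hle (Nat.succ_pos i)
  omega

/-- The kernel at a point is transitive on the other points. -/
theorem exists_ker (hi : 2 ≤ h.invCount) {x y z : G ⧸ M} (hy : y ≠ x) (hz : z ≠ x) :
    ∃ a, InH H a x ∧ a • y = z := by
  let f : h.ker x → {p : G ⧸ M // p ≠ x} := fun a => ⟨(a : G) • y, fun e => hy (by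
    rw [← inv_smul_smul (a : G) y, e]
    exact h.fix_of_inH (h.mem_ker.1 (inv_mem a.2)))⟩
  have hf : Function.Bijective f := by
    rw [Nat.bijective_iff_injective_and_card]
    refine ⟨fun a b e => ?_, ?_⟩
    · have e' : (a : G) • y = (b : G) • y := congrArg Subtype.val e
      refine Subtype.ext (inv_mul_eq_one.1 (h.semireg (h.mem_ker.1 (mul_mem (inv_mem b.2) a.2)) ?_ (Ne.symm hy))).symm
      rw [mul_smul, e', inv_smul_smul]
    · haveI := Fintype.ofFinite (G ⧸ M)
      classical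
      rw [h.card_ker, show Nat.card {p : G ⧸ M // p ≠ x} = Nat.card (G ⧸ M) - 1 by
        simp [Nat.card_eq_fintype_card, Fintype.card_subtype_compl], h.card_points hi]
      omega
  obtain ⟨a, ha⟩ := hf.2 ⟨z, hz⟩
  exact ⟨a, h.mem_ker.1 a.2, congrArg Subtype.val ha⟩

theorem two_transitive (hi : 2 ≤ h.invCount) : MulAction.IsMultiplyPretransitive G (G ⧸ M) 2 := by
  rw [MulAction.is_two_pretransitive_iff]
  intro a b c d hab hcd
  obtain ⟨g, hg⟩ := MulAction.exists_smul_eq G a c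
  obtain ⟨k, hk, hkb⟩ := h.exists_ker hi (x := c) (y := g • b) (z := d)
    (fun e => hab (smul_left_cancel g (hg.trans e.symm))) (Ne.symm hcd)
  exact ⟨k * g, by rw [mul_smul, hg, h.fix_of_inH hk], by rw [mul_smul, hkb]⟩

theorem card_group (hi : 2 ≤ h.invCount) : Nat.card G = (Nat.card H + 1) * (Nat.card H * h.invCount) := by
  obtain ⟨g, hg⟩ : ∃ g : G, g ∉ M := by
    by_contra hno
    push Not at hno
    exact h.se.1 (eq_top_iff.2 fun g _ => hno g)
  have hgo : ((1 : G) : G ⧸ M) ≠ (g : G ⧸ M) := fun e => hg (by simpa using (QuotientGroup.eq.1 e))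
  rw [M.card_eq_card_quotient_mul_card_subgroup, h.card_points hi, ← h.card_stabilizer hgo,
    card_stabilizer_eq]

/-- If `H` contains commuting involutions, this is a Zassenhaus group. -/
theorem isZassenhaus (hi : 2 ≤ h.invCount) (hcomm : ∃ s t : G, s ∈ M ∧ t ∈ M ∧ orderOf s = 2 ∧ orderOf t = 2 ∧
    s ≠ t ∧ s * t = t * s) (hfaith : FaithfulSMul G (G ⧸ M)) : Cfsg.IsZassenhausGroup G (G ⧸ M) := by
  obtain ⟨g, hg⟩ : ∃ g : G, g ∉ M := by
    by_contra hno
    push Not at hno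
    exact h.se.1 (eq_top_iff.2 fun g _ => hno g)
  have hgo : ((1 : G) : G ⧸ M) ≠ (g : G ⧸ M) := fun e => hg (by simpa using (QuotientGroup.eq.1 e))
  refine ⟨hfaith, h.two_transitive hi, ?_, ?_, ?_⟩
  · intro d a b c hab hbc hac ha hb hc
    by_contra hd
    rcases h.fix_two hi hd hab ha hb hc with e | e
    · exact hac e.symm
    · exact hbc e.symm
  · haveI : Nontrivial (h.two ((1 : G) : G ⧸ M) (g : G ⧸ M)) :=
      Finite.one_lt_card_iff_nontrivial.1 (by rw [h.card_two hgo]; omega)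
    obtain ⟨⟨d, hd⟩, hd1⟩ := exists_ne (1 : h.two ((1 : G) : G ⧸ M) (g : G ⧸ M))
    exact ⟨d, fun e => hd1 (Subtype.ext e), _, _, hgo, (h.mem_two.1 hd).1, (h.mem_two.1 hd).2⟩
  · intro N hN htr
    haveI := hN
    by_contra hno
    push Not at hno
    obtain ⟨s, t, hsM, htM, hs, ht, hst, hc⟩ := hcomm
    set o : G ⧸ M := ((1 : G) : G ⧸ M)
    have hfix : ∀ a ∈ M, a • o = o := fun a ha =>
      (TwoGroups.SE.smul_mk_eq_iff a 1).2 (by simpa using ha)
    have hinvN : ∀ r, r ∈ M → orderOf r = 2 → ∀ m ∈ N, r * m * r⁻¹ = m⁻¹ := by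
      intro r hrM hr
      let f : N → N := fun y => ⟨(y : G)⁻¹ * (r * y * r⁻¹), mul_mem (inv_mem y.2) (hN.conj_mem _ y.2 r)⟩
      have hfree : ∀ m ∈ N, r * m * r⁻¹ = m → m = 1 := by
        intro m hm hrm
        have h1 : r • (m • o) = m • o := by
          calc r • (m • o) = (r * m * r⁻¹) • r • o := by rw [← mul_smul, ← mul_smul]; group
            _ = m • o := by rw [hrm, hfix r hrM]
        have h2 : m • o = o := TwoGroups.SE.fixed_unique h.se hr h1 (hfix r hrM)
        have : (⟨m, hm⟩ : N) ∈ MulAction.stabilizer N o := h2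
        exact congrArg Subtype.val (mem_bot.1 ((hno o).le this))
      have hf : Function.Injective f := fun y y' e => Subtype.ext (by
        have e' : (y : G)⁻¹ * (r * y * r⁻¹) = (y' : G)⁻¹ * (r * y' * r⁻¹) := congrArg Subtype.val e
        refine (mul_inv_eq_one.1 (hfree _ (mul_mem y'.2 (inv_mem y.2)) ?_)).symm
        calc r * ((y' : G) * (y : G)⁻¹) * r⁻¹
            = (y' : G) * ((y' : G)⁻¹ * (r * y' * r⁻¹)) * ((y : G) * ((y : G)⁻¹ * (r * y * r⁻¹)))⁻¹ := by group
          _ = (y' : G) * (y : G)⁻¹ := by rw [← e']; group)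
      intro x hx
      obtain ⟨y, hy⟩ := (Finite.injective_iff_surjective.1 hf) ⟨x, hx⟩
      have hy' : x = (y : G)⁻¹ * (r * y * r⁻¹) := (congrArg Subtype.val hy).symm
      have hii : r * r * (y : G) * (r * r)⁻¹ = y := by rw [involution_sq hr, inv_one, mul_one, one_mul]
      rw [hy']
      calc r * ((y : G)⁻¹ * (r * y * r⁻¹)) * r⁻¹ = r * (y : G)⁻¹ * r⁻¹ * (r * r * y * (r * r)⁻¹) := by group
        _ = ((y : G)⁻¹ * (r * y * r⁻¹))⁻¹ := by rw [hii]; group
    obtain ⟨⟨m, hm⟩, hmo⟩ := htr.exists_smul_eq o (g : G ⧸ M)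
    have hmo' : m • o = (g : G ⧸ M) := hmo
    have hm1 : m ≠ 1 := fun e => hgo (by rw [← hmo', e, one_smul])
    have hst2 : orderOf (s * t) = 2 := orderOf_eq_two_of
      (fun e => hst (by rw [eq_inv_of_mul_eq_one_left e, involution_inv ht]))
      (by
        calc s * t * (s * t) = s * (t * s) * t := by group
          _ = s * (s * t) * t := by rw [hc]
          _ = (s * s) * (t * t) := by group
          _ = 1 := by rw [involution_sq hs, involution_sq ht, one_mul])
    have h1 := hinvN _ (mul_mem hsM htM) hst2 m hm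
    rw [show s * t * m * (s * t)⁻¹ = s * (t * m * t⁻¹) * s⁻¹ by group, hinvN t htM ht m hm,
      hinvN s hsM hs _ (inv_mem hm), inv_inv] at h1
    have hm2 : orderOf m = 2 := orderOf_eq_two_of hm1 (by nth_rw 2 [h1]; rw [mul_inv_cancel])
    obtain ⟨p, hp⟩ := TwoGroups.SE.exists_fixed h.se hm2
    have : (⟨m, hm⟩ : N) ∈ MulAction.stabilizer N p := hp
    exact hm1 (congrArg Subtype.val (mem_bot.1 ((hno p).le this)))

end Embedded

end CfsgLib.CIT
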