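import Cfsg.Agent.Lib.CIT.Basic
import Cfsg.Agent.Lib.Core.Cores
import Cfsg.Prelude.Def_Transfer

/-!
# Sylow 2-subgroups of subgroups, 2-cores and the Thompson subgroup, inside an ambient group
-/

set_option autoImplicit false
set_option linter.all false

namespace CfsgLib.CIT

open Subgroup

variable {G : Type*} [Group G]

/-- Conjugate of a subgroup. -/
def cj (g : G) (H : Subgroup G) : Subgroup G := H.map (MulAut.conj g).toMonoidHom

theorem mem_cj {g x : G} {H : Subgroup G} : x ∈ cj g H ↔ g⁻¹ * x * g ∈ H := by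
  constructor
  · rintro ⟨y, hy, rfl⟩
    show g⁻¹ * (g * y * g⁻¹) * g ∈ H
    simpa [mul_assoc] using hy
  · intro h
    exact ⟨_, h, by show g * (g⁻¹ * x * g) * g⁻¹ = x; group⟩

theorem conj_mem_cj {g x : G} {H : Subgroup G} : g * x * g⁻¹ ∈ cj g H ↔ x ∈ H := by
  rw [mem_cj, show g⁻¹ * (g * x * g⁻¹) * g = x by group]

theorem cj_mul (a b : G) (H : Subgroup G) : cj (a * b) H = cj a (cj b H) := by
  ext x
  rw [mem_cj, mem_cj, mem_cj, show (a * b)⁻¹ * x * (a * b) = b⁻¹ * (a⁻¹ * x * a) * b by group]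

theorem cj_one (H : Subgroup G) : cj 1 H = H := by
  ext x
  rw [mem_cj]
  simp

theorem cj_inv_cj (g : G) (H : Subgroup G) : cj g⁻¹ (cj g H) = H := by
  rw [← cj_mul, inv_mul_cancel, cj_one]

theorem cj_cj_inv (g : G) (H : Subgroup G) : cj g (cj g⁻¹ H) = H := by
  rw [← cj_mul, mul_inv_cancel, cj_one]

theorem cj_mono {g : G} {H K : Subgroup G} (h : H ≤ K) : cj g H ≤ cj g K := map_mono h

theorem cj_le_iff {g : G} {H K : Subgroup G} : cj g H ≤ K ↔ H ≤ cj g⁻¹ K :=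
  ⟨fun h => by simpa only [cj_inv_cj] using cj_mono (g := g⁻¹) h,
    fun h => by simpa only [cj_cj_inv] using cj_mono (g := g) h⟩

theorem card_cj (g : G) (H : Subgroup G) : Nat.card (cj g H) = Nat.card H :=
  Nat.card_congr (H.equivMapOfInjective _ (MulAut.conj g).injective).toEquiv.symm

theorem isPGroup_cj {g : G} {H : Subgroup G} (h : IsPGroup 2 H) : IsPGroup 2 (cj g H) :=
  h.map _

theorem mem_normalizer_iff_cj {g : G} {H : Subgroup G} : g ∈ normalizer (H : Set G) ↔ cj g H = H := by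
  rw [mem_normalizer_iff]
  constructor
  · intro h
    ext x
    rw [mem_cj, h, show g * (g⁻¹ * x * g) * g⁻¹ = x by group]
  · intro h x
    rw [← conj_mem_cj (g := g) (H := H), h]

theorem normalizer_cj (g : G) (H : Subgroup G) :
    normalizer ((cj g H : Subgroup G) : Set G) = cj g (normalizer (H : Set G)) := by
  ext x
  rw [mem_normalizer_iff_cj, mem_cj, mem_normalizer_iff_cj, ← cj_mul]
  constructor
  · intro h
    rw [mul_assoc g⁻¹ x g, cj_mul, h, cj_inv_cj]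
  · intro h
    have h1 : cj g (cj (g⁻¹ * x * g) H) = cj g H := by rw [h]
    rwa [← cj_mul, show g * (g⁻¹ * x * g) = x * g by group] at h1

/-- `T` is a Sylow 2-subgroup of `X`. -/
def IsSyl (T X : Subgroup G) : Prop :=
  T ≤ X ∧ IsPGroup 2 T ∧ ∀ P : Subgroup G, T ≤ P → P ≤ X → IsPGroup 2 P → P = T

theorem IsSyl.cj {T X : Subgroup G} (h : IsSyl T X) (g : G) : IsSyl (cj g T) (cj g X) := by
  refine ⟨cj_mono h.1, isPGroup_cj h.2.1, fun P hTP hPX hP => ?_⟩
  have := h.2.2 (CIT.cj g⁻¹ P) ((cj_le_iff.1 hTP)) (by rw [cj_le_iff, inv_inv]; exact hPX) (isPGroup_cj hP)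
  rw [← this, cj_cj_inv]

theorem IsSyl.cj_of_mem {T X : Subgroup G} (h : IsSyl T X) {g : G} (hg : g ∈ normalizer (X : Set G)) :
    IsSyl (CIT.cj g T) X := by
  have := h.cj g
  rwa [mem_normalizer_iff_cj.1 hg] at this

theorem IsSyl.subgroupOf {T X : Subgroup G} (h : IsSyl T X) :
    ∃ P : Sylow 2 X, (P : Subgroup X).map X.subtype = T := by
  refine ⟨⟨T.subgroupOf X, h.2.1.comap_of_injective X.subtype Subtype.val_injective, ?_⟩,
    map_subgroupOf_eq_of_le h.1⟩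
  intro Q hQ hle
  have h1 : Q.map X.subtype = T := h.2.2 _
    (by rw [← map_subgroupOf_eq_of_le h.1]; exact map_mono hle) (map_subtype_le Q) (hQ.map _)
  rw [← h1]
  exact (comap_map_eq_self_of_injective Subtype.val_injective Q).symm

variable [Finite G]

theorem exists_isSyl {P X : Subgroup G} (hPX : P ≤ X) (hP : IsPGroup 2 P) : ∃ T, IsSyl T X ∧ P ≤ T := by
  obtain ⟨T, hT, hmax⟩ := (Set.toFinite {T : Subgroup G | P ≤ T ∧ T ≤ X ∧ IsPGroup 2 T}).exists_maximalFor id _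
    ⟨P, le_rfl, hPX, hP⟩
  exact ⟨T, ⟨hT.2.1, hT.2.2, fun Q h1 h2 h3 => le_antisymm (hmax ⟨hT.1.trans h1, h2, h3⟩ h1) h1⟩, hT.1⟩

theorem IsSyl.exists_conj {T T' X : Subgroup G} (h : IsSyl T X) (h' : IsSyl T' X) :
    ∃ x ∈ X, CIT.cj x T = T' := by
  haveI : Fact (Nat.Prime 2) := ⟨Nat.prime_two⟩
  obtain ⟨P, hP⟩ := h.subgroupOf
  obtain ⟨Q, hQ⟩ := h'.subgroupOf
  obtain ⟨x, hx⟩ := MulAction.exists_smul_eq X P Q
  refine ⟨x, x.2, ?_⟩
  rw [← hP, ← hQ, ← hx]
  ext y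
  rw [mem_cj]
  constructor
  · rintro ⟨z, hz, hzy⟩
    refine ⟨x * z * x⁻¹, ?_, ?_⟩
    · show x * z * x⁻¹ ∈ ((x • P : Sylow 2 X) : Subgroup X)
      rw [Sylow.coe_subgroup_smul]
      exact ⟨z, hz, rfl⟩
    · have hzy' : ((z : X) : G) = (x : G)⁻¹ * y * x := hzy
      show ((x : G) * z * (x : G)⁻¹) = y
      rw [hzy']
      group
  · rintro ⟨z, hz, rfl⟩
    rw [Sylow.coe_subgroup_smul] at hz
    obtain ⟨w, hw, rfl⟩ := hz
    refine ⟨w, hw, ?_⟩
    show ((w : X) : G) = (x : G)⁻¹ * ((x : G) * w * (x : G)⁻¹) * x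
    group

theorem IsSyl.card_eq {T T' X : Subgroup G} (h : IsSyl T X) (h' : IsSyl T' X) :
    Nat.card T = Nat.card T' := by
  obtain ⟨x, -, rfl⟩ := h.exists_conj h'
  rw [card_cj]

theorem IsSyl.unique {T X : Subgroup G} (h : IsSyl T X) (hn : X ≤ normalizer (T : Set G)) {T' : Subgroup G}
    (h' : IsSyl T' X) : T' = T := by
  obtain ⟨x, hx, rfl⟩ := h.exists_conj h'
  exact mem_normalizer_iff_cj.1 (hn hx)

theorem IsSyl.le_of_unique {T X : Subgroup G} (hu : ∀ T', IsSyl T' X → T' = T) {P : Subgroup G} (hPX : P ≤ X)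
    (hP : IsPGroup 2 P) : P ≤ T := by
  obtain ⟨T', hT', hle⟩ := exists_isSyl hPX hP
  exact hu T' hT' ▸ hle

/-- A proper subgroup of a 2-group grows in its normaliser. -/
theorem exists_normalizing {R T : Subgroup G} (hT : IsPGroup 2 T) (hlt : R < T) :
    ∃ g ∈ T, g ∉ R ∧ g ∈ normalizer (R : Set G) := by
  haveI : Fact (Nat.Prime 2) := ⟨Nat.prime_two⟩
  haveI := hT.isNilpotent
  have hR : R.subgroupOf T < ⊤ := lt_of_le_of_ne le_top fun h => hlt.2 (subgroupOf_eq_top.1 h)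
  obtain ⟨g, hg, hgR⟩ := SetLike.exists_of_lt (Group.normalizerCondition_of_isNilpotent _ hR)
  refine ⟨g, g.2, fun h => hgR h, mem_normalizer_iff.2 fun x => ?_⟩
  rw [mem_normalizer_iff] at hg
  constructor
  · intro hx
    simpa [mem_subgroupOf] using (hg ⟨x, hlt.1 hx⟩).1 (by simpa [mem_subgroupOf] using hx)
  · intro hx
    have hx' : x ∈ T := by
      have := T.mul_mem (T.mul_mem (T.inv_mem g.2) (hlt.1 hx)) g.2
      simpa [mul_assoc] using this
    simpa [mem_subgroupOf] using (hg ⟨x, hx'⟩).2 (by simpa [mem_subgroupOf] using hx)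

/-- A 2-subgroup of `X` containing `R` meets `N(R)` in more than `R` unless it equals `R`. -/
theorem eq_of_normalizer_inf_le {R T : Subgroup G} (hT : IsPGroup 2 T) (hle : R ≤ T)
    (h : T ⊓ normalizer (R : Set G) ≤ R) : T = R := by
  by_contra hne
  obtain ⟨g, h1, h2, h3⟩ := exists_normalizing hT (lt_of_le_of_ne hle (Ne.symm hne))
  exact h2 (h ⟨h1, h3⟩)

/-- `O₂(X)` as a subgroup of the ambient group. -/
def core (X : Subgroup G) : Subgroup G := (Cfsg.pCore 2 X).map X.subtype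

theorem core_le (X : Subgroup G) : core X ≤ X := map_subtype_le _

theorem isPGroup_core (X : Subgroup G) : IsPGroup 2 (core X) :=
  (CfsgLib.Core.isPGroup_pCore 2 X).map _

theorem core_normalized (X : Subgroup G) : X ≤ normalizer (core X : Set G) := by
  intro x hx
  rw [mem_normalizer_iff_cj]
  haveI : (Cfsg.pCore 2 X).Normal := inferInstance
  ext y
  rw [mem_cj]
  constructor
  · rintro ⟨z, hz, hzy⟩
    refine ⟨⟨x, hx⟩ * z * ⟨x, hx⟩⁻¹, Normal.conj_mem inferInstance z hz _, ?_⟩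
    show x * (z : G) * x⁻¹ = y
    rw [show ((z : X) : G) = x⁻¹ * y * x from hzy]
    group
  · rintro ⟨z, hz, rfl⟩
    refine ⟨⟨x, hx⟩⁻¹ * z * (⟨x, hx⟩⁻¹)⁻¹, Normal.conj_mem inferInstance z hz _, ?_⟩
    show x⁻¹ * (z : G) * x⁻¹⁻¹ = x⁻¹ * ((z : X) : G) * x
    rw [inv_inv]

theorem le_core {R X : Subgroup G} (hR : IsPGroup 2 R) (hRX : R ≤ X) (hn : X ≤ normalizer (R : Set G)) :
    R ≤ core X := by
  haveI : (R.subgroupOf X).Normal := normal_subgroupOf_of_le_normalizer hn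
  rw [← map_subgroupOf_eq_of_le hRX]
  exact map_mono (CfsgLib.Core.le_pCore (hR.comap_of_injective X.subtype Subtype.val_injective))

theorem core_le_syl {T X : Subgroup G} (h : IsSyl T X) : core X ≤ T := by
  obtain ⟨P, hP⟩ := h.subgroupOf
  haveI : Fact (Nat.Prime 2) := ⟨Nat.prime_two⟩
  rw [← hP]
  exact map_mono (CfsgLib.Core.pCore_le_sylow P)

/-- `X` has more than one Sylow 2-subgroup. -/
def Branching (X : Subgroup G) : Prop := ∀ T, IsSyl T X → ¬ X ≤ normalizer (T : Set G)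

theorem Branching.exists_ne {T X : Subgroup G} (hb : Branching X) (hT : IsSyl T X) :
    ∃ T', IsSyl T' X ∧ T' ≠ T := by
  obtain ⟨x, hx, hxT⟩ := SetLike.not_le_iff_exists.1 (hb T hT)
  exact ⟨cj x T, hT.cj_of_mem (le_normalizer hx), fun h => hxT (mem_normalizer_iff_cj.2 h)⟩

theorem branching_of_two {T T' X : Subgroup G} (hT : IsSyl T X) (hT' : IsSyl T' X) (hne : T ≠ T') :
    Branching X := by
  intro U hU hn
  exact hne ((hU.unique hn hT).trans (hU.unique hn hT').symm)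

theorem Branching.cj {X : Subgroup G} (hb : Branching X) (g : G) : Branching (cj g X) := by
  intro T hT hn
  have h1 : IsSyl (CIT.cj g⁻¹ T) X := by simpa only [cj_inv_cj] using hT.cj g⁻¹
  refine hb _ h1 ?_
  rw [normalizer_cj, ← cj_le_iff]
  exact hn

theorem core_cj (g : G) (X : Subgroup G) : core (cj g X) = cj g (core X) := by
  have key : ∀ (g : G) (X : Subgroup G), cj g (core X) ≤ core (cj g X) := fun g X =>
    le_core (isPGroup_cj (isPGroup_core X)) (cj_mono (core_le X))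
      (by rw [normalizer_cj]; exact cj_mono (core_normalized X))
  refine le_antisymm ?_ (key g X)
  have := key g⁻¹ (cj g X)
  rwa [cj_inv_cj, cj_le_iff, inv_inv] at this

/-- Elementary abelian 2-subgroups of `T` of largest order. -/
def IsMaxElem (A T : Subgroup G) : Prop :=
  A ≤ T ∧ Cfsg.IsElementaryAbelian 2 A ∧
    ∀ B : Subgroup G, B ≤ T → Cfsg.IsElementaryAbelian 2 B → Nat.card B ≤ Nat.card A

theorem exists_isMaxElem (T : Subgroup G) : ∃ A, IsMaxElem A T := by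
  obtain ⟨A, hA, hmax⟩ := (Set.toFinite {A : Subgroup G | A ≤ T ∧ Cfsg.IsElementaryAbelian 2 A}).exists_maximalFor
    (fun A : Subgroup G => Nat.card A) _
    ⟨⊥, bot_le, ⟨⟨fun a b => Subsingleton.elim _ _⟩⟩, fun a ha => by rw [mem_bot.1 ha, one_pow]⟩
  refine ⟨A, hA.1, hA.2, fun B hB hB' => ?_⟩
  rcases le_total (Nat.card B) (Nat.card A) with h | h
  · exact h
  · exact hmax ⟨hB, hB'⟩ h

theorem isElementaryAbelian_cj {g : G} {A : Subgroup G} (h : Cfsg.IsElementaryAbelian 2 A) :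
    Cfsg.IsElementaryAbelian 2 (cj g A) := by
  refine ⟨⟨⟨?_⟩⟩, ?_⟩
  · rintro ⟨a, ha⟩ ⟨b, hb⟩
    obtain ⟨x, hx, rfl⟩ := ha
    obtain ⟨y, hy, rfl⟩ := hb
    apply Subtype.ext
    have := congrArg Subtype.val (h.1.is_comm.comm ⟨x, hx⟩ ⟨y, hy⟩)
    show (MulAut.conj g) x * (MulAut.conj g) y = (MulAut.conj g) y * (MulAut.conj g) x
    rw [← map_mul, ← map_mul]
    exact congrArg _ this
  · rintro a ⟨x, hx, rfl⟩
    rw [← map_pow, h.2 x hx, map_one]

theorem IsMaxElem.cj {A T : Subgroup G} (h : IsMaxElem A T) (g : G) : IsMaxElem (cj g A) (cj g T) := by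
  refine ⟨cj_mono h.1, isElementaryAbelian_cj h.2.1, fun B hB hB' => ?_⟩
  rw [card_cj, ← card_cj g⁻¹ B]
  exact h.2.2 _ (by rw [cj_le_iff, inv_inv]; exact hB) (isElementaryAbelian_cj hB')

/-- The Thompson subgroup `J(T)` (elementary version). -/
def thompsonJ (T : Subgroup G) : Subgroup G := sSup {A | IsMaxElem A T}

theorem thompsonJ_le (T : Subgroup G) : thompsonJ T ≤ T := sSup_le fun A hA => hA.1

theorem cj_thompsonJ (g : G) (T : Subgroup G) : cj g (thompsonJ T) = thompsonJ (cj g T) := by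
  apply le_antisymm
  · rw [cj_le_iff]
    refine sSup_le fun A hA => ?_
    rw [← cj_le_iff]
    exact le_sSup (hA.cj g)
  · refine sSup_le fun A hA => ?_
    have := hA.cj g⁻¹
    rw [cj_inv_cj] at this
    rw [← cj_cj_inv g A]
    exact cj_mono (le_sSup this)

theorem normalizer_le_normalizer_thompsonJ (T : Subgroup G) :
    normalizer (T : Set G) ≤ normalizer (thompsonJ T : Set G) := by
  intro g hg
  rw [mem_normalizer_iff_cj] at hg ⊢
  rw [cj_thompsonJ, hg]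

theorem thompsonJ_eq_of_le {R T : Subgroup G} (hRT : R ≤ T) (hJ : thompsonJ T ≤ R) :
    thompsonJ R = thompsonJ T := by
  obtain ⟨A, hA⟩ := exists_isMaxElem T
  have hAR : A ≤ R := (le_sSup hA : A ≤ thompsonJ T).trans hJ
  apply le_antisymm
  · refine sSup_le fun B hB => ?_
    refine le_sSup (s := {A | IsMaxElem A T}) ⟨hB.1.trans hRT, hB.2.1, fun C hC hC' => ?_⟩
    exact (hA.2.2 C hC hC').trans (hB.2.2 A hAR hA.2.1)
  · refine sSup_le fun B hB => ?_
    exact le_sSup ⟨(le_sSup hB : B ≤ thompsonJ T).trans hJ, hB.2.1, fun C hC hC' => hB.2.2 C (hC.trans hRT) hC'⟩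

theorem thompsonJ_ne_bot {T : Subgroup G} (hT : IsPGroup 2 T) (hne : T ≠ ⊥) : thompsonJ T ≠ ⊥ := by
  haveI : Fact (Nat.Prime 2) := ⟨Nat.prime_two⟩
  haveI : Nontrivial T := (nontrivial_iff_ne_bot T).2 hne
  obtain ⟨A, hA⟩ := exists_isMaxElem T
  obtain ⟨n, hn, hcard⟩ : ∃ n, n ≠ 0 ∧ Nat.card T = 2 ^ n := by
    obtain ⟨n, hn⟩ := hT.exists_card_eq
    exact ⟨n, fun h0 => by rw [h0, pow_zero] at hn; exact Finite.one_lt_card.ne' hn, hn⟩
  obtain ⟨t, ht⟩ := exists_prime_orderOf_dvd_card' 2 (hcard ▸ dvd_pow_self 2 hn : 2 ∣ Nat.card T)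
  have ht' : orderOf (t : G) = 2 := by rwa [orderOf_coe]
  intro h
  have hbot : A = ⊥ := le_bot_iff.1 (h ▸ (le_sSup hA : A ≤ thompsonJ T))
  have h2 := hA.2.2 (zpowers (t : G)) (zpowers_le.2 t.2)
    ⟨inferInstance, fun a ha => orderOf_dvd_iff_pow_eq_one.1 (ht' ▸ orderOf_dvd_of_mem_zpowers ha)⟩
  rw [Nat.card_zpowers, ht', hbot, card_bot] at h2
  omega

end CfsgLib.CIT
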