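import Cfsg.Agent.Lib.CIT.Rigid

/-!
# Two parabolics with a common Sylow subgroup: `q ≤ 4`

The torus acts on `Z` regularly, by the square of this action on `A ⧸ Z` seen from `N(W)` and by the inverse seen
from `N(A)`; so inversion is additive and `q ≤ 4`.
-/

set_option autoImplicit false
set_option linter.all false

namespace CfsgLib.CIT

open Subgroup
open CfsgLib.Signalizer (involution_sq involution_inv orderOf_eq_two_of orderOf_conj)

variable {G : Type*} [Group G] [Finite G]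

/-! ### Quotient facts -/

theorem mk_mem_normalizer_iff {X T : Subgroup G} (hT : IsSyl T X) (x : X) :
    (x : X ⧸ Cfsg.pCore 2 X) ∈ normalizer (qimg X T : Set (X ⧸ Cfsg.pCore 2 X)) ↔
      (x : G) ∈ normalizer (T : Set G) := by
  have hc := core_le_syl hT
  constructor
  · intro h
    rw [mem_normalizer_iff_cj]
    refine eq_of_le_of_card_ge ?_ (card_cj _ _).ge
    rintro _ ⟨t, ht, rfl⟩
    have h1 := (mem_normalizer_iff.1 h _).1 ((mk_mem_qimg hc ⟨t, hT.1 ht⟩).2 ht)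
    rw [← QuotientGroup.mk_mul, ← QuotientGroup.mk_inv, ← QuotientGroup.mk_mul, mk_mem_qimg hc] at h1
    exact h1
  · intro h
    rw [mem_normalizer_iff]
    intro y
    obtain ⟨y, rfl⟩ := QuotientGroup.mk_surjective y
    rw [← QuotientGroup.mk_mul, ← QuotientGroup.mk_inv, ← QuotientGroup.mk_mul, mk_mem_qimg hc, mk_mem_qimg hc]
    exact mem_normalizer_iff.1 h (y : G)

/-- The point attached to a Sylow subgroup. -/
def pt (X T : Subgroup G) (g : X) :
    (X ⧸ Cfsg.pCore 2 X) ⧸ normalizer (qimg X T : Set (X ⧸ Cfsg.pCore 2 X)) :=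
  ((g : X ⧸ Cfsg.pCore 2 X) : (X ⧸ Cfsg.pCore 2 X) ⧸ normalizer (qimg X T : Set (X ⧸ Cfsg.pCore 2 X)))

theorem pt_eq_iff {X T : Subgroup G} (hT : IsSyl T X) (g h : X) :
    pt X T g = pt X T h ↔ cj (g : G) T = cj (h : G) T := by
  rw [pt, pt, QuotientGroup.eq, ← QuotientGroup.mk_inv, ← QuotientGroup.mk_mul, mk_mem_normalizer_iff hT,
    mem_normalizer_iff_cj]
  show cj ((g : G)⁻¹ * h) T = T ↔ _
  rw [cj_mul]
  constructor
  · intro e
    conv_lhs => rw [← e, cj_cj_inv]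
  · intro e
    rw [← e, cj_inv_cj]

theorem smul_pt {X T : Subgroup G} (b g : X) :
    (b : X ⧸ Cfsg.pCore 2 X) • pt X T g = pt X T (b * g) := rfl

theorem Pair.embedded (hC : CIT G) (hL : LocalTI G) {T W A : Subgroup G} {q : ℕ} (h : Pair T W A q) :
    Embedded (normalizer (qimg (normalizer (W : Set G)) T :
      Set (normalizer (W : Set G) ⧸ Cfsg.pCore 2 (normalizer (W : Set G))))) (qimg (normalizer (W : Set G)) T) :=
  (tiSylow_quotient hL h.core_ne_bot).embedded (hC.quotient _) h.branching.quotient h.left.syl.qimg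

theorem Pair.two_le_invCount (hC : CIT G) (hL : LocalTI G) {T W A : Subgroup G} {q : ℕ} (h : Pair T W A q)
    (hq : 2 < q) : 2 ≤ (h.embedded hC hL).invCount := by
  classical
  set X := normalizer (W : Set G) with hX
  have hcq : Nat.card (qimg X T) = q := by
    have h1 := card_qimg h.left.syl.1
    rw [inf_eq_right.2 (core_le_syl h.left.syl), h.left.card_T] at h1
    exact Nat.eq_of_mul_eq_mul_right Nat.card_pos h1
  haveI : Fintype (qimg X T) := Fintype.ofFinite _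
  rw [Nat.card_eq_fintype_card] at hcq
  obtain ⟨a, b, c, hab, hac, hbc⟩ := Fintype.two_lt_card_iff.1 (show 2 < Fintype.card (qimg X T) by omega)
  obtain ⟨u, v, huv, hu1, hv1⟩ : ∃ u v : qimg X T, u ≠ v ∧ u ≠ 1 ∧ v ≠ 1 := by
    by_cases ha : a = 1
    · exact ⟨b, c, hbc, fun e => hab (ha.trans e.symm), fun e => hac (ha.trans e.symm)⟩
    by_cases hb : b = 1
    · exact ⟨a, c, hac, ha, fun e => hbc (hb.trans e.symm)⟩
    exact ⟨a, b, hab, ha, hb⟩
  have ho : ∀ w : qimg X T, w ≠ 1 → orderOf (w : X ⧸ Cfsg.pCore 2 X) = 2 := by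
    rintro ⟨w, hw⟩ hw1
    refine orderOf_eq_two_of (fun e => hw1 (Subtype.ext e)) ?_
    obtain ⟨t, ht, rfl⟩ := hw
    rw [← map_mul, QuotientGroup.mk'_apply, QuotientGroup.eq_one_iff, ← mem_core_iff]
    exact h.left.sq_mem _ ht
  haveI : Nontrivial {t : X ⧸ Cfsg.pCore 2 X // orderOf t = 2 ∧
      t ∈ normalizer (qimg X T : Set (X ⧸ Cfsg.pCore 2 X))} :=
    ⟨⟨⟨u, ho u hu1, le_normalizer u.2⟩, ⟨v, ho v hv1, le_normalizer v.2⟩,
      fun e => huv (Subtype.ext (congrArg Subtype.val e :))⟩⟩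
  exact Finite.one_lt_card

/-- A Sylow subgroup of `N(W)` is transitive on the others. -/
theorem Pair.exists_move (hC : CIT G) (hL : LocalTI G) {T W A : Subgroup G} {q : ℕ} (h : Pair T W A q)
    (hq : 2 < q) {g x y : G} (hg : g ∈ normalizer (W : Set G)) (hx : x ∈ normalizer (W : Set G))
    (hy : y ∈ normalizer (W : Set G)) (hxg : cj x T ≠ cj g T) (hyg : cj y T ≠ cj g T) :
    ∃ l ∈ cj g T, cj (l * x) T = cj y T := by
  set X := normalizer (W : Set G) with hX
  have hT := h.left.syl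
  obtain ⟨a, ha, hay⟩ := (h.embedded hC hL).exists_ker (h.two_le_invCount hC hL hq) (x := pt X T ⟨g, hg⟩)
    (y := pt X T ⟨x, hx⟩) (z := pt X T ⟨y, hy⟩) (fun e => hxg ((pt_eq_iff hT _ _).1 e))
    (fun e => hyg ((pt_eq_iff hT _ _).1 e))
  obtain ⟨b, rfl⟩ := QuotientGroup.mk_surjective a
  have h1 := (h.embedded hC hL).inH_rep ha
  rw [← QuotientGroup.mk_inv, ← QuotientGroup.mk_mul, ← QuotientGroup.mk_mul,
    mk_mem_qimg (core_le_syl hT)] at h1
  refine ⟨b, mem_cj.2 h1, ?_⟩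
  rw [smul_pt, pt_eq_iff hT] at hay
  exact hay

/-- An involution inverts modulo `W` the elements normalising `T` and its conjugate. -/
theorem Pair.invert_mem (hC : CIT G) (hL : LocalTI G) {T W A : Subgroup G} {q : ℕ} (h : Pair T W A q)
    {j d : G} (hj : j ∈ normalizer (W : Set G)) (hj2 : j * j = 1) (hjT : cj j T ≠ T)
    (hd : d ∈ normalizer (W : Set G)) (hdT : cj d T = T) (hdj : cj (d * j) T = cj j T) :
    j * d * j * d ∈ W := by
  set X := normalizer (W : Set G) with hX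
  have hT := h.left.syl
  set jX : X := ⟨j, hj⟩
  set dX : X := ⟨d, hd⟩
  have hjc : (jX : X ⧸ Cfsg.pCore 2 X) ≠ 1 := by
    intro e
    refine hjT (mem_normalizer_iff_cj.1 (le_normalizer (core_le_syl hT ?_)))
    exact (mem_core_iff jX).2 ((QuotientGroup.eq_one_iff _).1 e)
  have hjo : orderOf (jX : X ⧸ Cfsg.pCore 2 X) = 2 := orderOf_eq_two_of hjc (by
    rw [← QuotientGroup.mk_mul, show jX * jX = 1 from Subtype.ext hj2, QuotientGroup.mk_one])
  have h1 := (h.embedded hC hL).swap_inverts (x := pt X T 1) (y := pt X T jX)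
    (fun e => hjT (by simpa [cj_one] using ((pt_eq_iff hT _ _).1 e).symm)) hjo
    (by rw [smul_pt, mul_one]) (d := (dX : X ⧸ Cfsg.pCore 2 X))
    ((h.embedded hC hL).mem_two.2 ⟨by
      rw [smul_pt, mul_one, pt_eq_iff hT]
      simpa [cj_one] using hdT, by
      rw [smul_pt, pt_eq_iff hT]
      exact hdj⟩)
  have h2 : ((jX * dX * jX * dX : X) : X ⧸ Cfsg.pCore 2 X) = 1 := by
    rw [show jX * dX * jX * dX = jX * dX * jX⁻¹ * dX from by
      rw [show jX⁻¹ = jX from inv_eq_of_mul_eq_one_right (Subtype.ext hj2)], QuotientGroup.mk_mul,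
      QuotientGroup.mk_mul, QuotientGroup.mk_mul, QuotientGroup.mk_inv, h1, inv_mul_cancel]
  have h3 := (mem_core_iff _).2 ((QuotientGroup.eq_one_iff _).1 h2)
  rw [h.core_left] at h3
  exact h3

/-! ### Elementary facts about a pair -/

theorem Pair.le_T {T W A : Subgroup G} {q : ℕ} (h : Pair T W A q) : W ≤ T ∧ A ≤ T :=
  ⟨h.right.maxA.1, h.left.maxA.1⟩

theorem Pair.T_le {T W A : Subgroup G} {q : ℕ} (h : Pair T W A q) : T ≤ normalizer (W : Set G) := h.left.syl.1

theorem Pair.decomp {T W A : Subgroup G} {q : ℕ} (h : Pair T W A q) {t : G} (ht : t ∈ T) :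
    ∃ a ∈ A, ∃ w ∈ W, t = a * w := by
  have h1 := h.left.sup_eq
  rw [h.core_left] at h1
  rw [← h1, ← SetLike.mem_coe, coe_mul_of_left_le_normalizer_right _ _ (h.le_T.2.trans h.T_le)] at ht
  obtain ⟨a, ha, w, hw, rfl⟩ := ht
  exact ⟨a, ha, w, hw, rfl⟩

theorem Pair.inter_central {T W A : Subgroup G} {q : ℕ} (h : Pair T W A q) {z : G} (hzA : z ∈ A) (hzW : z ∈ W)
    {t : G} (ht : t ∈ T) : t * z = z * t :=
  (mem_zfix.1 (h.zfix_left.ge ⟨hzA, hzW⟩)).2 t ht

theorem Pair.fix_mem {T W A : Subgroup G} {q : ℕ} (h : Pair T W A q) {t w : G} (ht : t ∈ T) (htW : t ∉ W)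
    (hw : w ∈ W) (hc : t * w = w * t) : w ∈ A := by
  have h1 := h.left.fix t ht (by rwa [h.core_left]) w (by rwa [h.zcore_left]) hc
  exact (h.zfix_left.le h1).1

theorem Pair.card_inter {T W A : Subgroup G} {q : ℕ} (h : Pair T W A q) : Nat.card (A ⊓ W : Subgroup G) = q := by
  rw [← h.zfix_left, h.left.card_Z]

theorem Pair.involution_mem {T W A : Subgroup G} {q : ℕ} (h : Pair T W A q) {t : G} (ht : t ∈ T)
    (ht2 : t * t = 1) : t ∈ W ∨ t ∈ A := by
  obtain ⟨a, ha, w, hw, rfl⟩ := h.decomp ht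
  by_cases haW : a ∈ W
  · exact Or.inl (mul_mem haW hw)
  · refine Or.inr (mul_mem ha (h.fix_mem (h.le_T.2 ha) haW hw ?_))
    calc a * w = (a * w * (a * w)) * (w⁻¹ * a⁻¹) := by group
      _ = w * a := by
        rw [ht2, one_mul, inv_eq_of_mul_eq_one_right (sq_of_elementary h.right.maxA.2.1 hw),
          inv_eq_of_mul_eq_one_right (sq_of_elementary h.left.maxA.2.1 ha)]

/-- Elementary abelian subgroups of `T` lie in `W` or in `A`. -/
theorem Pair.elementary_le {T W A : Subgroup G} {q : ℕ} (h : Pair T W A q) {B : Subgroup G} (hB : B ≤ T)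
    (hBel : Cfsg.IsElementaryAbelian 2 B) : B ≤ W ∨ B ≤ A := by
  by_contra hno
  push Not at hno
  obtain ⟨b, hb, hbW⟩ := SetLike.not_le_iff_exists.1 hno.1
  obtain ⟨c, hc, hcA⟩ := SetLike.not_le_iff_exists.1 hno.2
  have hcW := (h.involution_mem (hB hc) (sq_of_elementary hBel hc)).resolve_right hcA
  exact hcA (h.fix_mem (hB hb) hbW hcW (comm_of_elementary hBel hb hc))

/-- Elements of `N(W)` normalising `T` normalise `A`. -/
theorem Pair.normalizer_le {T W A : Subgroup G} {q : ℕ} (h : Pair T W A q) {d : G}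
    (hd : d ∈ normalizer (W : Set G)) (hdT : cj d T = T) : cj d A = A := by
  have hle : cj d A ≤ T := (cj_mono h.le_T.2).trans hdT.le
  have hc : Nat.card (cj d A) = q ^ 2 := by rw [card_cj, h.left.card_A]
  rcases h.elementary_le hle (isElementaryAbelian_cj h.left.maxA.2.1) with e | e
  · exfalso
    have h1 : cj d A = W := eq_of_le_of_card_ge e (by rw [hc, h.right.card_A])
    have h2 : A = W := by
      rw [← cj_inv_cj d A, h1]
      exact mem_normalizer_iff_cj.1 (inv_mem hd)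
    have := h.card_inter
    rw [h2, inf_idem, h.right.card_A] at this
    nlinarith [h.left.one_lt]
  · exact eq_of_le_of_card_ge e (by rw [hc, h.left.card_A])

/-- A nontrivial element of `Z` is fixed only by `T`. -/
theorem Pair.centralizer_inter (hC : CIT G) {T W A : Subgroup G} {q : ℕ} (h : Pair T W A q) {z : G}
    (hzA : z ∈ A) (hzW : z ∈ W) (hz1 : z ≠ 1) :
    normalizer (W : Set G) ⊓ centralizer ({z} : Set G) = T :=
  h.left.syl.2.2 _ (le_inf h.T_le fun t ht => mem_centralizer_singleton_iff.2 (h.inter_central hzA hzW ht))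
    inf_le_left ((hC z (orderOf_eq_two_of hz1 (sq_of_elementary h.left.maxA.2.1 hzA))).to_le inf_le_right)

theorem Pair.mem_T_of_pow_two {T W A : Subgroup G} {q : ℕ} (h : Pair T W A q) {d : G}
    (hd : d ∈ normalizer (W : Set G)) (hdT : cj d T = T) {k : ℕ} (hk : d ^ 2 ^ k = 1) : d ∈ T := by
  haveI : Fact (Nat.Prime 2) := ⟨Nat.prime_two⟩
  have hp : IsPGroup 2 (zpowers d) := by
    obtain ⟨j, -, hj⟩ := (Nat.dvd_prime_pow Nat.prime_two).1 (orderOf_dvd_of_pow_eq_one hk)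
    exact IsPGroup.of_card (n := j) (by rw [Nat.card_zpowers, hj])
  have hsup : IsPGroup 2 (T ⊔ zpowers d : Subgroup G) :=
    IsPGroup.to_sup_of_normal_left' h.left.syl.2.1 hp (zpowers_le.2 (mem_normalizer_iff_cj.2 hdT))
  exact (h.left.syl.2.2 _ le_sup_left (sup_le h.T_le (zpowers_le.2 hd)) hsup).le
    (mem_sup_right (mem_zpowers d))

/-- Elements normalising `W` and `T` are transitive on the nontrivial elements of `Z`. -/
theorem Pair.exists_conj_inter (hC : CIT G) {T W A : Subgroup G} {q : ℕ} (h : Pair T W A q) {z w : G}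
    (hz : z ∈ A ⊓ W) (hz1 : z ≠ 1) (hw : w ∈ A ⊓ W) (hw1 : w ≠ 1) :
    ∃ d : G, d ∈ normalizer (W : Set G) ∧ cj d T = T ∧ d * z * d⁻¹ = w := by
  obtain ⟨d, hd, hdz⟩ := h.left.trans z (by rw [h.zcore_left]; exact hz.2) hz1 w (by rw [h.zcore_left]; exact hw.2) hw1
  refine ⟨d, hd, eq_of_le_of_card_ge ?_ (card_cj _ _).ge, hdz⟩
  rintro _ ⟨t, ht, rfl⟩
  rw [← h.centralizer_inter hC hw.1 hw.2 hw1]
  refine mem_inf.2 ⟨mul_mem (mul_mem hd (h.T_le ht)) (inv_mem hd), mem_centralizer_singleton_iff.2 ?_⟩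
  rw [← hdz]
  calc (MulAut.conj d) t * (d * z * d⁻¹) = d * (t * z) * d⁻¹ := by simp [mul_assoc]
    _ = d * (z * t) * d⁻¹ := by rw [h.inter_central hz.1 hz.2 ht]
    _ = d * z * d⁻¹ * (MulAut.conj d) t := by simp [mul_assoc]

/-- `Z` meets its conjugate from another Sylow subgroup trivially. -/
theorem Pair.inter_eq_one (hC : CIT G) {T W A : Subgroup G} {q : ℕ} (h : Pair T W A q) {g z : G}
    (hg : g ∈ normalizer (W : Set G)) (hne : cj g T ≠ T) (hzA : z ∈ A) (hzW : z ∈ W)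
    (hc : ∀ t ∈ cj g T, t * z = z * t) : z = 1 := by
  by_contra hz1
  refine hne (eq_of_le_of_card_ge (fun t ht => ?_) (card_cj _ _).ge)
  rw [← h.centralizer_inter hC hzA hzW hz1]
  refine mem_inf.2 ⟨?_, mem_centralizer_singleton_iff.2 (hc t ht)⟩
  have := (cj_mono h.T_le) ht
  rwa [mem_normalizer_iff_cj.1 (le_normalizer hg)] at this

/-- An involution `j` swapping two Sylow subgroups and an element `a ∈ A` with `[a, jzj] = z`. -/
theorem Pair.exists_braid (hC : CIT G) (hL : LocalTI G) {T W A : Subgroup G} {q : ℕ} (h : Pair T W A q)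
    (hq : 2 < q) : ∃ a j : G, a ∈ A ∧ a ∉ W ∧ j ∈ normalizer (W : Set G) ∧ j * j = 1 ∧ cj j T ≠ T ∧
      ∀ z ∈ A ⊓ W, j * z * j * (a * (j * z * j) * a) = z := by
  obtain ⟨g, hg, -, hgT⟩ := h.left.three
  have hne : cj g T ≠ T := fun e => hgT (mem_normalizer_iff_cj.2 e)
  obtain ⟨a, ha, haW⟩ : ∃ a ∈ A, a ∉ W := SetLike.not_le_iff_exists.1 fun hle => by
    have := h.card_inter
    rw [inf_eq_left.2 hle, h.left.card_A] at this
    nlinarith [h.left.one_lt]
  have haX : a ∈ normalizer (W : Set G) := h.T_le (h.le_T.2 ha)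
  have haT : cj a T = T := mem_normalizer_iff_cj.1 (le_normalizer (h.le_T.2 ha))
  have ha2 : a * a = 1 := sq_of_elementary h.left.maxA.2.1 ha
  have hag : cj (a * g) T ≠ cj g T := by
    intro e
    -- `a` would normalise the Sylow subgroup `cj g T`
    have h1 : cj (g⁻¹ * a * g) T = T := by rw [mul_assoc, cj_mul, e, cj_inv_cj]
    have h2 : g⁻¹ * a * g ∈ T := h.mem_T_of_pow_two (mul_mem (mul_mem (inv_mem hg) haX) hg) h1 (k := 1) (by
      rw [pow_one, pow_two, show g⁻¹ * a * g * (g⁻¹ * a * g) = g⁻¹ * (a * a) * g by group, ha2]; group)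
    exact haW (h.core_left.le (hL _ h.core_ne_bot _ _ h.left.syl (h.left.syl.cj_of_mem (le_normalizer hg))
      (Ne.symm hne) ⟨h.le_T.2 ha, mem_cj.2 h2⟩))
  obtain ⟨b, hb, hbT⟩ := h.exists_move hC hL hq hg (one_mem _) (mul_mem haX hg)
    (by rw [cj_one]; exact Ne.symm hne) hag
  rw [mul_one] at hbT
  obtain ⟨a', ha', w, hw, hbw⟩ := h.decomp (mem_cj.1 hb)
  set l := g * a' * g⁻¹ with hl
  have hwX : w ∈ normalizer (W : Set G) := le_normalizer hw
  have ha'X : a' ∈ normalizer (W : Set G) := h.T_le (h.le_T.2 ha')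
  have hlX : l ∈ normalizer (W : Set G) := mul_mem (mul_mem hg ha'X) (inv_mem hg)
  have hlT : cj l T = cj (a * g) T := by
    have hw' : g * w * g⁻¹ ∈ T := h.le_T.1 ((mem_normalizer_iff.1 hg w).1 hw)
    rw [← hbT, show b = l * (g * w * g⁻¹) by
      rw [hl, show b = g * (g⁻¹ * b * g) * g⁻¹ by group, hbw]; group, cj_mul l,
      mem_normalizer_iff_cj.1 (le_normalizer hw')]
  have hlg : l ∈ cj g T := conj_mem_cj.2 (h.le_T.2 ha')
  have hlW : l ∉ W := by
    intro e
    have h1 : cj l T = T := mem_normalizer_iff_cj.1 (le_normalizer (h.le_T.1 e))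
    rw [h1, cj_mul] at hlT
    refine hne ?_
    rw [← cj_inv_cj a (cj g T), ← hlT, inv_eq_of_mul_eq_one_right ha2, haT]
  have hl2 : l * l = 1 := by
    rw [hl, show g * a' * g⁻¹ * (g * a' * g⁻¹) = g * (a' * a') * g⁻¹ by group,
      sq_of_elementary h.left.maxA.2.1 ha']; group
  refine ⟨a, a * l * a, ha, haW, mul_mem (mul_mem haX hlX) haX, ?_, ?_, fun z hz => ?_⟩
  · rw [show a * l * a * (a * l * a) = a * (l * (a * a) * l) * a by group, ha2, mul_one, hl2, mul_one, ha2]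
  · intro e
    have h1 : cj l T = T := by
      have := congrArg (cj a⁻¹) e
      rw [cj_mul, cj_mul, haT, cj_inv_cj] at this
      rwa [inv_eq_of_mul_eq_one_right ha2, haT] at this
    have h2 : l ∈ T := h.mem_T_of_pow_two hlX h1 (k := 1) (by rw [pow_one, pow_two, hl2])
    exact hlW (h.core_left.le (hL _ h.core_ne_bot _ _ h.left.syl (h.left.syl.cj_of_mem (le_normalizer hg))
      (Ne.symm hne) ⟨h2, hlg⟩))
  · have hainv : a⁻¹ = a := inv_eq_of_mul_eq_one_right ha2
    have hlinv : l⁻¹ = l := inv_eq_of_mul_eq_one_right hl2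
    have hnW : ∀ {x w : G}, x ∈ normalizer (W : Set G) → w ∈ W → x * w * x⁻¹ ∈ W :=
      fun hx hw => (mem_normalizer_iff.1 hx _).1 hw
    set u := l * z * l with hu
    have huW : u ∈ W := by have := hnW hlX hz.2; rwa [hlinv] at this
    have huc : ∀ t ∈ cj (a * g) T, t * u = u * t := by
      intro t ht
      rw [← hlT] at ht
      obtain ⟨s, hs, rfl⟩ := ht
      show l * s * l⁻¹ * u = u * (l * s * l⁻¹)
      rw [hlinv, hu, show l * s * l * (l * z * l) = l * s * (l * l) * z * l by group, hl2, mul_one,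
        show l * z * l * (l * s * l) = l * z * (l * l) * s * l by group, hl2, mul_one, mul_assoc l s z,
        h.inter_central hz.1 hz.2 hs, mul_assoc l z s]
    set p := a * u * a with hp
    have hpW : p ∈ W := by have := hnW haX huW; rwa [hainv] at this
    have hpc : ∀ t ∈ cj g T, t * p = p * t := by
      intro t ht
      have h1 := huc (a * t * a) (by
        rw [cj_mul]
        have := (conj_mem_cj (g := a)).2 ht
        rwa [hainv] at this)
      calc t * p = (a * a) * t * a * u * a := by rw [ha2, hp]; group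
        _ = a * ((a * t * a) * u) * a := by group
        _ = a * (u * (a * t * a)) * a := by rw [h1]
        _ = a * u * a * t * (a * a) := by group
        _ = p * t := by rw [ha2, mul_one, hp]
    have hlp : l * p * l = p := by
      have := hpc l hlg
      calc l * p * l = p * l * l := by rw [this]
        _ = p := by rw [mul_assoc, hl2, mul_one]
    have hjz : a * l * a * z * (a * l * a) = p := by
      have haz : a * z = z * a := comm_of_elementary h.left.maxA.2.1 ha hz.1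
      calc a * l * a * z * (a * l * a) = a * l * (a * z) * a * l * a := by group
        _ = a * l * z * (a * a) * l * a := by rw [haz]; group
        _ = p := by rw [ha2, mul_one, hp, hu]; group
    rw [hjz, hp, show a * (a * u * a) * a = (a * a) * u * (a * a) by group, ha2, one_mul, mul_one, ← hp]
    -- `p * u = z`
    have huz : u * z ∈ W := mul_mem huW hz.2
    have hpu : p * u ∈ A := by
      refine h.fix_mem (h.le_T.2 ha) haW (mul_mem hpW huW) ?_
      calc a * (p * u) = a * a * u * a * u := by rw [hp]; group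
        _ = u * (a * u * (a * a)) := by rw [ha2, one_mul, mul_one]; group
        _ = u * p * a := by rw [hp]; group
        _ = p * u * a := by rw [comm_of_elementary h.right.maxA.2.1 huW hpW]
    have hluz : l * (u * z) * l = u * z := by
      calc l * (u * z) * l = (l * l) * z * (l * z * l) := by rw [hu]; group
        _ = u * z := by rw [hl2, one_mul, ← hu, comm_of_elementary h.right.maxA.2.1 hz.2 huW]
    -- elements of `W` fixed by `l` commute with `cj g T`
    have hfixl : ∀ v ∈ W, l * v * l = v → ∀ t ∈ cj g T, t * v = v * t := by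
      intro v hv hlv t ht
      have hv' : g⁻¹ * v * g ∈ W := by simpa using (mem_normalizer_iff''.1 hg v).1 hv
      have ha'W : a' ∉ W := fun e => hlW ((mem_normalizer_iff.1 hg a').1 e)
      have hcm : a' * (g⁻¹ * v * g) = (g⁻¹ * v * g) * a' := by
        calc a' * (g⁻¹ * v * g) = g⁻¹ * (l * v * l) * l⁻¹ * g * g⁻¹ * g := by rw [hl]; group
          _ = g⁻¹ * v * l⁻¹ * g := by rw [hlv]; group
          _ = (g⁻¹ * v * g) * a' := by rw [hlinv, hl]; group
      have hvA := h.fix_mem (h.le_T.2 ha') ha'W hv' hcm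
      have h1 := h.inter_central hvA hv' (mem_cj.1 ht)
      calc t * v = g * ((g⁻¹ * t * g) * (g⁻¹ * v * g)) * g⁻¹ := by group
        _ = g * ((g⁻¹ * v * g) * (g⁻¹ * t * g)) * g⁻¹ := by rw [h1]
        _ = v * t := by group
    have hone : p * u * z = 1 := by
      refine h.inter_eq_one hC hg hne (mul_mem hpu hz.1) (mul_mem (mul_mem hpW huW) hz.2) fun t ht => ?_
      rw [mul_assoc p u z]
      exact ((show Commute t p from hpc t ht).mul_right (show Commute t (u * z) from hfixl _ huz hluz t ht)).eq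
    rw [eq_inv_of_mul_eq_one_left hone, inv_eq_of_mul_eq_one_right (sq_of_elementary h.right.maxA.2.1 hz.2)]

/-- The commutator `[α, jzj]`. -/
def pairing (j α z : G) : G := j * z * j * (α * (j * z * j) * α)

/-- **The torus argument**: `q ≤ 4`. -/
theorem Pair.q_le_four (hC : CIT G) (hL : LocalTI G) {T W A : Subgroup G} {q : ℕ} (h : Pair T W A q) : q ≤ 4 := by
  classical
  by_contra hq4
  have hq : 2 < q := by omega
  obtain ⟨a, j, ha, haW, hj, hj2, hjT, hbraid⟩ := h.exists_braid hC hL hq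
  obtain ⟨a₂, j₂, -, -, hj₂, hj₂2, hj₂T, -⟩ := h.symm.exists_braid hC hL hq
  set Z := A ⊓ W with hZ
  have hAel := h.left.maxA.2.1
  have hWel := h.right.maxA.2.1
  have hjinv : j⁻¹ = j := inv_eq_of_mul_eq_one_right hj2
  have hj₂inv : j₂⁻¹ = j₂ := inv_eq_of_mul_eq_one_right hj₂2
  have hjW : ∀ z ∈ Z, j * z * j ∈ W := fun z hz => by
    have := (mem_normalizer_iff.1 hj z).1 hz.2
    rwa [hjinv] at this
  have hαW : ∀ α ∈ A, ∀ w ∈ W, α * w * α ∈ W := fun α hα w hw => by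
    have := (mem_normalizer_iff.1 (h.T_le (h.le_T.2 hα)) w).1 hw
    rwa [inv_eq_of_mul_eq_one_right (sq_of_elementary hAel hα)] at this
  have hjm : ∀ z z', j * (z * z') * j = (j * z * j) * (j * z' * j) := fun z z' => by
    rw [show j * z * j * (j * z' * j) = j * z * (j * j) * z' * j by group, hj2, mul_one]; group
  have hcW : ∀ α ∈ A, ∀ z ∈ Z, pairing j α z ∈ W := fun α hα z hz =>
    mul_mem (hjW z hz) (hαW α hα _ (hjW z hz))
  have hcZ : ∀ α ∈ A, ∀ z ∈ Z, pairing j α z ∈ Z := by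
    intro α hα z hz
    refine mem_inf.2 ⟨?_, hcW α hα z hz⟩
    by_cases hαW' : α ∈ W
    · have h2 : α * (j * z * j) * α = j * z * j := by
        rw [comm_of_elementary hWel hαW' (hjW z hz), mul_assoc, sq_of_elementary hAel hα, mul_one]
      rw [pairing, h2, sq_of_elementary hWel (hjW z hz)]
      exact one_mem _
    · refine h.fix_mem (h.le_T.2 hα) hαW' (hcW α hα z hz) ?_
      have hp := hjW z hz
      have hα2 := sq_of_elementary hAel hα
      rw [pairing]
      calc α * (j * z * j * (α * (j * z * j) * α)) = (α * (j * z * j) * α) * (j * z * j) * α := by group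
        _ = _ := by rw [comm_of_elementary hWel (hαW α hα _ hp) hp]
  have hcwz : ∀ α ∈ Z, ∀ z ∈ Z, pairing j α z = 1 := by
    intro α hα z hz
    rw [pairing, comm_of_elementary hWel hα.2 (hjW z hz), mul_assoc (j * z * j) α α,
      sq_of_elementary hAel hα.1, mul_one, sq_of_elementary hWel (hjW z hz)]
  have hcmul : ∀ α ∈ A, ∀ β ∈ A, ∀ z ∈ Z, pairing j (α * β) z = pairing j α z * pairing j β z := by
    intro α hα β hβ z hz
    have h1 := hcZ β hβ z hz
    have hp := hjW z hz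
    have hcα : α * pairing j β z * α = pairing j β z := by
      rw [comm_of_elementary hAel hα h1.1, mul_assoc, sq_of_elementary hAel hα, mul_one]
    have hβp := hαW β hβ _ hp
    have hγ : (α * β) * (j * z * j) * (α * β) = α * (β * (j * z * j) * β) * α := by
      conv_lhs => arg 2; rw [comm_of_elementary hAel hα hβ]
      group
    have hexp : α * (β * (j * z * j) * β) * α = α * (j * z * j) * α * pairing j β z := by
      have hw : β * (j * z * j) * β = (j * z * j) * pairing j β z := by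
        rw [pairing, ← mul_assoc (j * z * j) (j * z * j), sq_of_elementary hWel hp, one_mul]
      rw [hw, show α * (j * z * j * pairing j β z) * α = α * (j * z * j) * α * (α⁻¹ * pairing j β z * α) by group,
        inv_eq_of_mul_eq_one_right (sq_of_elementary hAel hα), hcα]
    rw [pairing, hγ, hexp, ← mul_assoc, ← pairing]
  have hcadd : ∀ α ∈ A, ∀ z ∈ Z, ∀ z' ∈ Z, pairing j α (z * z') = pairing j α z * pairing j α z' := by
    intro α hα z hz z' hz'
    have hp := hjW z hz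
    have hp' := hjW z' hz'
    simp only [pairing, hjm]
    have hexp : α * (j * z * j * (j * z' * j)) * α = (α * (j * z * j) * α) * (α * (j * z' * j) * α) := by
      rw [show α * (j * z * j) * α * (α * (j * z' * j) * α) = α * (j * z * j) * (α * α) * (j * z' * j) * α by group,
        sq_of_elementary hAel hα, mul_one]
      group
    rw [hexp]
    have hc := comm_of_elementary hWel hp' (hαW α hα _ hp)
    calc j * z * j * (j * z' * j) * (α * (j * z * j) * α * (α * (j * z' * j) * α))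
        = j * z * j * ((j * z' * j) * (α * (j * z * j) * α)) * (α * (j * z' * j) * α) := by group
      _ = j * z * j * ((α * (j * z * j) * α) * (j * z' * j)) * (α * (j * z' * j) * α) := by rw [hc]
      _ = _ := by group
  have hcne : ∀ α ∈ A, α ∉ W → ∀ z ∈ Z, pairing j α z = 1 → z = 1 := by
    intro α hα hαW' z hz hc
    have hp := hjW z hz
    have hα2 := sq_of_elementary hAel hα
    have hcm : α * (j * z * j) = (j * z * j) * α := by
      have h1 : α * (j * z * j) * α = (j * z * j)⁻¹ := eq_inv_of_mul_eq_one_right hc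
      rw [inv_eq_of_mul_eq_one_right (sq_of_elementary hWel hp)] at h1
      calc α * (j * z * j) = α * (j * z * j) * α * α := by rw [mul_assoc _ α α, hα2, mul_one]
        _ = (j * z * j) * α := by rw [h1]
    have hpA := h.fix_mem (h.le_T.2 hα) hαW' hp hcm
    have hp1 := h.inter_eq_one hC hj hjT hpA hp fun t ht => by
      have h1 := h.inter_central hz.1 hz.2 (mem_cj.1 ht)
      rw [hjinv] at h1
      calc t * (j * z * j) = j * ((j * t * j) * z) * j := by
            rw [show j * (j * t * j * z) * j = (j * j) * t * j * z * j by group, hj2]; group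
        _ = j * (z * (j * t * j)) * j := by rw [h1]
        _ = j * z * j * t := by
            rw [show j * (z * (j * t * j)) * j = j * z * j * t * (j * j) by group, hj2, mul_one]
    calc z = (j * j) * z * (j * j) := by rw [hj2, one_mul, mul_one]
      _ = j * (j * z * j) * j := by group
      _ = 1 := by rw [hp1, mul_one, hj2]
  -- the torus
  set N0 : Subgroup G := normalizer (W : Set G) ⊓ normalizer (T : Set G) with hN0
  have hN0T : ∀ {d}, d ∈ N0 → cj d T = T := fun hd => mem_normalizer_iff_cj.1 hd.2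
  have hN0A : ∀ {d}, d ∈ N0 → cj d A = A := fun hd => h.normalizer_le hd.1 (hN0T hd)
  have hconjA : ∀ {d}, d ∈ N0 → ∀ α ∈ A, d * α * d⁻¹ ∈ A := fun {d} hd α hα =>
    (hN0A hd).le (conj_mem_cj.2 hα)
  have hconjZ : ∀ {d}, d ∈ N0 → ∀ z ∈ Z, d * z * d⁻¹ ∈ Z := fun {d} hd z hz =>
    mem_inf.2 ⟨hconjA hd z hz.1, (mem_normalizer_iff.1 hd.1 z).1 hz.2⟩
  have hTN0 : T ≤ N0 := le_inf h.T_le le_normalizer
  have hTtriv : ∀ {t}, t ∈ T → ∀ z ∈ Z, t * z * t⁻¹ = z := fun {t} ht z hz => by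
    rw [h.inter_central hz.1 hz.2 ht, mul_inv_cancel_right]
  have hconj_mul : ∀ d e z : G, d * e * z * (d * e)⁻¹ = d * (e * z * e⁻¹) * d⁻¹ := fun d e z => by group
  have hconj_add : ∀ d z z' : G, d * (z * z') * d⁻¹ = d * z * d⁻¹ * (d * z' * d⁻¹) := fun d z z' => by group
  -- adjusting to the other Sylow subgroup
  have hadjust : ∀ {d}, d ∈ N0 → ∃ t ∈ T, cj (d * t * j) T = cj j T := by
    intro d hd
    have hne : cj (d⁻¹ * j) T ≠ T := fun e => hjT (by
      have := congrArg (cj d) e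
      rwa [← cj_mul, mul_inv_cancel_left, hN0T hd] at this)
    obtain ⟨l, hl, hlT⟩ := h.exists_move hC hL hq (one_mem _) hj (mul_mem (inv_mem hd.1) hj)
      (by rw [cj_one]; exact hjT) (by rw [cj_one]; exact hne)
    rw [cj_one] at hl
    exact ⟨l, hl, by rw [mul_assoc, cj_mul, hlT, ← cj_mul, mul_inv_cancel_left]⟩
  have hinvert : ∀ {d}, d ∈ N0 → cj (d * j) T = cj j T → j * d * j * d ∈ W := fun {d} hd hdj =>
    h.invert_mem hC hL hj hj2 hjT hd.1 (hN0T hd) hdj
  -- the torus acts commutatively on `Z`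
  have hcomm : ∀ {d e}, d ∈ N0 → e ∈ N0 → ∀ z ∈ Z,
      d * (e * z * e⁻¹) * d⁻¹ = e * (d * z * d⁻¹) * e⁻¹ := by
    intro d e hd he z hz
    obtain ⟨t, ht, htd⟩ := hadjust hd
    obtain ⟨s, hs, hse⟩ := hadjust he
    set d' := d * t
    set e' := e * s
    have hd' : d' ∈ N0 := mul_mem hd (hTN0 ht)
    have he' : e' ∈ N0 := mul_mem he (hTN0 hs)
    have hde : cj (d' * e' * j) T = cj j T := by rw [mul_assoc, cj_mul, hse, ← cj_mul, htd]
    have h1 := hinvert (mul_mem hd' he') hde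
    have h2 := hinvert hd' htd
    have h3 := hinvert he' hse
    -- the commutator lies in `W`
    have hW' : e'⁻¹ * d'⁻¹ * e' * d' ∈ W := by
      have hnd : ∀ {x w : G}, x ∈ N0 → w ∈ W → x⁻¹ * w * x ∈ W := fun hx hw => by
        simpa using (mem_normalizer_iff''.1 hx.1 _).1 hw
      have hndj : ∀ {x w : G}, x ∈ N0 → w ∈ W → x * w * x⁻¹ ∈ W := fun hx hw =>
        (mem_normalizer_iff.1 hx.1 _).1 hw
      have e1 : j * d' * j * d' * (d'⁻¹ * (j * e' * j * e') * d') =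
          j * (d' * e') * j * (e' * d') := by
        calc j * d' * j * d' * (d'⁻¹ * (j * e' * j * e') * d') = j * d' * (j * j) * e' * j * e' * d' := by group
          _ = _ := by rw [hj2, mul_one]; group
      have e2 : (j * (d' * e') * j * (d' * e'))⁻¹ * (j * (d' * e') * j * (e' * d')) =
          e'⁻¹ * d'⁻¹ * e' * d' := by group
      rw [← e2]
      refine mul_mem (inv_mem h1) ?_
      rw [← e1]
      exact mul_mem h2 (hnd hd' h3)
    have hd'z : ∀ y ∈ Z, d' * y * d'⁻¹ = d * y * d⁻¹ := fun y hy => by rw [hconj_mul, hTtriv ht y hy]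
    have he'z : ∀ y ∈ Z, e' * y * e'⁻¹ = e * y * e⁻¹ := fun y hy => by rw [hconj_mul, hTtriv hs y hy]
    have h4 := hTtriv (h.le_T.1 hW') z hz
    have h5 : e' * (d' * z * d'⁻¹) * e'⁻¹ = d' * (e' * z * e'⁻¹) * d'⁻¹ := by
      calc e' * (d' * z * d'⁻¹) * e'⁻¹ = d' * e' * (e'⁻¹ * d'⁻¹ * e' * d' * z * (e'⁻¹ * d'⁻¹ * e' * d')⁻¹) *
            (d' * e')⁻¹ := by group
        _ = _ := by rw [h4]; group
    rw [← hd'z _ (hconjZ he z hz), ← he'z z hz, ← h5, he'z _ (hconjZ hd' z hz), hd'z z hz]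
  -- conjugating `a`
  have hsq : ∀ {d}, d ∈ N0 → ∀ z ∈ Z, pairing j (d * a * d⁻¹) z = d * (d * z * d⁻¹) * d⁻¹ := by
    intro d hd z hz
    obtain ⟨t, ht, htd⟩ := hadjust hd
    set d' := d * t
    have hd' : d' ∈ N0 := mul_mem hd (hTN0 ht)
    have hd'z : ∀ y ∈ Z, d' * y * d'⁻¹ = d * y * d⁻¹ := fun y hy => by rw [hconj_mul, hTtriv ht y hy]
    have hpair : ∀ y ∈ Z, pairing j (d' * a * d'⁻¹) y = d' * (d' * y * d'⁻¹) * d'⁻¹ := by
      intro y hy
      have hw := hinvert hd' htd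
      have hc : d'⁻¹ * (j * y * j) * d' = j * (d' * y * d'⁻¹) * j := by
        have hyW : d' * y * d'⁻¹ ∈ W := (mem_normalizer_iff.1 hd'.1 y).1 hy.2
        have hpW : j * (d' * y * d'⁻¹) * j ∈ W := hjW _ (hconjZ hd' y hy)
        calc d'⁻¹ * (j * y * j) * d'
            = d'⁻¹ * (j⁻¹ * y * j) * d' := by rw [hjinv]
          _ = (j * d' * j * d')⁻¹ * (j * (d' * y * d'⁻¹) * j⁻¹) * (j * d' * j * d') := by group
          _ = (j * d' * j * d')⁻¹ * (j * (d' * y * d'⁻¹) * j) * (j * d' * j * d') := by rw [hjinv]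
          _ = j * (d' * y * d'⁻¹) * j := by
              rw [mul_assoc, comm_of_elementary hWel hpW hw, inv_mul_cancel_left]
      calc pairing j (d' * a * d'⁻¹) y
          = d' * ((d'⁻¹ * (j * y * j) * d') * (a * (d'⁻¹ * (j * y * j) * d') * a)) * d'⁻¹ := by
            rw [pairing]; group
        _ = d' * pairing j a (d' * y * d'⁻¹) * d'⁻¹ := by rw [hc]; rfl
        _ = _ := by rw [pairing, hbraid _ (hconjZ hd' y hy)]
    have haA : d' * a * d'⁻¹ = d * a * d⁻¹ * (d * (a⁻¹ * (t * a * t⁻¹)) * d⁻¹) := by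
      show d * t * a * (d * t)⁻¹ = _
      group
    have hatZ : a⁻¹ * (t * a * t⁻¹) ∈ Z := by
      have htA : t * a * t⁻¹ ∈ A := hconjA (hTN0 ht) a ha
      refine mem_inf.2 ⟨mul_mem (inv_mem ha) htA, ?_⟩
      have hcomm' : a⁻¹ * (t * a * t⁻¹) ∈ core (normalizer (W : Set G)) := by
        obtain ⟨b, hb, w, hw, rfl⟩ := h.decomp ht
        rw [h.core_left]
        have hba : b * a = a * b := comm_of_elementary hAel hb ha
        have hbX := h.T_le (h.le_T.2 hb)
        have haX := h.T_le (h.le_T.2 ha)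
        rw [show a⁻¹ * (b * w * a * (b * w)⁻¹) = (a⁻¹ * b * a) * (a⁻¹ * w * a * w⁻¹) * b⁻¹ by group,
          show a⁻¹ * b * a = b by rw [mul_assoc, hba, inv_mul_cancel_left]]
        refine (mem_normalizer_iff.1 hbX _).1 (mul_mem ?_ (inv_mem hw))
        simpa using (mem_normalizer_iff''.1 haX w).1 hw
      rwa [h.core_left] at hcomm'
    have h6 := hpair z hz
    rw [haA, hcmul _ (hconjA hd a ha) _ (hconjZ hd _ hatZ).1 z hz, hcwz _ (hconjZ hd _ hatZ) z hz, mul_one] at h6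
    rw [h6, hd'z z hz, hd'z _ (hconjZ hd z hz)]
  obtain ⟨z1, hz1, hz11⟩ := Z.bot_or_exists_ne_one.resolve_left (fun e => by
    have := h.card_inter
    rw [← hZ, e, card_bot] at this
    omega)
  have htrans : ∀ w ∈ Z, w ≠ 1 → ∃ d ∈ N0, d * z1 * d⁻¹ = w := by
    intro w hw hw1
    obtain ⟨d, hd, hdT, hdw⟩ := h.exists_conj_inter hC hz1 hz11 hw hw1
    exact ⟨d, mem_inf.2 ⟨hd, mem_normalizer_iff_cj.2 hdT⟩, hdw⟩
  have hreg : ∀ {d}, d ∈ N0 → d * z1 * d⁻¹ = z1 → ∀ z ∈ Z, d * z * d⁻¹ = z := by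
    intro d hd hdz z hz
    refine hTtriv ?_ z hz
    rw [← h.centralizer_inter hC hz1.1 hz1.2 hz11]
    exact mem_inf.2 ⟨hd.1, mem_centralizer_singleton_iff.2 (mul_inv_eq_iff_eq_mul.1 hdz)⟩
  -- square roots
  have hroot : ∀ {e}, e ∈ N0 → ∃ d ∈ N0, ∀ z ∈ Z, d * (d * z * d⁻¹) * d⁻¹ = e * z * e⁻¹ := by
    intro e he
    obtain ⟨k, m, hm, hem⟩ := Nat.exists_eq_two_pow_mul_odd (orderOf_pos e).ne'
    obtain ⟨r, hr⟩ := hm
    refine ⟨e ^ (r + 1), pow_mem he _, fun z hz => ?_⟩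
    have hem' : e ^ m ∈ T := h.mem_T_of_pow_two (pow_mem he.1 m) (mem_normalizer_iff_cj.1 (pow_mem he.2 m))
      (k := k) (by rw [← pow_mul, mul_comm, ← hem, pow_orderOf_eq_one])
    rw [← hconj_mul, ← pow_add, show r + 1 + (r + 1) = 1 + m by omega, pow_add, pow_one, hconj_mul,
      hTtriv hem' z hz]
  -- every pairing is a square of the torus
  have himage : ∀ α ∈ A, α ∉ W → ∃ d ∈ N0, ∀ z ∈ Z, pairing j α z = d * (d * z * d⁻¹) * d⁻¹ := by
    intro α hα hαW'
    obtain ⟨e, he, hez⟩ := htrans _ (hcZ α hα z1 hz1) (fun e => hz11 (hcne α hα hαW' z1 hz1 e))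
    obtain ⟨d, hd, hdz⟩ := hroot he
    refine ⟨d, hd, fun z hz => ?_⟩
    have hβ := hconjA hd a ha
    have h1 : pairing j (α * (d * a * d⁻¹)) z1 = 1 := by
      rw [hcmul α hα _ hβ z1 hz1, hsq hd z1 hz1, hdz z1 hz1, hez]
      exact sq_of_elementary hWel (hcW α hα z1 hz1)
    have h2 : α * (d * a * d⁻¹) ∈ W := by
      by_contra hno
      exact hz11 (hcne _ (mul_mem hα hβ) hno z1 hz1 h1)
    have h3 := hcwz _ (mem_inf.2 ⟨mul_mem hα hβ, h2⟩) z hz
    rw [hcmul α hα _ hβ z hz, hsq hd z hz] at h3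
    rw [eq_inv_of_mul_eq_one_left h3,
      inv_eq_of_mul_eq_one_right (sq_of_elementary hAel (hconjZ hd _ (hconjZ hd z hz)).1)]
  -- the torus with `0` is closed under addition
  have hsum : ∀ {d e}, d ∈ N0 → e ∈ N0 → d * z1 * d⁻¹ ≠ e * z1 * e⁻¹ →
      ∃ f ∈ N0, ∀ z ∈ Z, f * z * f⁻¹ = d * z * d⁻¹ * (e * z * e⁻¹) := by
    intro d e hd he hne
    obtain ⟨d', hd', hdd⟩ := hroot hd
    obtain ⟨e', he', hee⟩ := hroot he
    have hα : d' * a * d'⁻¹ ∈ A := hconjA hd' a ha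
    have hβ : e' * a * e'⁻¹ ∈ A := hconjA he' a ha
    have hval : ∀ z ∈ Z, pairing j (d' * a * d'⁻¹ * (e' * a * e'⁻¹)) z = d * z * d⁻¹ * (e * z * e⁻¹) :=
      fun z hz => by rw [hcmul _ hα _ hβ z hz, hsq hd' z hz, hsq he' z hz, hdd z hz, hee z hz]
    have hout : d' * a * d'⁻¹ * (e' * a * e'⁻¹) ∉ W := by
      intro hmem
      have h1 := hval z1 hz1
      rw [hcwz _ (mem_inf.2 ⟨mul_mem hα hβ, hmem⟩) z1 hz1] at h1
      exact hne (by rw [eq_inv_of_mul_eq_one_left h1.symm,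
        inv_eq_of_mul_eq_one_right (sq_of_elementary hAel (hconjZ he z1 hz1).1)])
    obtain ⟨f, hf, hfz⟩ := himage _ (mul_mem hα hβ) hout
    exact ⟨f * f, mul_mem hf hf, fun z hz => by rw [hconj_mul, ← hfz z hz, hval z hz]⟩
  -- `N(d⁻¹ z) = d² N(z)`
  set Nm : G → G := fun z => pairing j (j₂ * z * j₂) z1 with hNm
  have hbA : ∀ z ∈ Z, j₂ * z * j₂ ∈ A := fun z hz => by
    have := (mem_normalizer_iff.1 hj₂ z).1 hz.1
    rwa [hj₂inv] at this
  have hNadd : ∀ z ∈ Z, ∀ z' ∈ Z, Nm (z * z') = Nm z * Nm z' := by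
    intro z hz z' hz'
    have : j₂ * (z * z') * j₂ = (j₂ * z * j₂) * (j₂ * z' * j₂) := by
      rw [show j₂ * z * j₂ * (j₂ * z' * j₂) = j₂ * z * (j₂ * j₂) * z' * j₂ by group, hj₂2, mul_one]; group
    simp only [hNm, this, hcmul _ (hbA z hz) _ (hbA z' hz') z1 hz1]
  have hNout : ∀ z ∈ Z, z ≠ 1 → j₂ * z * j₂ ∉ W := by
    intro z hz hz' hmem
    refine Signalizer.involution_ne_one (orderOf_eq_two_of hz' (sq_of_elementary hAel hz.1)) ?_
    have h1 := h.symm.inter_eq_one hC hj₂ hj₂T (z := j₂ * z * j₂) hmem (hbA z hz) fun t ht => by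
      have h1 := h.inter_central hz.1 hz.2 (mem_cj.1 ht)
      rw [hj₂inv] at h1
      calc t * (j₂ * z * j₂) = j₂ * ((j₂ * t * j₂) * z) * j₂ := by
            rw [show j₂ * (j₂ * t * j₂ * z) * j₂ = (j₂ * j₂) * t * j₂ * z * j₂ by group, hj₂2]; group
        _ = j₂ * (z * (j₂ * t * j₂)) * j₂ := by rw [h1]
        _ = j₂ * z * j₂ * t := by
            rw [show j₂ * (z * (j₂ * t * j₂)) * j₂ = j₂ * z * j₂ * t * (j₂ * j₂) by group, hj₂2, mul_one]
    calc z = (j₂ * j₂) * z * (j₂ * j₂) := by rw [hj₂2, one_mul, mul_one]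
      _ = j₂ * (j₂ * z * j₂) * j₂ := by group
      _ = 1 := by rw [h1, mul_one, hj₂2]
  have hNne : ∀ z ∈ Z, z ≠ 1 → Nm z ∈ Z ∧ Nm z ≠ 1 := fun z hz hz' =>
    ⟨hcZ _ (hbA z hz) z1 hz1, fun e => hz11 (hcne _ (hbA z hz) (hNout z hz hz') z1 hz1 e)⟩
  have hNconj : ∀ {d}, d ∈ N0 → ∀ z ∈ Z, z ≠ 1 → Nm (d⁻¹ * z * d) = d * (d * Nm z * d⁻¹) * d⁻¹ := by
    intro d hd z hz hz'
    have hdA : d ∈ normalizer (A : Set G) := mem_normalizer_iff_cj.2 (hN0A hd)
    have hne : cj (d⁻¹ * j₂) T ≠ T := fun e => hj₂T (by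
      have := congrArg (cj d) e
      rwa [← cj_mul, mul_inv_cancel_left, hN0T hd] at this)
    obtain ⟨t, ht, htj⟩ := h.symm.exists_move hC hL hq (one_mem _) hj₂ (mul_mem (inv_mem hdA) hj₂)
      (by rw [cj_one]; exact hj₂T) (by rw [cj_one]; exact hne)
    rw [cj_one] at ht
    set d' := d * t with hd'def
    have hd' : d' ∈ N0 := mul_mem hd (hTN0 ht)
    have hd'A : d' ∈ normalizer (A : Set G) := mem_normalizer_iff_cj.2 (hN0A hd')
    have hd'j : cj (d' * j₂) T = cj j₂ T := by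
      rw [mul_assoc, cj_mul, htj, ← cj_mul, mul_inv_cancel_left]
    have hw := h.symm.invert_mem hC hL hj₂ hj₂2 hj₂T hd'A (hN0T hd') hd'j
    have hd'z : ∀ y ∈ Z, d' * y * d'⁻¹ = d * y * d⁻¹ := fun y hy => by rw [hconj_mul, hTtriv ht y hy]
    have hzd : d'⁻¹ * z * d' = d⁻¹ * z * d := by
      have := hconjZ (inv_mem hd) z hz
      rw [inv_inv] at this
      rw [hd'def, show (d * t)⁻¹ * z * (d * t) = t⁻¹ * (d⁻¹ * z * d) * t by group,
        mul_assoc, ← h.inter_central this.1 this.2 ht, inv_mul_cancel_left]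
    have hzd' : d'⁻¹ * z * d' ∈ Z := by
      have := hconjZ (inv_mem hd') z hz
      rwa [inv_inv] at this
    have hbz : d' * (j₂ * z * j₂) * d'⁻¹ = j₂ * (d'⁻¹ * z * d') * j₂ := by
      have hw2 : j₂ * (d'⁻¹ * z * d') * j₂ ∈ A := hbA _ hzd'
      calc d' * (j₂ * z * j₂) * d'⁻¹
          = j₂⁻¹ * d'⁻¹ * j₂⁻¹ * ((j₂ * d' * j₂ * d') * (j₂ * z * j₂) * (j₂ * d' * j₂ * d')⁻¹) *
              (j₂ * d' * j₂) := by group
        _ = j₂⁻¹ * d'⁻¹ * j₂⁻¹ * (j₂ * z * j₂⁻¹) * (j₂ * d' * j₂) := by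
            rw [comm_of_elementary hAel hw (hbA z hz), mul_inv_cancel_right, hj₂inv]
        _ = j₂⁻¹ * (d'⁻¹ * z * d') * j₂ := by group
        _ = _ := by rw [hj₂inv]
    obtain ⟨f, hf, hfz⟩ := himage _ (hbA z hz) (hNout z hz hz')
    have hdiff : j₂ * z * j₂ * (f * a * f⁻¹) ∈ Z := by
      refine mem_inf.2 ⟨mul_mem (hbA z hz) (hconjA hf a ha), ?_⟩
      by_contra hno
      refine hz11 (hcne _ (mul_mem (hbA z hz) (hconjA hf a ha)) hno z1 hz1 ?_)
      rw [hcmul _ (hbA z hz) _ (hconjA hf a ha) z1 hz1, hsq hf z1 hz1, hfz z1 hz1]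
      exact sq_of_elementary hAel (hconjZ hf _ (hconjZ hf z1 hz1)).1
    show pairing j (j₂ * (d⁻¹ * z * d) * j₂) z1 = d * (d * pairing j (j₂ * z * j₂) z1 * d⁻¹) * d⁻¹
    rw [← hzd, ← hbz, show d' * (j₂ * z * j₂) * d'⁻¹ = d' * (j₂ * z * j₂ * (f * a * f⁻¹)) * d'⁻¹ *
        (d' * f * a * (d' * f)⁻¹)⁻¹ by group,
      inv_eq_of_mul_eq_one_right (sq_of_elementary hAel (hconjA (mul_mem hd' hf) a ha)),
      hcmul _ (hconjZ hd' _ hdiff).1 _ (hconjA (mul_mem hd' hf) a ha) z1 hz1,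
      hcwz _ (hconjZ hd' _ hdiff) z1 hz1, one_mul, hsq (mul_mem hd' hf) z1 hz1, hfz z1 hz1]
    have hfz1 := hconjZ hf z1 hz1
    simp only [hconj_mul]
    rw [hd'z _ hfz1, hcomm hf hd _ hfz1, hd'z _ (hconjZ hd _ (hconjZ hf _ hfz1))]
  -- every nontrivial `d` satisfies `d² = d + 1`
  have hquad : ∀ {d}, d ∈ N0 → d * z1 * d⁻¹ ≠ z1 →
      ∀ z ∈ Z, d * (d * z * d⁻¹) * d⁻¹ = d * z * d⁻¹ * z := by
    intro d hd hdne
    obtain ⟨e, he, hez⟩ := hsum hd (one_mem N0) (by simpa using hdne)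
    obtain ⟨f, hf, hfz⟩ := hsum (inv_mem hd) (one_mem N0) (fun e' => hdne (by
      have h1 : d⁻¹ * z1 * d = z1 := by simpa using e'
      calc d * z1 * d⁻¹ = d * (d⁻¹ * z1 * d) * d⁻¹ := by rw [h1]
        _ = z1 := by group))
    simp only [inv_one, one_mul, mul_one] at hez hfz
    set u := Nm z1 with hu
    obtain ⟨huZ, hu1⟩ := hNne z1 hz1 hz11
    have hdd1 : d⁻¹ * z1 * d ∈ Z := by have := hconjZ (inv_mem hd) z1 hz1; rwa [inv_inv] at this
    have hee : e * (e * u * e⁻¹) * e⁻¹ = d * (d * u * d⁻¹) * d⁻¹ * u := by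
      rw [hez u huZ, hconj_add, hez u huZ, hez _ (hconjZ hd u huZ),
        show d * (d * u * d⁻¹) * d⁻¹ * (d * u * d⁻¹) * (d * u * d⁻¹ * u) =
          d * (d * u * d⁻¹) * d⁻¹ * ((d * u * d⁻¹) * (d * u * d⁻¹)) * u by group,
        sq_of_elementary hAel (hconjZ hd u huZ).1, mul_one]
    have hff : f⁻¹ * (f⁻¹ * u * f) * f = e * (e * u * e⁻¹) * e⁻¹ := by
      rw [hee]
      have h1 : f * z1 * f⁻¹ = d⁻¹ * z1 * d * z1 := by simpa using hfz z1 hz1
      have h2 := hNconj (inv_mem hf) z1 hz1 hz11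
      simp only [inv_inv] at h2
      rw [← h2, h1, hNadd _ hdd1 _ hz1, hNconj hd z1 hz1 hz11]
    -- `f e` acts trivially
    have hg := mul_mem hf he
    have hgu : f * e * (f * e * u * (f * e)⁻¹) * (f * e)⁻¹ = u := by
      have hu1' := hconjZ he u huZ
      rw [hconj_mul, hconj_mul, ← hcomm hf he _ hu1', ← hff]
      group
    have hg2 : (f * e) * (f * e) ∈ T := by
      rw [← h.centralizer_inter hC huZ.1 huZ.2 hu1]
      refine mem_inf.2 ⟨(mul_mem hg hg).1, mem_centralizer_singleton_iff.2 (mul_inv_eq_iff_eq_mul.1 ?_)⟩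
      rw [hconj_mul, hgu]
    obtain ⟨k, hk⟩ := h.left.syl.2.1 ⟨_, hg2⟩
    have hgT : f * e ∈ T := h.mem_T_of_pow_two hg.1 (hN0T hg) (k := k + 1) (by
      rw [pow_succ', pow_mul, pow_two]
      exact congrArg Subtype.val hk)
    have h3 := hTtriv hgT z1 hz1
    rw [hconj_mul, hez z1 hz1, hconj_add] at h3
    have h4 : d⁻¹ * (d * z1 * d⁻¹) * d * (d * z1 * d⁻¹) * (d⁻¹ * z1 * d * z1) = z1 := by
      have h5 := hfz _ (hconjZ hd z1 hz1)
      rw [inv_inv] at h5
      have h6 : f * z1 * f⁻¹ = d⁻¹ * z1 * d * z1 := by simpa using hfz z1 hz1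
      rwa [h5, h6] at h3
    rw [show d⁻¹ * (d * z1 * d⁻¹) * d = z1 by group] at h4
    -- so `d z * d⁻¹ z = z` at `z1`
    have h7 : d * z1 * d⁻¹ * (d⁻¹ * z1 * d) = z1 := by
      calc d * z1 * d⁻¹ * (d⁻¹ * z1 * d)
          = z1⁻¹ * (z1 * (d * z1 * d⁻¹) * (d⁻¹ * z1 * d * z1)) * z1⁻¹ := by group
        _ = z1⁻¹ * z1 * z1⁻¹ := by rw [h4]
        _ = z1 := by rw [inv_mul_cancel, one_mul, inv_eq_of_mul_eq_one_right (sq_of_elementary hAel hz1.1)]
    have h8 : d * (d * z1 * d⁻¹) * d⁻¹ * z1 = d * z1 * d⁻¹ := by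
      calc d * (d * z1 * d⁻¹) * d⁻¹ * z1 = d * (d * z1 * d⁻¹ * (d⁻¹ * z1 * d)) * d⁻¹ := by group
        _ = d * z1 * d⁻¹ := by rw [h7]
    have h9 : d * (d * z1 * d⁻¹) * d⁻¹ = d * z1 * d⁻¹ * z1 := by
      rw [eq_mul_inv_of_mul_eq h8, inv_eq_of_mul_eq_one_right (sq_of_elementary hAel hz1.1)]
    intro z hz
    have hrel : ∀ y ∈ Z, e⁻¹ * d * d * y * (e⁻¹ * d * d)⁻¹ = y := hreg (mul_mem (mul_mem (inv_mem he) hd) hd) (by
      rw [hconj_mul, hconj_mul, h9, ← hez z1 hz1]; group)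
    rw [← hez z hz]
    calc d * (d * z * d⁻¹) * d⁻¹ = e * (e⁻¹ * d * d * z * (e⁻¹ * d * d)⁻¹) * e⁻¹ := by group
      _ = e * z * e⁻¹ := by rw [hrel z hz]
  -- at most three nontrivial elements
  obtain ⟨w, hw, hw1, hwz⟩ : ∃ w ∈ Z, w ≠ 1 ∧ w ≠ z1 := by
    by_contra hno
    push Not at hno
    have hle : (Z : Set G).ncard ≤ 2 := by
      refine (Set.ncard_le_ncard (t := {1, z1}) (fun w hw => ?_) (Set.toFinite _)).trans
        ((Set.ncard_insert_le _ _).trans (by simp))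
      by_cases h1 : w = 1
      · exact Or.inl h1
      · exact Or.inr (hno w hw h1)
    rw [← Nat.card_coe_set_eq] at hle
    change Nat.card Z ≤ 2 at hle
    rw [hZ, h.card_inter] at hle
    omega
  obtain ⟨d, hd, hdw⟩ := htrans w hw hw1
  have hdne : d * z1 * d⁻¹ ≠ z1 := by rw [hdw]; exact hwz
  have hsub : (Z : Set G) ⊆ {1, z1, w, w * z1} := by
    intro v hv
    by_contra hno
    simp only [Set.mem_insert_iff, Set.mem_singleton_iff, not_or] at hno
    obtain ⟨hv1, hvz, hvw, hvwz⟩ := hno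
    obtain ⟨d', hd', hd'v⟩ := htrans v hv hv1
    have hd'ne : d' * z1 * d'⁻¹ ≠ z1 := by rw [hd'v]; exact hvz
    obtain ⟨g, hg, hgz⟩ := hsum hd hd' (by rw [hdw, hd'v]; exact Ne.symm hvw)
    have hggz : g * (g * z1 * g⁻¹) * g⁻¹ = g * z1 * g⁻¹ := by
      have hZd := hconjZ hd z1 hz1
      have hZd' := hconjZ hd' z1 hz1
      have hcz : d * (d' * z1 * d'⁻¹) * d⁻¹ = d' * (d * z1 * d⁻¹) * d'⁻¹ := hcomm hd hd' z1 hz1
      have hA' : d * (d' * z1 * d'⁻¹) * d⁻¹ ∈ A := (hconjZ hd _ hZd').1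
      rw [hgz z1 hz1, hconj_add, hgz _ hZd, hgz _ hZd', ← hcz,
        show d * (d * z1 * d⁻¹) * d⁻¹ * (d * (d' * z1 * d'⁻¹) * d⁻¹) *
            (d * (d' * z1 * d'⁻¹) * d⁻¹ * (d' * (d' * z1 * d'⁻¹) * d'⁻¹)) =
          d * (d * z1 * d⁻¹) * d⁻¹ * ((d * (d' * z1 * d'⁻¹) * d⁻¹) * (d * (d' * z1 * d'⁻¹) * d⁻¹)) *
            (d' * (d' * z1 * d'⁻¹) * d'⁻¹) by group,
        sq_of_elementary hAel hA', mul_one, hquad hd hdne z1 hz1, hquad hd' hd'ne z1 hz1,
        comm_of_elementary hAel hZd'.1 hz1.1,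
        show d * z1 * d⁻¹ * z1 * (z1 * (d' * z1 * d'⁻¹)) = d * z1 * d⁻¹ * (z1 * z1) * (d' * z1 * d'⁻¹) by group,
        sq_of_elementary hAel hz1.1, mul_one]
    have hgz1 : g * z1 * g⁻¹ = z1 := by
      calc g * z1 * g⁻¹ = g⁻¹ * (g * (g * z1 * g⁻¹) * g⁻¹) * g := by group
        _ = g⁻¹ * (g * z1 * g⁻¹) * g := by rw [hggz]
        _ = z1 := by group
    rw [hgz z1 hz1, hdw, hd'v] at hgz1
    refine hvwz ?_
    calc v = w⁻¹ * (w * v) := by group
      _ = w⁻¹ * z1 := by rw [hgz1]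
      _ = w * z1 := by rw [inv_eq_of_mul_eq_one_right (sq_of_elementary hAel hw.1)]
  have hfinal := Set.ncard_le_ncard hsub (Set.toFinite _)
  rw [← Nat.card_coe_set_eq] at hfinal
  change Nat.card Z ≤ _ at hfinal
  rw [hZ, h.card_inter] at hfinal
  have h4 : ({1, z1, w, w * z1} : Set G).ncard ≤ 4 := by
    refine (Set.ncard_insert_le _ _).trans ?_
    refine Nat.succ_le_succ ((Set.ncard_insert_le _ _).trans ?_)
    exact Nat.succ_le_succ ((Set.ncard_insert_le _ _).trans (by rw [Set.ncard_singleton]))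
  omega

end CfsgLib.CIT
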